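import Mathlib

/-!
# Split filtrations of finite projective modules (helper27)

`F : Γ → Submodule R M` antitone; it is split by a grading iff the graded pieces are finite
projective and the fibre ranks add up.
-/

open scoped TensorProduct
universe u v w

namespace Groth.Agent.Lib27.FiltSplit

section lattice

variable {Γ : Type w} [LinearOrder Γ] {L : Type*} [CompleteLattice L]

lemma biSup_Ioi_biSup_Ici (G : Γ → L) (γ : Γ) :
    (⨆ η ∈ Set.Ioi γ, ⨆ ζ ∈ Set.Ici η, G ζ) = ⨆ η ∈ Set.Ioi γ, G η := by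
  apply le_antisymm
  · refine iSup₂_le fun η hη => iSup₂_le fun ζ hζ => ?_
    exact le_biSup G (lt_of_lt_of_le hη hζ : ζ ∈ Set.Ioi γ)
  · refine iSup₂_le fun η hη => ?_
    refine le_trans ?_ (le_biSup (fun η => ⨆ ζ ∈ Set.Ici η, G ζ) hη)
    exact le_biSup G (Set.mem_Ici.2 le_rfl)

lemma biSup_Ici_eq (G : Γ → L) (γ : Γ) :
    (⨆ η ∈ Set.Ici γ, G η) = (⨆ η ∈ Set.Ioi γ, G η) ⊔ G γ := by
  rw [← Set.Ioi_insert, iSup_insert, sup_comm]

lemma biSup_Ioi_le_biSup_ne (G : Γ → L) (γ : Γ) :
    (⨆ η ∈ Set.Ioi γ, G η) ≤ ⨆ η, ⨆ (_ : η ≠ γ), G η := by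
  refine iSup₂_le fun η hη => ?_
  exact le_iSup₂ (f := fun η (_ : η ≠ γ) => G η) η (ne_of_gt hη)

end lattice

section vector

variable {Γ : Type w} [LinearOrder Γ] {K : Type u} [Field K] {V : Type v} [AddCommGroup V]
  [Module K V] [FiniteDimensional K V]

/-- Lower bound: the sum of the jumps over a finite set is at most the dimension of the span of
the complements. -/
lemma sum_jump_le (Fx Gb : Γ → Submodule K V)
    (hsup : ∀ γ, Fx γ = (⨆ η ∈ Set.Ioi γ, Fx η) ⊔ Gb γ) (S : Finset Γ) :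
    ∑ γ ∈ S, (Module.finrank K (Fx γ) - Module.finrank K ↥(⨆ η ∈ Set.Ioi γ, Fx η)) ≤
      Module.finrank K ↥(⨆ γ ∈ S, Gb γ) := by
  classical
  induction S using Finset.induction_on_min with
  | empty => simp
  | insert a s ha ih =>
    have hne : a ∉ s := fun h => lt_irrefl a (ha a h)
    rw [Finset.sum_insert hne, Finset.iSup_insert]
    set W := ⨆ γ ∈ s, Gb γ with hW
    set P := ⨆ η ∈ Set.Ioi a, Fx η with hP
    have hWP : W ≤ P := by
      refine iSup₂_le fun γ hγ => ?_
      have h1 : Gb γ ≤ Fx γ := by rw [hsup γ]; exact le_sup_right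
      exact h1.trans (le_biSup Fx (ha γ hγ : γ ∈ Set.Ioi a))
    have e1 := Submodule.finrank_sup_add_finrank_inf_eq (Gb a) W
    have e2 := Submodule.finrank_sup_add_finrank_inf_eq P (Gb a)
    have e3 : Module.finrank K ↥(Gb a ⊓ W) ≤ Module.finrank K ↥(P ⊓ Gb a) := by
      apply Submodule.finrank_mono
      rw [inf_comm]
      exact inf_le_inf_right _ hWP
    have e4 : Module.finrank K (Fx a) = Module.finrank K ↥(P ⊔ Gb a) := by
      rw [hP, ← hsup a]
    have e5 : Module.finrank K ↥(P ⊓ Gb a) ≤ Module.finrank K ↥(Gb a) :=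
      Submodule.finrank_mono inf_le_right
    rw [e4]
    omega

lemma finrank_biSup_le (Gb : Γ → Submodule K V) (S : Finset Γ) :
    Module.finrank K ↥(⨆ γ ∈ S, Gb γ) ≤ ∑ γ ∈ S, Module.finrank K (Gb γ) := by
  classical
  induction S using Finset.induction_on with
  | empty => simp
  | insert a s ha ih =>
    rw [Finset.sum_insert ha, Finset.iSup_insert]
    exact (Submodule.finrank_add_le_finrank_add_finrank _ _).trans (by omega)

/-- Equality for a filtration split by a decomposition. -/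
lemma finrank_eq_finsum_jump (Fx Gb : Γ → Submodule K V) (hind : iSupIndep Gb)
    (htop : ⨆ γ, Gb γ = ⊤) (hF : ∀ γ, Fx γ = ⨆ η ∈ Set.Ici γ, Gb η) :
    Module.finrank K V =
      ∑ᶠ γ, (Module.finrank K (Fx γ) - Module.finrank K ↥(⨆ η ∈ Set.Ioi γ, Fx η)) := by
  classical
  have hFp : ∀ γ, (⨆ η ∈ Set.Ioi γ, Fx η) = ⨆ η ∈ Set.Ioi γ, Gb η := by
    intro γ
    have : (fun η => Fx η) = fun η => ⨆ ζ ∈ Set.Ici η, Gb ζ := funext hF
    simp only [hF]
    exact biSup_Ioi_biSup_Ici Gb γ
  have hsup : ∀ γ, Fx γ = (⨆ η ∈ Set.Ioi γ, Fx η) ⊔ Gb γ := by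
    intro γ
    rw [hFp, hF, biSup_Ici_eq]
  have hdisj : ∀ γ, (⨆ η ∈ Set.Ioi γ, Fx η) ⊓ Gb γ = ⊥ := by
    intro γ
    rw [hFp]
    have h1 := hind γ
    have h2 : Disjoint (Gb γ) (⨆ η ∈ Set.Ioi γ, Gb η) :=
      h1.mono_right (biSup_Ioi_le_biSup_ne Gb γ)
    exact h2.symm.eq_bot
  have hd : ∀ γ, Module.finrank K (Fx γ) - Module.finrank K ↥(⨆ η ∈ Set.Ioi γ, Fx η) =
      Module.finrank K (Gb γ) := by
    intro γ
    have e2 := Submodule.finrank_sup_add_finrank_inf_eq (⨆ η ∈ Set.Ioi γ, Fx η) (Gb γ)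
    rw [hdisj γ, ← hsup γ, finrank_bot] at e2
    omega
  have hfin : {γ | Gb γ ≠ ⊥}.Finite := WellFoundedGT.finite_ne_bot_of_iSupIndep hind
  set S := hfin.toFinset with hS
  have hsupp : Function.support (fun γ => Module.finrank K (Fx γ) -
      Module.finrank K ↥(⨆ η ∈ Set.Ioi γ, Fx η)) ⊆ ↑S := by
    intro γ hγ
    simp only [Function.mem_support, hd] at hγ
    simp only [hS, Set.Finite.coe_toFinset, Set.mem_ofPred_eq]
    intro h
    rw [h, finrank_bot] at hγ
    exact hγ rfl
  rw [finsum_eq_sum_of_support_subset _ hsupp]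
  apply le_antisymm
  · have hST : (⨆ γ ∈ S, Gb γ) = ⊤ := by
      rw [← htop]
      apply le_antisymm
      · exact iSup₂_le fun γ _ => le_iSup Gb γ
      · refine iSup_le fun γ => ?_
        by_cases h : Gb γ = ⊥
        · rw [h]; exact bot_le
        · exact le_biSup Gb (by simp [hS, h] : γ ∈ S)
    calc Module.finrank K V = Module.finrank K ↥(⊤ : Submodule K V) := (finrank_top K V).symm
      _ = Module.finrank K ↥(⨆ γ ∈ S, Gb γ) := by rw [hST]
      _ ≤ ∑ γ ∈ S, Module.finrank K (Gb γ) := finrank_biSup_le Gb S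
      _ = _ := Finset.sum_congr rfl fun γ _ => (hd γ).symm
  · exact (sum_jump_le Fx Gb hsup S).trans (Submodule.finrank_le _)

end vector

section bc

variable {R : Type u} [CommRing R] {M : Type v} [AddCommGroup M] [Module R M]
  (A : Type*) [CommRing A] [Algebra R A]

lemma tmul_mem_iSup_baseChange {ι : Sort*} (p : ι → Submodule R M) {m : M}
    (hm : m ∈ ⨆ i, p i) (a : A) : a ⊗ₜ[R] m ∈ ⨆ i, (p i).baseChange A := by
  refine Submodule.iSup_induction p (motive := fun m => a ⊗ₜ[R] m ∈ ⨆ i, (p i).baseChange A) hm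
    (fun i x hx => ?_) (by simp) (fun x y hx hy => ?_)
  · exact (le_iSup (fun i => (p i).baseChange A) i) (Submodule.tmul_mem_baseChange_of_mem a hx)
  · rw [TensorProduct.tmul_add]; exact add_mem hx hy

lemma baseChange_iSup {ι : Sort*} (p : ι → Submodule R M) :
    (⨆ i, p i).baseChange A = ⨆ i, (p i).baseChange A := by
  apply le_antisymm
  · rw [Submodule.baseChange_eq_span, Submodule.span_le]
    rintro _ ⟨m, hm, rfl⟩
    exact tmul_mem_iSup_baseChange A p hm 1
  · exact iSup_le fun i => Submodule.baseChange_mono A (le_iSup p i)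

lemma baseChange_sup (p q : Submodule R M) :
    (p ⊔ q).baseChange A = p.baseChange A ⊔ q.baseChange A := by
  rw [sup_eq_iSup, baseChange_iSup, sup_eq_iSup]
  congr 1
  funext b
  cases b <;> rfl

lemma baseChange_apply_congr (N : Submodule R M) {M' : Type*} [AddCommGroup M'] [Module R M']
    (f g : M →ₗ[R] M') (h : ∀ n ∈ N, f n = g n) {x : A ⊗[R] M} (hx : x ∈ N.baseChange A) :
    f.baseChange A x = g.baseChange A x := by
  obtain ⟨z, rfl⟩ := hx
  rw [← LinearMap.comp_apply, ← LinearMap.comp_apply, ← LinearMap.baseChange_comp,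
    ← LinearMap.baseChange_comp]
  congr 2
  ext n
  exact h n n.2

/-- Nakayama: a submodule of a finite module whose base change to every residue field is
everything is everything. -/
lemma eq_top_of_forall_baseChange_eq_top [Module.Finite R M] (N : Submodule R M)
    (h : ∀ p : PrimeSpectrum R, N.baseChange p.asIdeal.ResidueField = ⊤) : N = ⊤ := by
  rw [← Submodule.Quotient.subsingleton_iff, ← Module.support_eq_empty_iff (R := R),
    Set.eq_empty_iff_forall_notMem]
  intro p hp
  rw [Module.mem_support_iff_nontrivial_residueField_tensorProduct] at hp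
  have hs : Function.Surjective (N.mkQ.baseChange p.asIdeal.ResidueField) := by
    rw [LinearMap.baseChange_eq_ltensor]
    exact LinearMap.lTensor_surjective _ N.mkQ_surjective
  have hz : ∀ x : p.asIdeal.ResidueField ⊗[R] (M ⧸ N), x = 0 := by
    intro x
    obtain ⟨y, rfl⟩ := hs x
    have hy : y ∈ N.baseChange p.asIdeal.ResidueField := by rw [h p]; trivial
    have := baseChange_apply_congr p.asIdeal.ResidueField N N.mkQ 0
      (fun n hn => by simpa using hn) hy
    rw [this]
    simp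
  obtain ⟨x, y, hxy⟩ := hp
  exact hxy ((hz x).trans (hz y).symm)

end bc

section main

open DirectSum

variable {Γ : Type w} [AddCommGroup Γ] [LinearOrder Γ] [IsOrderedAddMonoid Γ] [Nontrivial Γ]
  {R : Type u} [CommRing R] {M : Type v} [AddCommGroup M] [Module R M]

/-- Key minimal-index lemma. -/
lemma coeff_eq_zero_of_sum_mem (F G : Γ → Submodule R M)
    (hGF : ∀ γ, G γ ≤ F γ) (hdisj : ∀ γ, Disjoint (⨆ η ∈ Set.Ioi γ, F η) (G γ))
    (m : ⨁ γ, G γ) (γ0 : Γ) (hm : DirectSum.coeLinearMap G m ∈ F γ0) :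
    ∀ η < γ0, m η = 0 := by
  classical
  by_contra hcon
  push_neg at hcon
  obtain ⟨η1, hη1, hne1⟩ := hcon
  set T := m.support.filter (· < γ0) with hT
  have hTne : T.Nonempty := ⟨η1, by
    rw [hT, Finset.mem_filter, DFinsupp.mem_support_iff]; exact ⟨hne1, hη1⟩⟩
  set η0 := T.min' hTne with hη0
  have hη0T : η0 ∈ T := Finset.min'_mem T hTne
  have hη0lt : η0 < γ0 := (Finset.mem_filter.1 hη0T).2
  have hη0s : η0 ∈ m.support := (Finset.mem_filter.1 hη0T).1
  have hη0ne : m η0 ≠ 0 := DFinsupp.mem_support_iff.1 hη0s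
  have hrest : ∀ η ∈ m.support.erase η0, η0 < η := by
    intro η hη
    rw [Finset.mem_erase] at hη
    rcases lt_trichotomy η η0 with h | h | h
    · exfalso
      have : η ∈ T := Finset.mem_filter.2 ⟨hη.2, h.trans hη0lt⟩
      exact absurd (Finset.min'_le T η this) (not_le.2 h)
    · exact absurd h hη.1
    · exact h
  have hsum : DirectSum.coeLinearMap G m =
      (m η0 : M) + ∑ η ∈ m.support.erase η0, (m η : M) := by
    rw [DirectSum.coeLinearMap_eq_dfinsuppSum, DFinsupp.sum,
      Finset.add_sum_erase _ (fun η => (m η : M)) hη0s]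
  have hP : ∀ η, η0 < η → F η ≤ ⨆ ζ ∈ Set.Ioi η0, F ζ := fun η h => le_biSup F h
  have h1 : (m η0 : M) ∈ ⨆ ζ ∈ Set.Ioi η0, F ζ := by
    have : (m η0 : M) =
        DirectSum.coeLinearMap G m - ∑ η ∈ m.support.erase η0, (m η : M) := by
      rw [hsum]; abel
    rw [this]
    refine sub_mem (hP γ0 hη0lt hm) (Submodule.sum_mem _ fun η hη => ?_)
    exact hP η (hrest η hη) (hGF η (m η).2)
  have h2 : (m η0 : M) = 0 := by
    have := (Submodule.disjoint_def.1 (hdisj η0)) _ h1 (m η0).2
    exact this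
  exact hη0ne (Subtype.ext h2)

/-- Step 1: complements from projectivity of the graded pieces. -/
lemma exists_compl (F : Γ → Submodule R M) (hF : Antitone F) (γ : Γ)
    (hproj : Module.Projective R
      (↥(F γ) ⧸ Submodule.comap (F γ).subtype (⨆ η ∈ Set.Ioi γ, F η))) :
    ∃ Gγ : Submodule R M, Gγ ≤ F γ ∧ F γ = (⨆ η ∈ Set.Ioi γ, F η) ⊔ Gγ ∧
      Disjoint (⨆ η ∈ Set.Ioi γ, F η) Gγ := by
  set P := ⨆ η ∈ Set.Ioi γ, F η with hP
  have hPF : P ≤ F γ := iSup₂_le fun η hη => hF (le_of_lt hη)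
  set C := Submodule.comap (F γ).subtype P with hC
  obtain ⟨s, hs⟩ := Module.projective_lifting_property C.mkQ LinearMap.id
    (Submodule.mkQ_surjective _)
  have hs' : ∀ q, C.mkQ (s q) = q := fun q => LinearMap.congr_fun hs q
  have hrange : (LinearMap.range s).map (F γ).subtype ≤ F γ := by
    rintro _ ⟨y, _, rfl⟩; exact y.2
  refine ⟨(LinearMap.range s).map (F γ).subtype, hrange, ?_, ?_⟩
  · apply le_antisymm
    · intro x hx
      set x' : F γ := ⟨x, hx⟩ with hx'
      have hy : x' - s (C.mkQ x') ∈ C := by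
        have h0 : C.mkQ (x' - s (C.mkQ x')) = 0 := by rw [map_sub, hs', sub_self]
        exact (Submodule.Quotient.mk_eq_zero C).1 h0
      have hxe : x = ((x' - s (C.mkQ x') : F γ) : M) + ((s (C.mkQ x') : F γ) : M) := by
        rw [← Submodule.coe_add, sub_add_cancel]
      rw [hxe]
      exact Submodule.add_mem_sup hy ⟨_, ⟨_, rfl⟩, rfl⟩
    · exact sup_le hPF hrange
  · rw [Submodule.disjoint_def]
    rintro z hz ⟨y, ⟨q, rfl⟩, rfl⟩
    have h1 : C.mkQ (s q) = 0 := (Submodule.Quotient.mk_eq_zero C).2 hz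
    rw [hs'] at h1
    rw [h1]; simp

/-- (4) ⇒ (1). -/
theorem exists_grading [Module.Finite R M] (F : Γ → Submodule R M) (hF : Antitone F)
    (hproj : ∀ γ, Module.Projective R
      (↥(F γ) ⧸ Submodule.comap (F γ).subtype (⨆ η ∈ Set.Ioi γ, F η)))
    (hrank : ∀ p : PrimeSpectrum R,
      Module.finrank p.asIdeal.ResidueField (p.asIdeal.ResidueField ⊗[R] M) =
        ∑ᶠ γ, (Module.finrank p.asIdeal.ResidueField
            ↥((F γ).baseChange p.asIdeal.ResidueField) -
          Module.finrank p.asIdeal.ResidueField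
            ↥(⨆ η ∈ Set.Ioi γ, (F η).baseChange p.asIdeal.ResidueField))) :
    ∃ G : Γ → Submodule R M, DirectSum.IsInternal G ∧ ∀ γ, F γ = ⨆ η ∈ Set.Ici γ, G η := by
  classical
  choose G hGF hGsup hGdisj using fun γ => exists_compl F hF γ (hproj γ)
  have hinj : Function.Injective (DirectSum.coeLinearMap G) := by
    rw [injective_iff_map_eq_zero]
    intro m hm
    refine DFinsupp.ext fun η => ?_
    obtain ⟨γ0, hγ0⟩ := exists_gt η
    exact coeff_eq_zero_of_sum_mem F G hGF hGdisj m γ0 (by rw [hm]; exact zero_mem _) η hγ0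
  have htop : ⨆ γ, G γ = ⊤ := by
    refine eq_top_of_forall_baseChange_eq_top _ fun p => ?_
    set K := p.asIdeal.ResidueField with hK
    rw [baseChange_iSup]
    have hsup' : ∀ γ, (F γ).baseChange K =
        (⨆ η ∈ Set.Ioi γ, (F η).baseChange K) ⊔ (G γ).baseChange K := by
      intro γ
      conv_lhs => rw [hGsup γ]
      rw [baseChange_sup]
      simp only [baseChange_iSup]
    have hle : Module.finrank K (K ⊗[R] M) ≤ Module.finrank K ↥(⨆ γ, (G γ).baseChange K) := by
      rw [hrank p]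
      by_cases hfin : (Function.support fun γ =>
          (Module.finrank K ↥((F γ).baseChange K) -
            Module.finrank K ↥(⨆ η ∈ Set.Ioi γ, (F η).baseChange K))).Finite
      · rw [finsum_eq_sum_of_support_subset _ (s := hfin.toFinset) (le_of_eq hfin.coe_toFinset.symm)]
        refine (sum_jump_le _ _ hsup' hfin.toFinset).trans (Submodule.finrank_mono ?_)
        exact iSup₂_le fun γ _ => le_iSup (fun γ => (G γ).baseChange K) γ
      · rw [finsum_of_infinite_support hfin]
        exact Nat.zero_le _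
    exact Submodule.eq_top_of_finrank_eq (le_antisymm (Submodule.finrank_le _) hle)
  have hI : DirectSum.IsInternal G :=
    DirectSum.isInternal_submodule_of_iSupIndep_of_iSup_eq_top
      (iSupIndep_of_dfinsupp_lsum_injective G hinj) htop
  refine ⟨G, hI, fun γ => le_antisymm ?_ ?_⟩
  · intro x hx
    obtain ⟨m, rfl⟩ := (show Function.Bijective (DirectSum.coeLinearMap G) from hI).2 x
    have hz := coeff_eq_zero_of_sum_mem F G hGF hGdisj m γ hx
    rw [DirectSum.coeLinearMap_eq_dfinsuppSum, DFinsupp.sum]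
    refine Submodule.sum_mem _ fun η hη => ?_
    have hηγ : γ ≤ η := by
      by_contra hlt
      exact (DFinsupp.mem_support_iff.1 hη) (hz η (not_le.1 hlt))
    exact (le_biSup G (Set.mem_Ici.2 hηγ)) (m η).2
  · exact iSup₂_le fun η hη => (hGF η).trans (hF hη)

/-- (1) ⇒ (4). -/
theorem of_grading [Module.Finite R M] [Module.Projective R M] (F G : Γ → Submodule R M)
    (hI : DirectSum.IsInternal G) (hFG : ∀ γ, F γ = ⨆ η ∈ Set.Ici γ, G η) :
    (∀ γ, Module.Finite R (↥(F γ) ⧸ Submodule.comap (F γ).subtype (⨆ η ∈ Set.Ioi γ, F η)) ∧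
      Module.Projective R
        (↥(F γ) ⧸ Submodule.comap (F γ).subtype (⨆ η ∈ Set.Ioi γ, F η))) ∧
    ∀ p : PrimeSpectrum R,
      Module.finrank p.asIdeal.ResidueField (p.asIdeal.ResidueField ⊗[R] M) =
        ∑ᶠ γ, (Module.finrank p.asIdeal.ResidueField
            ↥((F γ).baseChange p.asIdeal.ResidueField) -
          Module.finrank p.asIdeal.ResidueField
            ↥(⨆ η ∈ Set.Ioi γ, (F η).baseChange p.asIdeal.ResidueField)) := by
  classical
  have hind := hI.submodule_iSupIndep
  have htop := hI.submodule_iSup_eq_top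
  have hFp : ∀ γ, (⨆ η ∈ Set.Ioi γ, F η) = ⨆ η ∈ Set.Ioi γ, G η := by
    intro γ
    simp only [hFG]
    exact biSup_Ioi_biSup_Ici G γ
  have hcompl : ∀ γ, IsCompl (G γ) (⨆ η, ⨆ (_ : η ≠ γ), G η) := fun γ =>
    ⟨hind γ, codisjoint_iff.2 (by rw [← iSup_split_single G γ, htop])⟩
  have hπid : ∀ γ, ((G γ).projectionOnto _ (hcompl γ)) ∘ₗ (G γ).subtype = LinearMap.id := by
    intro γ
    ext g
    simp [Submodule.projectionOnto_apply_left]
  constructor
  · intro γ
    set P := ⨆ η ∈ Set.Ioi γ, F η with hP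
    set C := Submodule.comap (F γ).subtype P with hC
    have hGF : G γ ≤ F γ := by rw [hFG]; exact le_biSup G (Set.mem_Ici.2 le_rfl)
    let φ : G γ →ₗ[R] (F γ ⧸ C) := C.mkQ ∘ₗ Submodule.inclusion hGF
    have hφ : Function.Bijective φ := by
      constructor
      · rw [injective_iff_map_eq_zero]
        intro g hg
        have h0 : Submodule.inclusion hGF g ∈ C := (Submodule.Quotient.mk_eq_zero C).1 hg
        have h0' : (g : M) ∈ P := h0
        have h1 : (g : M) ∈ ⨆ η, ⨆ (_ : η ≠ γ), G η :=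
          biSup_Ioi_le_biSup_ne G γ (by rw [← hFp]; exact h0')
        exact Subtype.ext (Submodule.disjoint_def.1 (hind γ) _ g.2 h1)
      · intro q
        obtain ⟨x, rfl⟩ := C.mkQ_surjective q
        have hx : (x : M) ∈ P ⊔ G γ := by
          rw [hP, hFp, ← biSup_Ici_eq, ← hFG]; exact x.2
        obtain ⟨y, hy, g, hg, hyg⟩ := Submodule.mem_sup.1 hx
        refine ⟨⟨g, hg⟩, ?_⟩
        symm
        rw [← sub_eq_zero]
        show C.mkQ x - C.mkQ (Submodule.inclusion hGF ⟨g, hg⟩) = 0
        rw [← map_sub]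
        apply (Submodule.Quotient.mk_eq_zero C).2
        show ((x - Submodule.inclusion hGF ⟨g, hg⟩ : F γ) : M) ∈ P
        have : ((x - Submodule.inclusion hGF ⟨g, hg⟩ : F γ) : M) = y := by
          simp [← hyg]
        rw [this]; exact hy
    let e := LinearEquiv.ofBijective φ hφ
    haveI : Module.Projective R (G γ) :=
      Module.Projective.of_split (G γ).subtype _ (hπid γ)
    haveI : Module.Finite R (G γ) :=
      Module.Finite.of_surjective _ (Submodule.projectionOnto_surjective (hcompl γ))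
    exact ⟨Module.Finite.equiv e, Module.Projective.of_equiv e⟩
  · intro p
    set K := p.asIdeal.ResidueField with hK
    apply finrank_eq_finsum_jump (fun γ => (F γ).baseChange K) (fun γ => (G γ).baseChange K)
    · intro γ
      rw [Submodule.disjoint_def]
      intro x hx1 hx2
      set π := (G γ).projectionOnto _ (hcompl γ) with hπ
      let e : M →ₗ[R] M := (G γ).subtype ∘ₗ π
      have h1 := baseChange_apply_congr K (G γ) e LinearMap.id (fun n hn => by
        show ((π n : G γ) : M) = n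
        rw [hπ, Submodule.projectionOnto_apply_of_mem_left (hcompl γ) hn]) hx1
      have hx2' : x ∈ (⨆ η, ⨆ (_ : η ≠ γ), G η).baseChange K := by
        simp only [baseChange_iSup]
        exact hx2
      have h2 := baseChange_apply_congr K (⨆ η, ⨆ (_ : η ≠ γ), G η) e 0 (fun n hn => by
        show ((π n : G γ) : M) = 0
        rw [hπ, Submodule.projectionOnto_apply_of_mem_right (hcompl γ) hn]; rfl) hx2'
      rw [h1] at h2
      simpa using h2
    · show ⨆ γ, (G γ).baseChange K = ⊤
      rw [← baseChange_iSup, htop, Submodule.baseChange_top]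
    · intro γ
      show (F γ).baseChange K = _
      rw [hFG]
      simp only [baseChange_iSup]

/-- The equivalence (1) ⇔ (4). -/
theorem main [Module.Finite R M] [Module.Projective R M]
    (F : Γ → Submodule R M) (hF : Antitone F)
    (Fp : Γ → Submodule R M) (hFp : ∀ γ, Fp γ = ⨆ η ∈ Set.Ioi γ, F η) :
    (∃ G : Γ → Submodule R M, DirectSum.IsInternal G ∧ ∀ γ, F γ = ⨆ η ∈ Set.Ici γ, G η) ↔
    ((∀ γ, Module.Finite R (↥(F γ) ⧸ Submodule.comap (F γ).subtype (Fp γ)) ∧
        Module.Projective R (↥(F γ) ⧸ Submodule.comap (F γ).subtype (Fp γ))) ∧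
      ∀ (p : PrimeSpectrum R)
        (Fx : Γ → Submodule p.asIdeal.ResidueField (p.asIdeal.ResidueField ⊗[R] M)),
        (∀ γ, Fx γ = LinearMap.range ((F γ).subtype.baseChange p.asIdeal.ResidueField)) →
        Module.finrank p.asIdeal.ResidueField (p.asIdeal.ResidueField ⊗[R] M) =
          ∑ᶠ γ, (Module.finrank p.asIdeal.ResidueField ↥(Fx γ) -
            Module.finrank p.asIdeal.ResidueField ↥(⨆ η ∈ Set.Ioi γ, Fx η))) := by
  obtain rfl : Fp = fun γ => ⨆ η ∈ Set.Ioi γ, F η := funext hFp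
  constructor
  · rintro ⟨G, hI, hFG⟩
    obtain ⟨h1, h2⟩ := of_grading F G hI hFG
    refine ⟨h1, fun p Fx hFx => ?_⟩
    obtain rfl : Fx = fun γ => (F γ).baseChange p.asIdeal.ResidueField := funext hFx
    exact h2 p
  · rintro ⟨h1, h2⟩
    exact exists_grading F hF (fun γ => (h1 γ).2) (fun p => h2 p _ (fun γ => rfl))

end main

end Groth.Agent.Lib27.FiltSplit
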