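import Mathlib
import Groth.Agent.Lib27.Alg.FiltSplit

/-!
# Torsors under a finite group over an affine base: trace-one element and invariants (helper27)

`B` is a finite étale `A`-algebra with an action `σ` of a finite group `G` which is simply
transitive on the geometric points.  We prove that there is an element of trace one and that the
ring of invariants is `A`.
-/

open scoped TensorProduct
universe u

namespace Groth.Agent.Lib27.GaloisTorsor

section generic

variable {A : Type u} [CommRing A] {B : Type u} [CommRing B] [Algebra A B]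
  {G : Type} [Group G] [Fintype G]
  (σ : G → (B →ₐ[A] B)) (hσ1 : σ 1 = AlgHom.id A B)
  (hσmul : ∀ g h, σ (g * h) = (σ g).comp (σ h))
  (hT : ∀ (Ω : Type u) [Field Ω] [IsAlgClosed Ω] [Algebra A Ω] (χ χ' : B →ₐ[A] Ω),
    ∃! g : G, χ.comp (σ g) = χ')

/-- The trace. -/
noncomputable def tr (b : B) : B := ∑ g, σ g b

lemma tr_add (b c : B) : tr σ (b + c) = tr σ b + tr σ c := by
  unfold tr; simp only [map_add, Finset.sum_add_distrib]

lemma tr_zero : tr σ (0 : B) = 0 := by
  unfold tr; simp

lemma tr_smul (a : A) (b : B) : tr σ (a • b) = a • tr σ b := by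
  unfold tr; simp only [map_smul, Finset.smul_sum]

include hσmul in
lemma sigma_tr (h : G) (b : B) : σ h (tr σ b) = tr σ b := by
  unfold tr
  rw [map_sum]
  refine Fintype.sum_equiv (Equiv.mulLeft h) (fun g => σ h (σ g b)) (fun g => σ g b) (fun g => ?_)
  rw [Equiv.coe_mulLeft, hσmul]
  rfl

/-- The invariants as a subalgebra. -/
def Cinv : Subalgebra A B where
  carrier := {c | ∀ g : G, σ g c = c}
  add_mem' {a b} ha hb g := by rw [map_add, ha g, hb g]
  mul_mem' {a b} ha hb g := by rw [map_mul, ha g, hb g]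
  algebraMap_mem' a g := (σ g).commutes a

lemma mem_Cinv {b : B} : b ∈ Cinv σ ↔ ∀ g, σ g b = b := Iff.rfl

lemma tr_mul_of_mem {x : B} (hx : x ∈ Cinv σ) (b : B) : tr σ (x * b) = x * tr σ b := by
  unfold tr
  rw [Finset.mul_sum]
  refine Finset.sum_congr rfl fun g _ => ?_
  rw [map_mul, hx g]

include hσmul in
lemma tr_mem (b : B) : tr σ b ∈ Cinv σ := fun h => sigma_tr σ hσmul h b

include hσmul hT in
/-- There is an element of trace one. -/
theorem exists_trace_one [Module.Finite A B] : ∃ c : B, tr σ c = 1 := by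
  classical
  -- the ideal of traces in the ring of invariants
  let I : Ideal (Cinv σ) :=
    { carrier := {x | ∃ b : B, tr σ b = (x : B)}
      add_mem' := by
        rintro x y ⟨b, hb⟩ ⟨c, hc⟩
        exact ⟨b + c, by rw [tr_add, hb, hc]; rfl⟩
      zero_mem' := ⟨0, by rw [tr_zero]; rfl⟩
      smul_mem' := by
        rintro x y ⟨b, hb⟩
        refine ⟨(x : B) * b, ?_⟩
        rw [tr_mul_of_mem σ x.2, hb]
        rfl }
  by_cases hI : I = ⊤
  · have h1 : (1 : Cinv σ) ∈ I := by rw [hI]; trivial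
    obtain ⟨c, hc⟩ := h1
    exact ⟨c, hc⟩
  exfalso
  obtain ⟨m', hm'max, hIm'⟩ := Ideal.exists_le_maximal I hI
  haveI : Algebra.IsIntegral A B := Algebra.IsIntegral.of_finite A B
  haveI : Algebra.IsIntegral (Cinv σ) B := Algebra.IsIntegral.tower_top (R := A)
  have hker : RingHom.ker (algebraMap (Cinv σ) B) ≤ m' := by
    intro x hx
    rw [RingHom.mem_ker] at hx
    have : x = 0 := Subtype.ext hx
    rw [this]; exact zero_mem _
  obtain ⟨Q, hQmax, hQ⟩ := Ideal.exists_ideal_over_maximal_of_isIntegral (S := B) m' hker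
  letI : Field (B ⧸ Q) := Ideal.Quotient.field Q
  let Ω : Type u := AlgebraicClosure (B ⧸ Q)
  let ψ : B →+* Ω := (algebraMap (B ⧸ Q) Ω).comp (Ideal.Quotient.mk Q)
  letI : Algebra A Ω := (ψ.comp (algebraMap A B)).toAlgebra
  let χ : B →ₐ[A] Ω := { toRingHom := ψ, commutes' := fun _ => rfl }
  have hχ : ∀ b, χ (tr σ b) = 0 := by
    intro b
    have h1 : (⟨tr σ b, tr_mem σ hσmul b⟩ : Cinv σ) ∈ m' := hIm' ⟨b, rfl⟩
    rw [← hQ] at h1
    have h2 : tr σ b ∈ Q := h1
    show (algebraMap (B ⧸ Q) Ω) (Ideal.Quotient.mk Q (tr σ b)) = 0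
    rw [Ideal.Quotient.eq_zero_iff_mem.mpr h2, map_zero]
  let v : G → (B →* Ω) := fun g => ((χ.comp (σ g) : B →ₐ[A] Ω) : B →* Ω)
  have hvinj : Function.Injective v := by
    intro g h hgh
    have h1 : χ.comp (σ g) = χ.comp (σ h) := by
      ext b
      exact DFunLike.congr_fun hgh b
    exact (hT Ω χ (χ.comp (σ h))).unique h1 rfl
  have hli := (linearIndependent_monoidHom B Ω).comp v hvinj
  rw [Fintype.linearIndependent_iff] at hli
  have hc := hli (fun _ => (1 : Ω)) (by
    funext b
    have h0 := hχ b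
    unfold tr at h0
    rw [map_sum] at h0
    simp only [Finset.sum_apply, Pi.smul_apply, Function.comp_apply, smul_eq_mul,
      Pi.zero_apply, one_mul]
    rw [← h0]
    rfl) 1
  exact one_ne_zero hc

end generic

section invariants

variable {A : Type u} [CommRing A] {B : Type u} [CommRing B] [Algebra A B]

/-- Separation of points of the geometric fibre. -/
lemma eq_zero_of_forall_algHom (Ω : Type u) [Field Ω] [IsAlgClosed Ω] [Algebra A Ω]
    [Algebra.Etale A B] (x : Ω ⊗[A] B)
    (h : ∀ π : (Ω ⊗[A] B) →ₐ[Ω] Ω, π x = 0) : x = 0 := by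
  let e := Algebra.FormallyEtale.equivPiOfIsSepClosed Ω (Ω ⊗[A] B)
  apply e.injective
  rw [map_zero]
  funext p
  exact h ((Pi.evalAlgHom Ω (fun _ => Ω) p).comp e.toAlgHom)

variable {G : Type} [Group G] [Fintype G]
  (σ : G → (B →ₐ[A] B))
  (hσmul : ∀ g h, σ (g * h) = (σ g).comp (σ h))
  (hT : ∀ (Ω : Type u) [Field Ω] [IsAlgClosed Ω] [Algebra A Ω] (χ χ' : B →ₐ[A] Ω),
    ∃! g : G, χ.comp (σ g) = χ')

include hσmul hT in
/-- Invariants of a torsor are scalars. -/
theorem invariants_eq [Algebra.Etale A B] [Module.Finite A B] (b : B)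
    (hb : ∀ g : G, σ g b = b) : ∃ a : A, algebraMap A B a = b := by
  classical
  obtain ⟨c, hc⟩ := exists_trace_one σ hσmul hT
  set C : Submodule A B := Subalgebra.toSubmodule (Cinv σ) with hC
  -- the projection onto the invariants
  let pr0 : B →ₗ[A] B :=
    { toFun := fun x => tr σ (c * x)
      map_add' := fun x y => by rw [mul_add, tr_add]
      map_smul' := fun a x => by
        rw [RingHom.id_apply, mul_smul_comm, tr_smul] }
  have hpr0mem : ∀ x, pr0 x ∈ C := fun x => tr_mem σ hσmul (c * x)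
  let pr : B →ₗ[A] C := pr0.codRestrict C hpr0mem
  have hsplit : pr ∘ₗ C.subtype = LinearMap.id := by
    ext x
    show tr σ (c * (x : B)) = x
    rw [mul_comm, tr_mul_of_mem σ x.2, hc, mul_one]
  haveI : Module.Finite A C := Module.Finite.of_surjective pr (fun x =>
    ⟨x, LinearMap.congr_fun hsplit x⟩)
  let oneC : C := ⟨1, fun g => map_one _⟩
  let N1 : Submodule A C := Submodule.span A {oneC}
  have hN1 : N1 = ⊤ := by
    refine Groth.Agent.Lib27.FiltSplit.eq_top_of_forall_baseChange_eq_top N1 fun 𝔭 => ?_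
    set K := 𝔭.asIdeal.ResidueField with hK
    let Ω : Type u := AlgebraicClosure K
    let Φ : Ω ⊗[A] C →ₗ[Ω] Ω ⊗[A] B := C.subtype.baseChange Ω
    have hΦinj : Function.Injective Φ := by
      have hl : (pr.baseChange Ω) ∘ₗ Φ = LinearMap.id := by
        rw [← LinearMap.baseChange_comp, hsplit, LinearMap.baseChange_id]
      exact Function.LeftInverse.injective (g := pr.baseChange Ω)
        (fun x => LinearMap.congr_fun hl x)
    have hgen : ∀ w : Ω ⊗[A] C, ∃ ω : Ω, ω • ((1 : Ω) ⊗ₜ[A] oneC) = w := by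
      by_cases hpt : Nonempty (B →ₐ[A] Ω)
      · obtain ⟨χ₀⟩ := hpt
        intro w
        induction w using TensorProduct.induction_on with
        | zero => exact ⟨0, zero_smul _ _⟩
        | tmul ω x =>
          refine ⟨ω * χ₀ (x : B), hΦinj ?_⟩
          rw [map_smul]
          show (ω * χ₀ (x : B)) • ((1 : Ω) ⊗ₜ[A] (1 : B)) = ω ⊗ₜ[A] (x : B)
          rw [← sub_eq_zero]
          apply eq_zero_of_forall_algHom Ω
          intro π
          rw [map_sub, map_smul, sub_eq_zero]
          have h1 : π ((1 : Ω) ⊗ₜ[A] (1 : B)) = 1 := map_one π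
          have h2 : ω ⊗ₜ[A] (x : B) = ω • ((1 : Ω) ⊗ₜ[A] (x : B)) := by
            rw [TensorProduct.smul_tmul', smul_eq_mul, mul_one]
          rw [h1, h2, map_smul, smul_eq_mul, smul_eq_mul, mul_one]
          congr 1
          let χ : B →ₐ[A] Ω := (π.restrictScalars A).comp Algebra.TensorProduct.includeRight
          obtain ⟨g, hg, -⟩ := hT Ω χ₀ χ
          have h3 : χ (x : B) = χ₀ (σ g (x : B)) := by rw [← hg]; rfl
          rw [x.2 g] at h3
          exact h3.symm
        | add w₁ w₂ h₁ h₂ =>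
          obtain ⟨ω₁, h₁⟩ := h₁
          obtain ⟨ω₂, h₂⟩ := h₂
          exact ⟨ω₁ + ω₂, by rw [add_smul, h₁, h₂]⟩
      · intro w
        refine ⟨0, ?_⟩
        rw [zero_smul]
        apply hΦinj
        rw [map_zero]
        symm
        apply eq_zero_of_forall_algHom Ω
        intro π
        exact absurd ⟨(π.restrictScalars A).comp Algebra.TensorProduct.includeRight⟩ hpt
    -- descend from Ω to K
    rw [eq_top_iff]
    intro z _
    let ι : K →ₗ[A] Ω := (IsScalarTower.toAlgHom A K Ω).toLinearMap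
    obtain ⟨π, hπ⟩ := LinearMap.exists_leftInverse_of_injective (Algebra.linearMap K Ω)
      (LinearMap.ker_eq_bot.mpr (algebraMap K Ω).injective)
    let πA : Ω →ₗ[A] K := π.restrictScalars A
    have hπι : πA ∘ₗ ι = LinearMap.id := by
      ext x
      exact LinearMap.congr_fun hπ x
    obtain ⟨ω, hω⟩ := hgen (LinearMap.rTensor C ι z)
    have hz : z = (π ω) ⊗ₜ[A] oneC := by
      have h1 : LinearMap.rTensor C πA (LinearMap.rTensor C ι z) = z := by
        rw [← LinearMap.comp_apply, ← LinearMap.rTensor_comp, hπι, LinearMap.rTensor_id,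
          LinearMap.id_apply]
      rw [← h1, ← hω, TensorProduct.smul_tmul', smul_eq_mul, mul_one, LinearMap.rTensor_tmul]
      rfl
    rw [hz]
    have : (π ω) ⊗ₜ[A] oneC = (N1.subtype.baseChange K) ((π ω) ⊗ₜ[A]
        (⟨oneC, Submodule.mem_span_singleton_self oneC⟩ : N1)) := rfl
    rw [this]
    exact LinearMap.mem_range_self _ _
  have hbC : (⟨b, hb⟩ : C) ∈ N1 := by rw [hN1]; trivial
  obtain ⟨a, ha⟩ := Submodule.mem_span_singleton.mp hbC
  refine ⟨a, ?_⟩
  have := congrArg Subtype.val ha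
  rw [Algebra.algebraMap_eq_smul_one]
  exact this

end invariants

end Groth.Agent.Lib27.GaloisTorsor
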