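import Mathlib
import Groth.Prelude.Def_SGA1t
import Groth.Agent.Lib27.Alg.GaloisTorsor

/-!
# Artin–Schreier theory over an affine base: the algebra (helper27)
-/

open scoped TensorProduct
universe u

namespace Groth.Agent.Lib27.ASTorsor

open Groth.Agent.Lib27.GaloisTorsor

section AS

variable {A : Type u} [CommRing A] (p : ℕ) [Fact p.Prime] [CharP A p]
  {B : Type u} [CommRing B] [Algebra A B]
  (σ : Multiplicative (ZMod p) → (B →ₐ[A] B)) (hσ1 : σ 1 = AlgHom.id A B)
  (hσmul : ∀ g h, σ (g * h) = (σ g).comp (σ h))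

/-- The canonical map `𝔽_p → A`. -/
noncomputable def ι : ZMod p →+* A := ZMod.castHom (dvd_refl p) A

/-- The Artin–Schreier generator built from an element of trace one. -/
noncomputable def tAS (c : B) : B :=
  -∑ g : Multiplicative (ZMod p), (ι (A := A) p (Multiplicative.toAdd g)) • σ g c

include hσmul in
lemma sigma_tAS (c : B) (hc : tr σ c = 1) (h : Multiplicative (ZMod p)) :
    σ h (tAS p σ c) = tAS p σ c + algebraMap A B (ι (A := A) p (Multiplicative.toAdd h)) := by
  unfold tAS
  rw [map_neg, map_sum]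
  have h1 : ∑ g : Multiplicative (ZMod p), σ h ((ι (A := A) p (Multiplicative.toAdd g)) • σ g c)
      = ∑ g : Multiplicative (ZMod p),
        ((ι (A := A) p (Multiplicative.toAdd g)) - ι (A := A) p (Multiplicative.toAdd h)) • σ g c := by
    refine Fintype.sum_equiv (Equiv.mulLeft h)
      (fun g => σ h ((ι (A := A) p (Multiplicative.toAdd g)) • σ g c))
      (fun g => ((ι (A := A) p (Multiplicative.toAdd g)) -
        ι (A := A) p (Multiplicative.toAdd h)) • σ g c) (fun g => ?_)
    rw [Equiv.coe_mulLeft, map_smul, hσmul, toAdd_mul, map_add, add_sub_cancel_left]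
    rfl
  rw [h1]
  simp only [sub_smul, Finset.sum_sub_distrib, ← Finset.smul_sum]
  have h2 : ∑ g : Multiplicative (ZMod p), σ g c = 1 := hc
  rw [h2, neg_sub, sub_eq_add_neg, add_comm, Algebra.algebraMap_eq_smul_one]

end AS

section diff

variable {A : Type u} [CommRing A] (p : ℕ) [Fact p.Prime] [CharP A p]
  {B : Type u} [CommRing B] [Algebra A B]
  (S : B →ₐ[A] B) (t : B)

/-- The difference operator `N = S - 1`. -/
noncomputable def Nop : B →ₗ[A] B := S.toLinearMap - LinearMap.id

lemma Nop_apply (b : B) : Nop S b = S b - b := rfl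

lemma Nop_one : Nop S (1 : B) = 0 := by rw [Nop_apply, map_one, sub_self]

lemma Nop_pow_succ (d : ℕ) (b : B) : (Nop S ^ (d + 1)) b = Nop S ((Nop S ^ d) b) := by
  rw [pow_succ', Module.End.mul_apply]

lemma Nop_pow_succ' (d : ℕ) (b : B) : (Nop S ^ (d + 1)) b = (Nop S ^ d) (Nop S b) := by
  rw [pow_succ, Module.End.mul_apply]

/-- The span of `1, t, …, t^{d-1}`. -/
def F (d : ℕ) : Submodule A B := Submodule.span A {x | ∃ i < d, x = t ^ i}

lemma pow_mem_F {i d : ℕ} (h : i < d) : t ^ i ∈ F (A := A) t d :=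
  Submodule.subset_span ⟨i, h, rfl⟩

lemma F_mono {d e : ℕ} (h : d ≤ e) : F (A := A) t d ≤ F (A := A) t e := by
  apply Submodule.span_mono
  rintro x ⟨i, hi, rfl⟩
  exact ⟨i, lt_of_lt_of_le hi h, rfl⟩

variable (hSt : S t = t + 1)

include hSt in
lemma Nop_pow_t (d : ℕ) :
    ∃ h ∈ F (A := A) t d, Nop S (t ^ (d + 1)) = (d + 1) • t ^ d + h := by
  refine ⟨∑ m ∈ Finset.range d, t ^ m * 1 ^ (d + 1 - m) * ((d + 1).choose m : B), ?_, ?_⟩
  · refine Submodule.sum_mem _ fun m hm => ?_
    rw [one_pow, mul_one, mul_comm, ← nsmul_eq_mul]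
    exact (F (A := A) t d).smul_of_tower_mem _ (pow_mem_F t (Finset.mem_range.mp hm))
  · rw [Nop_apply, map_pow, hSt, add_pow, Finset.sum_range_succ, Finset.sum_range_succ,
      Nat.choose_self, Nat.choose_succ_self_right]
    simp only [one_pow, mul_one, Nat.cast_one, Nat.cast_add, nsmul_eq_mul]
    ring

include hSt in
/-- `N^d` kills `F_d` and `N^d (t^d) = d!`. -/
lemma Nop_pow_F (d : ℕ) :
    (∀ f ∈ F (A := A) t d, (Nop S ^ d) f = 0) ∧ (Nop S ^ d) (t ^ d) = d.factorial • (1 : B) := by
  induction d with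
  | zero =>
    refine ⟨fun f hf => ?_, ?_⟩
    · have : F (A := A) t 0 = ⊥ := by
        unfold F
        rw [Submodule.span_eq_bot]
        rintro x ⟨i, hi, -⟩
        exact absurd hi (Nat.not_lt_zero i)
      rw [this, Submodule.mem_bot] at hf
      rw [hf, map_zero]
    · rw [pow_zero, pow_zero, Nat.factorial_zero, one_smul]
      rfl
  | succ d ih =>
    obtain ⟨ih1, ih2⟩ := ih
    have hkill : ∀ f ∈ F (A := A) t (d + 1), (Nop S ^ (d + 1)) f = 0 := by
      intro f hf
      induction hf using Submodule.span_induction with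
      | mem x hx =>
        obtain ⟨i, hi, rfl⟩ := hx
        rw [Nop_pow_succ]
        by_cases hid : i < d
        · rw [ih1 _ (pow_mem_F t hid), map_zero]
        · have : i = d := by omega
          rw [this, ih2, map_nsmul, Nop_one, smul_zero]
      | zero => rw [map_zero]
      | add x y _ _ hx hy => rw [map_add, hx, hy, add_zero]
      | smul a x _ hx => rw [map_smul, hx, smul_zero]
    refine ⟨hkill, ?_⟩
    obtain ⟨h, hh, hN⟩ := Nop_pow_t S t hSt d
    rw [Nop_pow_succ', hN, map_add, ih1 h hh, add_zero, map_nsmul, ih2, Nat.factorial_succ,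
      mul_smul]

lemma natCast_eq (n : ℕ) : ((n : ℕ) : A) = ι (A := A) p ((n : ℕ) : ZMod p) := by
  rw [map_natCast]

lemma isUnit_factorial {d : ℕ} (hd : d < p) : IsUnit ((d.factorial : ℕ) : A) := by
  rw [natCast_eq p]
  apply IsUnit.map
  apply IsUnit.mk0
  rw [Ne, ZMod.natCast_eq_zero_iff]
  rw [(Fact.out : p.Prime).dvd_factorial]
  omega

include hSt in
/-- Elements killed by `N^d` lie in `F_d`, provided `ker N` consists of scalars. -/
lemma mem_F_of_pow_eq_zero (hker : ∀ b, Nop S b = 0 → ∃ a : A, algebraMap A B a = b)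
    (d : ℕ) (hd : d ≤ p) (b : B) (hb : (Nop S ^ d) b = 0) : b ∈ F (A := A) t d := by
  induction d generalizing b with
  | zero =>
    rw [pow_zero] at hb
    have : b = 0 := hb
    rw [this]; exact zero_mem _
  | succ d ih =>
    rw [Nop_pow_succ] at hb
    obtain ⟨r, hr⟩ := hker _ hb
    obtain ⟨u, hu⟩ := (isUnit_factorial (A := A) p (show d < p by omega)).exists_right_inv
    have h1 : (Nop S ^ d) (b - (r * u) • t ^ d) = 0 := by
      rw [map_sub, map_smul, (Nop_pow_F S t hSt d).2, ← hr, Algebra.algebraMap_eq_smul_one,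
        ← Nat.cast_smul_eq_nsmul A, smul_smul, mul_assoc, mul_comm u, hu, mul_one, sub_self]
    have h2 := ih (by omega) _ h1
    have h3 : b = (b - (r * u) • t ^ d) + (r * u) • t ^ d := by ring
    rw [h3]
    exact add_mem (F_mono t (Nat.le_succ d) h2)
      ((F (A := A) t (d + 1)).smul_mem _ (pow_mem_F t (Nat.lt_succ_self d)))

include hSt in
/-- Linear independence of `1, t, …, t^{p-1}`. -/
lemma coeff_eq_zero (hinj : Function.Injective (algebraMap A B)) (d : ℕ) (hd : d ≤ p)
    (c : ℕ → A) (hc : ∑ j ∈ Finset.range d, c j • t ^ j = 0) : ∀ j < d, c j = 0 := by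
  induction d with
  | zero => intro j hj; exact absurd hj (Nat.not_lt_zero j)
  | succ d ih =>
    rw [Finset.sum_range_succ] at hc
    have hmem : ∑ j ∈ Finset.range d, c j • t ^ j ∈ F (A := A) t d :=
      Submodule.sum_mem _ fun j hj =>
        (F (A := A) t d).smul_mem _ (pow_mem_F t (Finset.mem_range.mp hj))
    have h1 := congrArg (Nop S ^ d) hc
    rw [map_add, (Nop_pow_F S t hSt d).1 _ hmem, zero_add, map_smul, (Nop_pow_F S t hSt d).2,
      map_zero, ← Nat.cast_smul_eq_nsmul A, smul_smul, ← Algebra.algebraMap_eq_smul_one] at h1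
    have h2 : c d * ((d.factorial : ℕ) : A) = 0 := hinj (by rw [h1, map_zero])
    have h3 : c d = 0 :=
      (isUnit_factorial (A := A) p (show d < p by omega)).mul_left_eq_zero.mp h2
    rw [h3, zero_smul, add_zero] at hc
    intro j hj
    by_cases hjd : j < d
    · exact ih (by omega) hc j hjd
    · have : j = d := by omega
      rw [this, h3]

end diff

section poly

variable {A : Type u} [CommRing A] (p : ℕ) [Fact p.Prime] [CharP A p] (a : A)

/-- The Artin–Schreier polynomial. -/
noncomputable def qAS : Polynomial A :=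
  (Polynomial.X : Polynomial A) ^ p - Polynomial.X - Polynomial.C a

include p in
lemma nontrivial_of_charP : Nontrivial A :=
  CharP.nontrivial_of_char_ne_one (R := A) (Fact.out : p.Prime).ne_one

lemma qAS_eq : qAS p a = (Polynomial.X : Polynomial A) ^ p - (Polynomial.X + Polynomial.C a) := by
  unfold qAS; ring

lemma qAS_monic : (qAS p a).Monic := by
  haveI := nontrivial_of_charP (A := A) p
  rw [qAS_eq]
  apply Polynomial.monic_X_pow_sub
  rw [Polynomial.degree_X_add_C]
  exact_mod_cast (Fact.out : p.Prime).one_lt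

lemma qAS_natDegree : (qAS p a).natDegree = p := by
  haveI := nontrivial_of_charP (A := A) p
  rw [qAS_eq, Polynomial.natDegree_sub_eq_left_of_natDegree_lt, Polynomial.natDegree_X_pow]
  rw [Polynomial.natDegree_X_pow, Polynomial.natDegree_X_add_C]
  exact (Fact.out : p.Prime).one_lt

end poly

section main

variable (A : Type u) [CommRing A] (p : ℕ) [Fact p.Prime] [CharP A p]
  (B : Type u) [CommRing B] [Algebra A B] [Algebra.Etale A B] [Module.Finite A B]
  (hinj : Function.Injective (algebraMap A B))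
  (σ : Multiplicative (ZMod p) → (B →ₐ[A] B)) (hσ1 : σ 1 = AlgHom.id A B)
  (hσmul : ∀ g h, σ (g * h) = (σ g).comp (σ h))
  (hT : ∀ (Ω : Type u) [Field Ω] [IsAlgClosed Ω] [Algebra A Ω] (χ χ' : B →ₐ[A] Ω),
    ∃! g : Multiplicative (ZMod p), χ.comp (σ g) = χ')

include hinj hσ1 hσmul hT in
theorem main_AS : ∃ (a : A) (Ψ : SGA1t.artinSchreier A p a →ₐ[A] B), Function.Bijective Ψ ∧
    ∀ (j : ZMod p) (x : SGA1t.artinSchreier A p a),
      σ (Multiplicative.ofAdd j) (Ψ x) = Ψ (SGA1t.artinSchreierShift A p a j x) := by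
  classical
  haveI : NeZero p := ⟨(Fact.out : p.Prime).ne_zero⟩
  haveI : CharP B p := charP_of_injective_algebraMap hinj p
  obtain ⟨c, hc⟩ := exists_trace_one σ hσmul hT
  set t := tAS p σ c with ht
  have hσt : ∀ h : Multiplicative (ZMod p),
      σ h t = t + algebraMap A B (ι (A := A) p (Multiplicative.toAdd h)) :=
    sigma_tAS p σ hσmul c hc
  -- the invariant `t^p - t`
  have hinv : ∀ h : Multiplicative (ZMod p), σ h (t ^ p - t) = t ^ p - t := by
    intro h
    rw [map_sub, map_pow, hσt h, add_pow_char, ← map_pow, ← map_pow, ZMod.pow_card]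
    ring
  obtain ⟨a, ha⟩ := invariants_eq σ hσmul hT (t ^ p - t) hinv
  refine ⟨a, ?_⟩
  set I : Ideal (Polynomial A) := Ideal.span {(Polynomial.X : Polynomial A) ^ p - Polynomial.X -
    Polynomial.C a} with hI
  have hq0 : Polynomial.aeval t ((Polynomial.X : Polynomial A) ^ p - Polynomial.X -
      Polynomial.C a) = 0 := by
    rw [map_sub, map_sub, map_pow, Polynomial.aeval_X, Polynomial.aeval_C, ha, sub_self]
  have hIker : ∀ f ∈ I, (Polynomial.aeval t : Polynomial A →ₐ[A] B) f = 0 := by
    have hle : I ≤ RingHom.ker (Polynomial.aeval t : Polynomial A →ₐ[A] B).toRingHom := by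
      rw [hI, Ideal.span_le, Set.singleton_subset_iff, SetLike.mem_coe, RingHom.mem_ker]
      exact hq0
    intro f hf
    exact hle hf
  let Ψ : SGA1t.artinSchreier A p a →ₐ[A] B := Ideal.Quotient.liftₐ I (Polynomial.aeval t) hIker
  have hΨmk : ∀ f : Polynomial A, Ψ (Ideal.Quotient.mk I f) = Polynomial.aeval t f := fun f => rfl
  -- the generator of the group
  set g1 : Multiplicative (ZMod p) := Multiplicative.ofAdd 1 with hg1
  set S : B →ₐ[A] B := σ g1 with hS
  have hSt : S t = t + 1 := by
    rw [hS, hσt g1, hg1, toAdd_ofAdd, map_one, map_one]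
  have hpow : ∀ (n : ℕ) (b : B), σ (g1 ^ n) b = (S.toLinearMap ^ n) b := by
    intro n
    induction n with
    | zero => intro b; rw [pow_zero, pow_zero, hσ1]; rfl
    | succ n ih =>
      intro b
      rw [pow_succ, hσmul, pow_succ, Module.End.mul_apply, ← ih]
      rfl
  have hgen : ∀ g : Multiplicative (ZMod p), g = g1 ^ (Multiplicative.toAdd g).val := by
    intro g
    rw [hg1, ← ofAdd_nsmul, nsmul_one, ZMod.natCast_zmod_val]
    rfl
  have hg1p : g1 ^ p = 1 := by
    rw [hg1, ← ofAdd_nsmul, nsmul_one, CharP.cast_eq_zero]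
    rfl
  -- invariants
  have hker : ∀ b, Nop S b = 0 → ∃ r : A, algebraMap A B r = b := by
    intro b hb
    rw [Nop_apply, sub_eq_zero] at hb
    apply invariants_eq σ hσmul hT b
    have hn : ∀ n : ℕ, σ (g1 ^ n) b = b := by
      intro n
      induction n with
      | zero => rw [pow_zero, hσ1]; rfl
      | succ n ih =>
        rw [pow_succ, hσmul, AlgHom.comp_apply, hb, ih]
    intro g
    rw [hgen g]
    exact hn _
  -- nilpotency
  have hNp : Nop S ^ p = 0 := by
    have hpoly : ((Polynomial.X : Polynomial A) - 1) ^ p = Polynomial.X ^ p - 1 := by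
      rw [sub_pow_char, one_pow]
    have h1 := congrArg (Polynomial.aeval (S.toLinearMap : Module.End A B)) hpoly
    rw [map_pow, map_sub, map_sub, map_pow, Polynomial.aeval_X, map_one] at h1
    have h2 : (S.toLinearMap : Module.End A B) ^ p = 1 := by
      ext b
      rw [← hpow, hg1p, hσ1]
      rfl
    rw [h2, sub_self] at h1
    exact h1
  refine ⟨Ψ, ⟨?_, ?_⟩, ?_⟩
  · -- injectivity
    rw [injective_iff_map_eq_zero]
    intro x hx
    obtain ⟨f, rfl⟩ := Ideal.Quotient.mk_surjective x
    have hmonic := qAS_monic p a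
    have hdeg := qAS_natDegree p a
    have hq1 : qAS p a ≠ 1 := by
      intro h
      rw [h, Polynomial.natDegree_one] at hdeg
      exact (Fact.out : p.Prime).ne_zero hdeg.symm
    set r := f %ₘ (qAS p a) with hr
    have hfr : Ideal.Quotient.mk I f = Ideal.Quotient.mk I r := by
      rw [Ideal.Quotient.eq, hI]
      have h1 := Polynomial.modByMonic_add_div f (qAS p a)
      have h2 : f - r = qAS p a * (f /ₘ qAS p a) := by
        rw [hr]; linear_combination -h1
      rw [h2]
      exact Ideal.mul_mem_right _ _ (Ideal.subset_span rfl)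
    have hrdeg : r.natDegree < p := by
      have := Polynomial.natDegree_modByMonic_lt f hmonic hq1
      rwa [hdeg] at this
    rw [hfr, hΨmk, Polynomial.aeval_eq_sum_range' hrdeg] at hx
    have hcoeff := coeff_eq_zero p S t hSt hinj p le_rfl (fun j => r.coeff j) hx
    have hr0 : r = 0 := by
      ext j
      rw [Polynomial.coeff_zero]
      by_cases hj : j < p
      · exact hcoeff j hj
      · exact Polynomial.coeff_eq_zero_of_natDegree_lt (by omega)
    rw [hfr, hr0, map_zero]
  · -- surjectivity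
    intro b
    have hb : (Nop S ^ p) b = 0 := by rw [hNp]; rfl
    have hmem := mem_F_of_pow_eq_zero p S t hSt hker p le_rfl b hb
    have hle : F (A := A) t p ≤ LinearMap.range Ψ.toLinearMap := by
      unfold F
      rw [Submodule.span_le]
      rintro x ⟨i, -, rfl⟩
      refine ⟨Ideal.Quotient.mk I (Polynomial.X ^ i), ?_⟩
      show Ψ (Ideal.Quotient.mk I (Polynomial.X ^ i)) = t ^ i
      rw [hΨmk, map_pow, Polynomial.aeval_X]
    obtain ⟨x, hx⟩ := hle hmem
    exact ⟨x, hx⟩
  · -- equivariance
    intro j x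
    have hpoly : (σ (Multiplicative.ofAdd j)).comp (Polynomial.aeval t : Polynomial A →ₐ[A] B)
        = (Polynomial.aeval t : Polynomial A →ₐ[A] B).comp
          (Polynomial.aeval (R := A) ((Polynomial.X : Polynomial A) +
            Polynomial.C ((ZMod.castHom (dvd_refl p) A) j))) := by
      apply Polynomial.algHom_ext
      rw [AlgHom.comp_apply, AlgHom.comp_apply, Polynomial.aeval_X, Polynomial.aeval_X,
        map_add, Polynomial.aeval_X, Polynomial.aeval_C, hσt, toAdd_ofAdd]
      rfl
    obtain ⟨f, rfl⟩ := Ideal.Quotient.mk_surjective x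
    have h1 : SGA1t.artinSchreierShift A p a j (Ideal.Quotient.mk _ f) = Ideal.Quotient.mk I
        ((Polynomial.aeval (R := A) ((Polynomial.X : Polynomial A) +
            Polynomial.C ((ZMod.castHom (dvd_refl p) A) j))) f) := rfl
    rw [h1, hΨmk, hΨmk]
    exact AlgHom.congr_fun hpoly f

end main

end Groth.Agent.Lib27.ASTorsor
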