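import Mathlib
set_option autoImplicit false
set_option maxHeartbeats 4000000
set_option synthInstance.maxHeartbeats 400000
universe u
open TensorProduct

namespace Groth.Agent.Lib27.Amitsur1

variable (R B : Type u) [CommRing R] [CommRing B] [Algebra R B]

section Gen

variable (Q : Type u) [AddCommGroup Q] [Module R Q]

/-- `w ↦ 1 ⊗ w` -/
noncomputable def eta : Q →ₗ[R] B ⊗[R] Q := (TensorProduct.mk R B Q) 1

@[simp] theorem eta_apply (w : Q) : eta R B Q w = (1 : B) ⊗ₜ[R] w := rfl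

/-- `x ⊗ (a ⊗ w) ↦ x a ⊗ w` -/
noncomputable def hmul : B ⊗[R] (B ⊗[R] Q) →ₗ[R] B ⊗[R] Q :=
  (LinearMap.mul' R B).rTensor Q ∘ₗ (TensorProduct.assoc R B B Q).symm.toLinearMap

@[simp] theorem hmul_tmul (x a : B) (w : Q) :
    hmul R B Q (x ⊗ₜ[R] (a ⊗ₜ[R] w)) = (x * a) ⊗ₜ[R] w := by
  simp [hmul]

variable {Q} {Q' : Type u} [AddCommGroup Q'] [Module R Q']

theorem hmul_lTensor (d : Q →ₗ[R] Q') (z : B ⊗[R] (B ⊗[R] Q)) :
    hmul R B Q' ((d.lTensor B).lTensor B z) = d.lTensor B (hmul R B Q z) := by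
  induction z using TensorProduct.induction_on with
  | zero => simp
  | tmul x y =>
    induction y using TensorProduct.induction_on with
    | zero => simp
    | tmul a w => simp
    | add y y' hy hy' => simp only [tmul_add, map_add, hy, hy']
  | add z z' hz hz' => simp only [map_add, hz, hz']

theorem hmul_eta (z : B ⊗[R] Q) : hmul R B Q ((eta R B Q).lTensor B z) = z := by
  induction z using TensorProduct.induction_on with
  | zero => simp
  | tmul x w => simp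
  | add z z' hz hz' => simp only [map_add, hz, hz']

/-- the key exactness: if `d1 = B ⊗ d0 + eta` and `d1 ∘ d0 = 0` then exact in the middle -/
theorem exact_of_eq [Module.FaithfullyFlat R B] (d0 : Q →ₗ[R] B ⊗[R] Q)
    (d1 : B ⊗[R] Q →ₗ[R] B ⊗[R] (B ⊗[R] Q))
    (hd1 : d1 = d0.lTensor B + eta R B (B ⊗[R] Q)) (hzero : d1 ∘ₗ d0 = 0) :
    Function.Exact d0 d1 := by
  rw [← Module.FaithfullyFlat.lTensor_exact_iff_exact R B]
  intro z
  constructor
  · intro hz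
    refine ⟨-(hmul R B Q z), ?_⟩
    have h1 : hmul R B (B ⊗[R] Q) (d1.lTensor B z) = d0.lTensor B (hmul R B Q z) + z := by
      rw [hd1, LinearMap.lTensor_add, LinearMap.add_apply, map_add, hmul_lTensor, hmul_eta]
    rw [hz, map_zero] at h1
    rw [map_neg]
    exact neg_eq_of_add_eq_zero_right h1.symm
  · rintro ⟨x, rfl⟩
    rw [← LinearMap.comp_apply, ← LinearMap.lTensor_comp, hzero, LinearMap.lTensor_zero,
      LinearMap.zero_apply]

end Gen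

section Coeff

variable (N : Type u) [AddCommGroup N] [Module R N]

/-- `b ⊗ n ↦ b ⊗ (1 ⊗ n) - 1 ⊗ (b ⊗ n)` -/
noncomputable def d0N : B ⊗[R] N →ₗ[R] B ⊗[R] (B ⊗[R] N) :=
  (eta R B N).lTensor B - eta R B (B ⊗[R] N)

/-- the next differential -/
noncomputable def d1N : B ⊗[R] (B ⊗[R] N) →ₗ[R] B ⊗[R] (B ⊗[R] (B ⊗[R] N)) :=
  (d0N R B N).lTensor B + eta R B (B ⊗[R] (B ⊗[R] N))

theorem d0N_tmul (b : B) (n : N) :
    d0N R B N (b ⊗ₜ n) = b ⊗ₜ[R] ((1 : B) ⊗ₜ[R] n) - (1 : B) ⊗ₜ[R] (b ⊗ₜ[R] n) := by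
  simp [d0N]

theorem d1N_tmul (a b : B) (n : N) :
    d1N R B N (a ⊗ₜ (b ⊗ₜ n)) = a ⊗ₜ[R] (b ⊗ₜ[R] ((1 : B) ⊗ₜ[R] n)) -
      a ⊗ₜ[R] ((1 : B) ⊗ₜ[R] (b ⊗ₜ[R] n)) + (1 : B) ⊗ₜ[R] (a ⊗ₜ[R] (b ⊗ₜ[R] n)) := by
  simp [d1N, d0N_tmul, tmul_sub]

theorem d1N_comp_d0N : d1N R B N ∘ₗ d0N R B N = 0 := by
  apply TensorProduct.ext'
  intro b n
  rw [LinearMap.comp_apply, d0N_tmul, map_sub, d1N_tmul, d1N_tmul, LinearMap.zero_apply]
  abel

theorem exact_d0N_d1N [Module.FaithfullyFlat R B] : Function.Exact (d0N R B N) (d1N R B N) :=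
  exact_of_eq R B (d0N R B N) (d1N R B N) rfl (d1N_comp_d0N R B N)

end Coeff

end Groth.Agent.Lib27.Amitsur1
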