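import Mathlib
import Groth.Prelude.Def_DeRham
open LaurentPolynomial

universe u

namespace Groth.Agent.Lib27.DeRhamGm

variable (k : Type u) [Field k]

/-- the `k`-linear map `T^n ↦ n T^(n-1)`. -/
noncomputable def derLin : LaurentPolynomial k →ₗ[k] LaurentPolynomial k :=
  (Finsupp.lsum k (fun n : ℤ => LinearMap.toSpanSingleton k (LaurentPolynomial k)
    ((n : k) • T (n - 1)))) ∘ₗ (AddMonoidAlgebra.coeffLinearEquiv k).toLinearMap

theorem derLin_single (n : ℤ) (a : k) :
    derLin k (AddMonoidAlgebra.single n a) = a • ((n : k) • T (n - 1)) := by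
  have : (AddMonoidAlgebra.coeffLinearEquiv k) (AddMonoidAlgebra.single n a : LaurentPolynomial k)
      = Finsupp.single n a := rfl
  rw [derLin, LinearMap.comp_apply, LinearEquiv.coe_coe, this, Finsupp.lsum_single]
  rfl

theorem derLin_T (n : ℤ) : derLin k (T n) = (n : k) • T (n - 1) := by
  rw [T, derLin_single, one_smul]


theorem derLin_single' (n : ℤ) (a : k) :
    derLin k (AddMonoidAlgebra.single n a) = AddMonoidAlgebra.single (n - 1) (a * (n : k)) := by
  rw [derLin_single, T, AddMonoidAlgebra.smul_single, AddMonoidAlgebra.smul_single]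
  simp

theorem derLin_mul (a b : LaurentPolynomial k) :
    derLin k (a * b) = a • derLin k b + b • derLin k a := by
  induction a using LaurentPolynomial.induction_on' with
  | add p q hp hq =>
    rw [add_mul, map_add, hp, hq, map_add, add_smul, smul_add]
    abel
  | C_mul_T n a =>
    induction b using LaurentPolynomial.induction_on' with
    | add p q hp hq =>
      rw [mul_add, map_add, hp, hq, map_add, add_smul, smul_add]
      abel
    | C_mul_T m b =>
      rw [← single_eq_C_mul_T, ← single_eq_C_mul_T, AddMonoidAlgebra.single_mul_single,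
        derLin_single', derLin_single', derLin_single', smul_eq_mul, smul_eq_mul,
        AddMonoidAlgebra.single_mul_single, AddMonoidAlgebra.single_mul_single]
      have e1 : n + (m - 1) = n + m - 1 := by ring
      have e2 : m + (n - 1) = n + m - 1 := by ring
      rw [e1, e2, ← AddMonoidAlgebra.single_add]
      congr 1
      push_cast
      ring

/-- the derivation `d/dT` of the Laurent polynomial ring. -/
noncomputable def der : Derivation k (LaurentPolynomial k) (LaurentPolynomial k) :=
  Derivation.mk' (derLin k) (derLin_mul k)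

theorem der_T (n : ℤ) : der k (T n) = (n : k) • T (n - 1) := derLin_T k n


theorem coeff_der (f : LaurentPolynomial k) : (der k f).coeff (-1) = 0 := by
  induction f using LaurentPolynomial.induction_on' with
  | add p q hp hq => rw [map_add, AddMonoidAlgebra.coeff_add, Finsupp.add_apply, hp, hq, add_zero]
  | C_mul_T n a =>
    rw [← single_eq_C_mul_T]
    change (derLin k _).coeff (-1) = 0
    rw [derLin_single', AddMonoidAlgebra.coeff_single]
    by_cases h : n - 1 = -1
    · have : n = 0 := by omega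
      subst this
      simp
    · rw [Finsupp.single_apply, if_neg h]

section Kaehler

open KaehlerDifferential

local notation "Ωk" => Ω[LaurentPolynomial k⁄k]

/-- the generator `dT`. -/
noncomputable def w : Ω[LaurentPolynomial k⁄k] := D k (LaurentPolynomial k) (T 1)

theorem D_T_succ (m : ℤ) : D k (LaurentPolynomial k) (T (m + 1)) =
    (T m : LaurentPolynomial k) • w k + (T 1 : LaurentPolynomial k) • D k (LaurentPolynomial k) (T m) := by
  rw [T_add, Derivation.leibniz]
  rfl

theorem D_T (m : ℤ) : D k (LaurentPolynomial k) (T m) = (der k (T m)) • w k := by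
  induction m using Int.induction_on with
  | zero =>
    rw [T_zero, Derivation.map_one_eq_zero, Derivation.map_one_eq_zero, zero_smul]
  | succ n ih =>
    rw [D_T_succ, ih, der_T, der_T, smul_smul, ← add_smul]
    congr 1
    have : (T 1 : LaurentPolynomial k) * ((n : ℤ) : k) • T ((n : ℤ) - 1) = ((n : ℤ) : k) • T (n : ℤ) := by
      rw [mul_smul_comm, ← T_add]
      congr 2
      ring
    rw [this]
    have e : ((n : ℤ) + 1 - 1) = (n : ℤ) := by ring
    rw [e]
    push_cast
    rw [add_smul, one_smul, add_comm]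
  | pred n ih =>
    have h := D_T_succ k (-(n : ℤ) - 1)
    have e : (-(n : ℤ) - 1 + 1) = -(n : ℤ) := by ring
    rw [e, ih] at h
    have h2 : (T 1 : LaurentPolynomial k) • D k (LaurentPolynomial k) (T (-(n : ℤ) - 1)) =
        (der k (T (-(n : ℤ))) - T (-(n : ℤ) - 1)) • w k := by
      rw [sub_smul, h]
      abel
    have h3 := congrArg (fun x => (T (-1) : LaurentPolynomial k) • x) h2
    simp only [smul_smul] at h3
    rw [← T_add] at h3
    have e0 : (-1 : ℤ) + 1 = 0 := by ring
    rw [e0, T_zero, one_smul] at h3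
    rw [h3, der_T, der_T]
    congr 1
    rw [mul_sub, mul_smul_comm, ← T_add]
    have e1 : (-1 : ℤ) + (-(n : ℤ) - 1) = -(n : ℤ) - 1 - 1 := by ring
    rw [e1]
    push_cast
    rw [sub_smul (-(n : k)) 1, one_smul]

theorem D_eq (f : LaurentPolynomial k) : D k (LaurentPolynomial k) f = (der k f) • w k := by
  induction f using LaurentPolynomial.induction_on' with
  | add p q hp hq => rw [map_add, map_add, hp, hq, add_smul]
  | C_mul_T n a =>
    rw [← smul_eq_C_mul, Derivation.map_smul, Derivation.map_smul, D_T, smul_assoc]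

theorem exists_eq_smul_w (ω : Ω[LaurentPolynomial k⁄k]) : ∃ g : LaurentPolynomial k, ω = g • w k := by
  have h : ω ∈ Submodule.span (LaurentPolynomial k) (Set.range (D k (LaurentPolynomial k))) := by
    rw [KaehlerDifferential.span_range_derivation]; trivial
  induction h using Submodule.span_induction with
  | mem x hx =>
    obtain ⟨f, rfl⟩ := hx
    exact ⟨_, D_eq k f⟩
  | zero => exact ⟨0, (zero_smul _ _).symm⟩
  | add x y _ _ hx hy =>
    obtain ⟨a, rfl⟩ := hx
    obtain ⟨b, rfl⟩ := hy
    exact ⟨a + b, (add_smul _ _ _).symm⟩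
  | smul a x _ hx =>
    obtain ⟨b, rfl⟩ := hx
    exact ⟨a * b, (smul_smul _ _ _)⟩

/-- the map `Ω → A`, `g dT ↦ g`. -/
noncomputable def φ : Ω[LaurentPolynomial k⁄k] →ₗ[LaurentPolynomial k] LaurentPolynomial k :=
  (der k).liftKaehlerDifferential

theorem φ_D (f : LaurentPolynomial k) : φ k (D k (LaurentPolynomial k) f) = der k f :=
  Derivation.liftKaehlerDifferential_comp_D (der k) f

theorem φ_w : φ k (w k) = 1 := by
  rw [w, φ_D, der_T]
  simp

theorem span_w : Submodule.span (LaurentPolynomial k) {w k} = ⊤ := by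
  rw [eq_top_iff]
  intro ω _
  obtain ⟨g, rfl⟩ := exists_eq_smul_w k ω
  exact Submodule.smul_mem _ _ (Submodule.subset_span rfl)

theorem extPow_eq_zero (i : ℕ) (x : ↥(⋀[LaurentPolynomial k]^(i + 2) (Ω[LaurentPolynomial k⁄k]))) :
    x = 0 := by
  have h := exteriorPower.ιMulti_span_of_span (LaurentPolynomial k) (i + 2)
    (Ω[LaurentPolynomial k⁄k]) (span_w k)
  have hx : x ∈ (⊤ : Submodule (LaurentPolynomial k) _) := trivial
  rw [← h] at hx
  have h0 : Submodule.span (LaurentPolynomial k)
      (exteriorPower.ιMulti (LaurentPolynomial k) (i + 2) '' {a | Set.range a ⊆ {w k}}) ≤ ⊥ := by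
    rw [Submodule.span_le]
    rintro _ ⟨a, ha, rfl⟩
    have h1 : a 0 = w k := ha ⟨0, rfl⟩
    have h2 : a 1 = w k := ha ⟨1, rfl⟩
    have : exteriorPower.ιMulti (LaurentPolynomial k) (i + 2) a = 0 :=
      (exteriorPower.ιMulti (LaurentPolynomial k) (i + 2)).map_eq_zero_of_eq a
        (h1.trans h2.symm) (by simp)
    rw [this]
    exact Submodule.zero_mem _
  exact (Submodule.mem_bot _).mp (h0 hx)

end Kaehler

variable [CharZero k]

/-- antiderivative: `T^n ↦ T^(n+1)/(n+1)` (and `T^(-1) ↦ 0`). -/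
noncomputable def antiLin : LaurentPolynomial k →ₗ[k] LaurentPolynomial k :=
  (Finsupp.lsum k (fun n : ℤ => LinearMap.toSpanSingleton k (LaurentPolynomial k)
    (AddMonoidAlgebra.single (n + 1) (((n + 1 : ℤ) : k)⁻¹)))) ∘ₗ
      (AddMonoidAlgebra.coeffLinearEquiv k).toLinearMap

omit [CharZero k] in
theorem antiLin_single (n : ℤ) (a : k) :
    antiLin k (AddMonoidAlgebra.single n a) =
      AddMonoidAlgebra.single (n + 1) (a * ((n + 1 : ℤ) : k)⁻¹) := by
  have : (AddMonoidAlgebra.coeffLinearEquiv k) (AddMonoidAlgebra.single n a : LaurentPolynomial k)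
      = Finsupp.single n a := rfl
  rw [antiLin, LinearMap.comp_apply, LinearEquiv.coe_coe, this, Finsupp.lsum_single]
  change a • (AddMonoidAlgebra.single (n + 1) (((n + 1 : ℤ) : k)⁻¹) : LaurentPolynomial k) = _
  rw [AddMonoidAlgebra.smul_single, smul_eq_mul]

theorem der_antiLin (g : LaurentPolynomial k) :
    der k (antiLin k g) = g - (g.coeff (-1)) • T (-1) := by
  induction g using LaurentPolynomial.induction_on' with
  | add p q hp hq =>
    rw [map_add, map_add, hp, hq, AddMonoidAlgebra.coeff_add, Finsupp.add_apply, add_smul]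
    abel
  | C_mul_T n a =>
    rw [← single_eq_C_mul_T, antiLin_single]
    change derLin k _ = _
    rw [derLin_single', AddMonoidAlgebra.coeff_single, T, AddMonoidAlgebra.smul_single,
      smul_eq_mul, mul_one]
    by_cases h : n = -1
    · subst h
      simp
    · have h1 : ((n + 1 : ℤ) : k) ≠ 0 := by
        have : n + 1 ≠ 0 := by omega
        exact_mod_cast this
      rw [Finsupp.single_apply, if_neg h, AddMonoidAlgebra.single_zero, sub_zero,
        inv_mul_cancel_right₀ h1]
      congr 1
      ring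


section DR

open KaehlerDifferential

/-- coefficient of `T^(-1)`. -/
noncomputable def resLin : LaurentPolynomial k →ₗ[k] k :=
  (Finsupp.lapply (-1)) ∘ₗ (AddMonoidAlgebra.coeffLinearEquiv k).toLinearMap

omit [CharZero k] in
theorem resLin_apply (f : LaurentPolynomial k) : resLin k f = f.coeff (-1) := rfl

/-- the residue functional on 1-forms. -/
noncomputable def ψ : ↥(⋀[LaurentPolynomial k]^1 (Ω[LaurentPolynomial k⁄k])) →ₗ[k] k :=
  (resLin k) ∘ₗ ((φ k).restrictScalars k) ∘ₗ
    ((exteriorPower.oneEquiv (LaurentPolynomial k) (Ω[LaurentPolynomial k⁄k])).toLinearMap.restrictScalars k)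

omit [CharZero k] in
theorem ψ_apply (x : ↥(⋀[LaurentPolynomial k]^1 (Ω[LaurentPolynomial k⁄k]))) :
    ψ k x = (φ k (exteriorPower.oneEquiv (LaurentPolynomial k) (Ω[LaurentPolynomial k⁄k]) x)).coeff (-1) :=
  rfl

variable (d : ∀ p : ℕ, ↥(⋀[LaurentPolynomial k]^p (Ω[LaurentPolynomial k⁄k])) →ₗ[k]
    ↥(⋀[LaurentPolynomial k]^(p + 1) (Ω[LaurentPolynomial k⁄k])))
  (hd : DeRham.IsDiff (KaehlerDifferential.D k (LaurentPolynomial k)) d)

omit [CharZero k] in
theorem eq_gen_zero (y : ↥(⋀[LaurentPolynomial k]^0 (Ω[LaurentPolynomial k⁄k]))) :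
    y = DeRham.gen (KaehlerDifferential.D k (LaurentPolynomial k)) 0
      (exteriorPower.zeroEquiv (LaurentPolynomial k) (Ω[LaurentPolynomial k⁄k]) y) (fun _ => 0) := by
  apply (exteriorPower.zeroEquiv (LaurentPolynomial k) (Ω[LaurentPolynomial k⁄k])).injective
  rw [DeRham.gen, map_smul, exteriorPower.zeroEquiv_ιMulti, smul_eq_mul, mul_one]

include hd in
omit [CharZero k] in
theorem oneEquiv_d_gen (F : LaurentPolynomial k) (b : Fin 0 → LaurentPolynomial k) :
    exteriorPower.oneEquiv (LaurentPolynomial k) (Ω[LaurentPolynomial k⁄k])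
      (d 0 (DeRham.gen (KaehlerDifferential.D k (LaurentPolynomial k)) 0 F b)) =
      KaehlerDifferential.D k (LaurentPolynomial k) F := by
  rw [hd.1 0 F b]
  exact (exteriorPower.oneEquiv_ιMulti _).trans (Fin.cons_zero _ _)

include hd in
omit [CharZero k] in
theorem ψ_d (y : ↥(⋀[LaurentPolynomial k]^0 (Ω[LaurentPolynomial k⁄k]))) : ψ k (d 0 y) = 0 := by
  rw [eq_gen_zero k y, ψ_apply, oneEquiv_d_gen k d hd, φ_D, coeff_der]

/-- the form `T⁻¹ dT`. -/
noncomputable def η : ↥(⋀[LaurentPolynomial k]^1 (Ω[LaurentPolynomial k⁄k])) :=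
  DeRham.gen (KaehlerDifferential.D k (LaurentPolynomial k)) 1
        (LaurentPolynomial.T (-1)) (fun _ => LaurentPolynomial.T 1)

omit [CharZero k] in
theorem oneEquiv_η : exteriorPower.oneEquiv (LaurentPolynomial k) (Ω[LaurentPolynomial k⁄k]) (η k) =
    (T (-1) : LaurentPolynomial k) • w k := by
  rw [η, DeRham.gen, map_smul, exteriorPower.oneEquiv_ιMulti]
  rfl

omit [CharZero k] in
theorem ψ_η : ψ k (η k) = 1 := by
  rw [ψ_apply, oneEquiv_η, map_smul, φ_w, smul_eq_mul, mul_one, T, AddMonoidAlgebra.coeff_single,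
    Finsupp.single_eq_same]

include hd in
theorem decomp (x : ↥(⋀[LaurentPolynomial k]^1 (Ω[LaurentPolynomial k⁄k]))) :
    ∃ (y : ↥(⋀[LaurentPolynomial k]^0 (Ω[LaurentPolynomial k⁄k]))) (c : k), x = d 0 y + c • η k := by
  obtain ⟨g, hg⟩ := exists_eq_smul_w k
    (exteriorPower.oneEquiv (LaurentPolynomial k) (Ω[LaurentPolynomial k⁄k]) x)
  refine ⟨DeRham.gen (KaehlerDifferential.D k (LaurentPolynomial k)) 0 (antiLin k g) (fun _ => 0),
    g.coeff (-1), ?_⟩
  apply (exteriorPower.oneEquiv (LaurentPolynomial k) (Ω[LaurentPolynomial k⁄k])).injective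
  have e1 : (exteriorPower.oneEquiv (LaurentPolynomial k) (Ω[LaurentPolynomial k⁄k]))
      (g.coeff (-1) • η k) = g.coeff (-1) •
        (exteriorPower.oneEquiv (LaurentPolynomial k) (Ω[LaurentPolynomial k⁄k])) (η k) :=
    LinearMap.map_smul_of_tower
      (exteriorPower.oneEquiv (LaurentPolynomial k) (Ω[LaurentPolynomial k⁄k])).toLinearMap _ _
  rw [map_add, oneEquiv_d_gen k d hd, e1, oneEquiv_η, hg, D_eq,
    der_antiLin, sub_smul, smul_assoc]
  abel

include hd in
theorem main :
    DeRham.cocycles d 1 = ⊤ ∧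
    IsCompl (DeRham.coboundaries d 1) (Submodule.span k {η k}) ∧
    η k ∉ DeRham.coboundaries d 1 ∧
    ∀ i : ℕ, DeRham.cocycles d (i + 2) ≤ DeRham.coboundaries d (i + 2) := by
  refine ⟨?_, ⟨?_, ?_⟩, ?_, ?_⟩
  · rw [eq_top_iff]
    intro x _
    exact extPow_eq_zero k 0 (d 1 x)
  · rw [Submodule.disjoint_def]
    rintro x ⟨y, rfl⟩ hx
    obtain ⟨c, hc⟩ := Submodule.mem_span_singleton.mp hx
    have h1 := ψ_d k d hd y
    rw [← hc, map_smul, ψ_η, smul_eq_mul, mul_one] at h1
    rw [← hc, h1, zero_smul]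
  · rw [codisjoint_iff, eq_top_iff]
    intro x _
    obtain ⟨y, c, rfl⟩ := decomp k d hd x
    exact Submodule.add_mem_sup ⟨y, rfl⟩ (Submodule.smul_mem _ _ (Submodule.subset_span rfl))
  · rintro ⟨y, hy⟩
    have h1 := ψ_d k d hd y
    rw [hy, ψ_η] at h1
    exact one_ne_zero h1
  · intro i x _
    rw [extPow_eq_zero k i x]
    exact Submodule.zero_mem _

end DR

end Groth.Agent.Lib27.DeRhamGm
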