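import Mathlib
import Groth.Prelude.Def_Desc
set_option autoImplicit false
set_option maxHeartbeats 4000000
set_option synthInstance.maxHeartbeats 400000
universe u
open CategoryTheory CategoryTheory.Limits Opposite TensorProduct ChangeOfRings

namespace Groth.Agent.Lib27.ModDesc

section Etmul

variable {S T : Type u} [CommRing S] [CommRing T] (g : S →+* T) (N : ModuleCat.{u} S)

/-- the pure tensor `t ⊗ n` in `T ⊗_S N` -/
noncomputable def etmul (t : T) (n : N) : (ModuleCat.extendScalars g).obj N := t ⊗ₜ[S, g] n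

variable {g N}

theorem etmul_add_left (t t' : T) (n : N) :
    etmul g N (t + t') n = etmul g N t n + etmul g N t' n :=
  TensorProduct.add_tmul ..

theorem etmul_add_right (t : T) (n n' : N) :
    etmul g N t (n + n') = etmul g N t n + etmul g N t n' :=
  TensorProduct.tmul_add ..

theorem etmul_zero_left (n : N) : etmul g N 0 n = 0 :=
  TensorProduct.zero_tmul ..

theorem etmul_zero_right (t : T) : etmul g N t 0 = 0 :=
  TensorProduct.tmul_zero ..

theorem etmul_smul (t : T) (s : S) (n : N) : etmul g N (g s * t) n = etmul g N t (s • n) :=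
  (TensorProduct.smul_tmul (R := S) (R' := S) (M := (ModuleCat.restrictScalars g).obj (ModuleCat.of T T))
    (N := N) s t n)

theorem smul_etmul (t' t : T) (n : N) : t' • etmul g N t n = etmul g N (t' * t) n :=
  ModuleCat.ExtendScalars.smul_tmul ..

theorem etmul_induction {p : (ModuleCat.extendScalars g).obj N → Prop} (h0 : p 0)
    (h1 : ∀ t n, p (etmul g N t n)) (h2 : ∀ x y, p x → p y → p (x + y))
    (x : (ModuleCat.extendScalars g).obj N) : p x :=
  TensorProduct.induction_on x h0 h1 h2

theorem map_etmul {N' : ModuleCat.{u} S} (h : N ⟶ N') (t : T) (n : N) :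
    (ModuleCat.extendScalars g).map h (etmul g N t n) = etmul g N' t (h n) := rfl

/-- additive maps out of an extension of scalars -/
noncomputable def elift {P : Type*} [AddCommGroup P] (β : T →+ N →+ P)
    (hβ : ∀ (s : S) (t : T) (n : N), β (g s * t) n = β t (s • n)) :
    (ModuleCat.extendScalars g).obj N →+ P :=
  TensorProduct.liftAddHom (R := S) (M := (ModuleCat.restrictScalars g).obj (ModuleCat.of T T))
    (N := N) β hβ

@[simp] theorem elift_etmul {P : Type*} [AddCommGroup P] (β : T →+ N →+ P)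
    (hβ : ∀ (s : S) (t : T) (n : N), β (g s * t) n = β t (s • n)) (t : T) (n : N) :
    elift β hβ (etmul g N t n) = β t n := rfl

theorem addHom_ext {P : Type*} [AddCommGroup P] {α β : (ModuleCat.extendScalars g).obj N →+ P}
    (h : ∀ t n, α (etmul g N t n) = β (etmul g N t n)) : α = β := by
  ext x
  induction x using etmul_induction with
  | h0 => simp
  | h1 t n => exact h t n
  | h2 x y hx hy => rw [map_add, map_add, hx, hy]

end Etmul

section Comp

variable {A B C : Type u} [CommRing A] [CommRing B] [CommRing C] (f : A →+* B) (g : B →+* C)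
  (N : ModuleCat.{u} A)

theorem etmul_eq_smul_one {S T : Type u} [CommRing S] [CommRing T] (g : S →+* T)
    (N : ModuleCat.{u} S) (t : T) (n : N) : etmul g N t n = t • etmul g N 1 n := by
  rw [smul_etmul, mul_one]

theorem comp_hom_etmul (c : C) (n : N) :
    (ModuleCat.extendScalarsComp f g).hom.app N (etmul (g.comp f) N c n) =
      etmul g _ c (etmul f N 1 n) := by
  rw [etmul_eq_smul_one (g.comp f), etmul_eq_smul_one g, map_smul]
  congr 1
  exact ModuleCat.extendScalarsComp_hom_app_one_tmul f g N n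

theorem comp_inv_etmul (c : C) (b : B) (n : N) :
    (ModuleCat.extendScalarsComp f g).inv.app N (etmul g _ c (etmul f N b n)) =
      etmul (g.comp f) N (c * g b) n := by
  have h1 : etmul g ((ModuleCat.extendScalars f).obj N) c (etmul f N b n) =
      (ModuleCat.extendScalarsComp f g).hom.app N (etmul (g.comp f) N (c * g b) n) := by
    rw [comp_hom_etmul, mul_comm, etmul_smul, smul_etmul, mul_one]
  rw [h1]
  exact congr($((ModuleCat.extendScalarsComp f g).hom_inv_id_app N) _)

theorem id_hom_etmul {S : Type u} [CommRing S] (N : ModuleCat.{u} S) (s : S) (n : N) :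
    (ModuleCat.extendScalarsId S).hom.app N (etmul (RingHom.id S) N s n) = s • n := by
  rw [etmul_eq_smul_one, map_smul]
  congr 1
  exact ModuleCat.extendScalarsId_hom_app_one_tmul.{u, u} N n

end Comp

section Concrete

variable (R S : Type u) [CommRing R] [CommRing S] [Algebra R S]

/-- the first inclusion `S → S ⊗_R S` -/
noncomputable def i1 : S →+* S ⊗[R] S := Algebra.TensorProduct.includeLeftRingHom

/-- the second inclusion `S → S ⊗_R S` -/
noncomputable def i2 : S →+* S ⊗[R] S :=
  (Algebra.TensorProduct.includeRight : S →ₐ[R] S ⊗[R] S).toRingHom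

variable {R S}

@[simp] theorem i1_apply (s : S) : i1 R S s = s ⊗ₜ[R] (1 : S) := rfl

@[simp] theorem i2_apply (s : S) : i2 R S s = (1 : S) ⊗ₜ[R] s := rfl

theorem i1_comp_eq : (i1 R S).comp (algebraMap R S) = (i2 R S).comp (algebraMap R S) := by
  ext r
  simp only [RingHom.comp_apply, i1_apply, i2_apply]
  rw [Algebra.algebraMap_eq_smul_one, TensorProduct.smul_tmul]

variable {T' : Type u} [CommRing T'] (N : ModuleCat.{u} S)

variable (R) in
/-- `N` as an `R`-module -/
noncomputable abbrev rN : ModuleCat.{u} R := (ModuleCat.restrictScalars (algebraMap R S)).obj N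

variable (R) in
/-- the identity `N → rN N` -/
noncomputable def toR : N →+ rN R N := AddMonoidHom.id N

variable (R) in
/-- the identity `rN N → N` -/
noncomputable def ofR : rN R N →+ N := AddMonoidHom.id N

variable {N}

@[simp] theorem ofR_toR (n : N) : ofR R N (toR R N n) = n := rfl

@[simp] theorem toR_ofR (m : rN R N) : toR R N (ofR R N m) = m := rfl

theorem smul_toR (r : R) (n : N) : r • toR R N n = toR R N (algebraMap R S r • n) := rfl

theorem ofR_smul (r : R) (m : rN R N) : ofR R N (r • m) = algebraMap R S r • ofR R N m := rfl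

variable (N)

/-- `S ⊗_R N → T' ⊗_{g₂} N`, `s ⊗ n ↦ g₁ s ⊗ n` -/
noncomputable def Lam (g₁ g₂ : S →+* T')
    (h : g₁.comp (algebraMap R S) = g₂.comp (algebraMap R S)) :
    (ModuleCat.extendScalars (algebraMap R S)).obj (rN R N) →+
      (ModuleCat.extendScalars g₂).obj N :=
  elift (g := algebraMap R S) (N := rN R N)
    (AddMonoidHom.mk' (fun s => AddMonoidHom.mk' (fun m : rN R N => etmul g₂ N (g₁ s) (ofR R N m))
      (fun m m' => by rw [map_add, etmul_add_right]))
      (fun s s' => by
        ext m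
        simp only [AddMonoidHom.mk'_apply, AddMonoidHom.add_apply, map_add, etmul_add_left]))
    (fun r s m => by
      simp only [AddMonoidHom.mk'_apply, map_mul]
      have h1 : g₁ (algebraMap R S r) = g₂ (algebraMap R S r) := congr($h r)
      rw [h1, etmul_smul, ofR_smul])

@[simp] theorem Lam_etmul (g₁ g₂ : S →+* T')
    (h : g₁.comp (algebraMap R S) = g₂.comp (algebraMap R S)) (s : S) (m : rN R N) :
    Lam N g₁ g₂ h (etmul (algebraMap R S) (rN R N) s m) = etmul g₂ N (g₁ s) (ofR R N m) := rfl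

/-- auxiliary: for fixed `n`, `S ⊗_R S → S ⊗_R N`, `s ⊗ s' ↦ s ⊗ s'n` -/
noncomputable def psiAux (n : N) :
    S ⊗[R] S →+ (ModuleCat.extendScalars (algebraMap R S)).obj (rN R N) :=
  TensorProduct.liftAddHom
    (AddMonoidHom.mk' (fun s => AddMonoidHom.mk'
      (fun s' => etmul (algebraMap R S) (rN R N) s (toR R N (s' • n)))
      (fun a b => by rw [add_smul, map_add, etmul_add_right]))
      (fun a b => by
        ext s'
        simp only [AddMonoidHom.mk'_apply, AddMonoidHom.add_apply, etmul_add_left]))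
    (fun r s s' => by
      simp only [AddMonoidHom.mk'_apply]
      rw [Algebra.smul_def, etmul_smul, smul_toR, Algebra.smul_def, mul_smul])

@[simp] theorem psiAux_tmul (n : N) (s s' : S) :
    psiAux (R := R) N n (s ⊗ₜ[R] s') = etmul (algebraMap R S) (rN R N) s (toR R N (s' • n)) := rfl

theorem psiAux_add (n n' : N) (t : S ⊗[R] S) :
    psiAux (R := R) N (n + n') t = psiAux (R := R) N n t + psiAux (R := R) N n' t := by
  induction t using TensorProduct.induction_on with
  | zero => simp
  | tmul s s' =>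
    rw [psiAux_tmul, psiAux_tmul, psiAux_tmul, smul_add, map_add, etmul_add_right]
  | add x y hx hy =>
    rw [map_add, map_add, map_add, hx, hy]
    abel

theorem psiAux_i2_mul (n : N) (s₀ : S) (t : S ⊗[R] S) :
    psiAux (R := R) N n (i2 R S s₀ * t) = psiAux (R := R) N (s₀ • n) t := by
  induction t using TensorProduct.induction_on with
  | zero => simp
  | tmul s s' =>
    rw [i2_apply, Algebra.TensorProduct.tmul_mul_tmul, one_mul, psiAux_tmul, psiAux_tmul,
      mul_comm, mul_smul]
  | add x y hx hy =>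
    rw [mul_add, map_add, map_add, hx, hy]

theorem psiAux_i1_mul (n : N) (s₀ : S) (t : S ⊗[R] S) :
    psiAux (R := R) N n (i1 R S s₀ * t) = s₀ • psiAux (R := R) N n t := by
  induction t using TensorProduct.induction_on with
  | zero => simp
  | tmul s s' =>
    rw [i1_apply, Algebra.TensorProduct.tmul_mul_tmul, one_mul, psiAux_tmul, psiAux_tmul,
      smul_etmul]
  | add x y hx hy =>
    rw [mul_add, map_add, map_add, hx, hy, smul_add]

/-- the base change isomorphism `(S ⊗_R S) ⊗_{i2,S} N → S ⊗_R N`, `(s ⊗ s') ⊗ n ↦ s ⊗ s'n` -/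
noncomputable def psi :
    (ModuleCat.extendScalars (i2 R S)).obj N →+
      (ModuleCat.extendScalars (algebraMap R S)).obj (rN R N) :=
  elift (g := i2 R S) (N := N)
    (AddMonoidHom.mk' (fun t => AddMonoidHom.mk' (fun n : N => psiAux (R := R) N n t)
      (fun n n' => psiAux_add N n n' t))
      (fun t t' => by
        ext n
        simp only [AddMonoidHom.mk'_apply, AddMonoidHom.add_apply, map_add]))
    (fun s₀ t n => by
      simp only [AddMonoidHom.mk'_apply]
      exact psiAux_i2_mul N n s₀ t)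

@[simp] theorem psi_etmul (t : S ⊗[R] S) (n : N) :
    psi (R := R) N (etmul (i2 R S) N t n) = psiAux (R := R) N n t := rfl

theorem psi_i1_smul (s₀ : S) (z : (ModuleCat.extendScalars (i2 R S)).obj N) :
    psi (R := R) N (i1 R S s₀ • z) = s₀ • psi (R := R) N z := by
  induction z using etmul_induction with
  | h0 => simp
  | h1 t n => rw [smul_etmul, psi_etmul, psi_etmul, psiAux_i1_mul]
  | h2 x y hx hy => rw [smul_add, map_add, map_add, hx, hy, smul_add]

variable (g : S ⊗[R] S →+* T')

/-- `Γ_g z`: the image of `1 ⊗_g z` under `T' ⊗_T (T ⊗_S N) ≅ T' ⊗_S N` -/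
noncomputable def Gam (z : (ModuleCat.extendScalars (i2 R S)).obj N) :
    (ModuleCat.extendScalars (g.comp (i2 R S))).obj N :=
  (ModuleCat.extendScalarsComp (i2 R S) g).inv.app N (etmul g _ 1 z)

theorem Gam_etmul (t : S ⊗[R] S) (n : N) :
    Gam N g (etmul (i2 R S) N t n) = etmul (g.comp (i2 R S)) N (g t) n := by
  rw [Gam, comp_inv_etmul, one_mul]

theorem Gam_add (z z' : (ModuleCat.extendScalars (i2 R S)).obj N) :
    Gam N g (z + z') = Gam N g z + Gam N g z' := by
  rw [Gam, etmul_add_right, map_add]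
  rfl

theorem Gam_zero : Gam N g 0 = 0 := by
  rw [Gam, etmul_zero_right, map_zero]

theorem comp_i1_eq :
    (g.comp (i1 R S)).comp (algebraMap R S) = (g.comp (i2 R S)).comp (algebraMap R S) := by
  rw [RingHom.comp_assoc, RingHom.comp_assoc, i1_comp_eq]

theorem Lam_psiAux (n : N) (t : S ⊗[R] S) :
    Lam N (g.comp (i1 R S)) (g.comp (i2 R S)) (comp_i1_eq g) (psiAux (R := R) N n t) =
      etmul (g.comp (i2 R S)) N (g t) n := by
  induction t using TensorProduct.induction_on with
  | zero => simp [etmul_zero_left]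
  | tmul s s' =>
    rw [psiAux_tmul, Lam_etmul, ofR_toR, ← etmul_smul]
    congr 1
    simp only [RingHom.comp_apply, i1_apply, i2_apply]
    rw [← map_mul, Algebra.TensorProduct.tmul_mul_tmul, one_mul, mul_one]
  | add x y hx hy =>
    rw [map_add, map_add, map_add, hx, hy, etmul_add_left]

theorem Lam_psi (z : (ModuleCat.extendScalars (i2 R S)).obj N) :
    Lam N (g.comp (i1 R S)) (g.comp (i2 R S)) (comp_i1_eq g) (psi (R := R) N z) = Gam N g z := by
  induction z using etmul_induction with
  | h0 => rw [map_zero, map_zero, Gam_zero]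
  | h1 t n => rw [psi_etmul, Lam_psiAux, Gam_etmul]
  | h2 x y hx hy => rw [map_add, map_add, hx, hy, Gam_add]

section Triple

/-- `S → S ⊗ (S ⊗ S)`, first factor -/
noncomputable def k1 : S →+* S ⊗[R] (S ⊗[R] S) := Algebra.TensorProduct.includeLeftRingHom

/-- `S ⊗ S → S ⊗ (S ⊗ S)` -/
noncomputable def kr : S ⊗[R] S →+* S ⊗[R] (S ⊗[R] S) :=
  (Algebra.TensorProduct.includeRight : S ⊗[R] S →ₐ[R] S ⊗[R] (S ⊗[R] S)).toRingHom

/-- second factor -/
noncomputable def k2 : S →+* S ⊗[R] (S ⊗[R] S) := (kr (R := R) (S := S)).comp (i1 R S)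

/-- third factor -/
noncomputable def k3 : S →+* S ⊗[R] (S ⊗[R] S) := (kr (R := R) (S := S)).comp (i2 R S)

@[simp] theorem k1_apply (s : S) : k1 (R := R) s = s ⊗ₜ[R] (1 : S ⊗[R] S) := rfl

@[simp] theorem kr_apply (t : S ⊗[R] S) : kr (R := R) (S := S) t = (1 : S) ⊗ₜ[R] t := rfl

@[simp] theorem k2_apply (s : S) : k2 (R := R) s = (1 : S) ⊗ₜ[R] (s ⊗ₜ[R] (1 : S)) := rfl

@[simp] theorem k3_apply (s : S) : k3 (R := R) s = (1 : S) ⊗ₜ[R] ((1 : S) ⊗ₜ[R] s) := rfl

theorem k2_comp_eq : (k2 (R := R) (S := S)).comp (algebraMap R S) =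
    (k3 (R := R) (S := S)).comp (algebraMap R S) := by
  rw [k2, k3, RingHom.comp_assoc, RingHom.comp_assoc, i1_comp_eq]

theorem k1_comp_eq : (k1 (R := R) (S := S)).comp (algebraMap R S) =
    (k2 (R := R) (S := S)).comp (algebraMap R S) := by
  ext r
  simp only [RingHom.comp_apply, k1_apply, k2_apply]
  rw [Algebra.algebraMap_eq_smul_one, TensorProduct.smul_tmul, Algebra.TensorProduct.one_def,
    TensorProduct.smul_tmul']

theorem k1_comp_eq' : (k1 (R := R) (S := S)).comp (algebraMap R S) =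
    (k3 (R := R) (S := S)).comp (algebraMap R S) :=
  k1_comp_eq.trans k2_comp_eq

theorem smul_eq_i1_mul (r : R) (t : S ⊗[R] S) : r • t = i1 R S (algebraMap R S r) * t := by
  rw [Algebra.smul_def]
  rfl

/-- `S ⊗_R N` as an `S`-module -/
noncomputable abbrev EN : ModuleCat.{u} S := (ModuleCat.extendScalars (algebraMap R S)).obj (rN R N)

/-- auxiliary map for `psi3` -/
noncomputable def psi3Aux (n : N) :
    S ⊗[R] (S ⊗[R] S) →+ (ModuleCat.extendScalars (algebraMap R S)).obj (rN R (EN (R := R) N)) :=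
  TensorProduct.liftAddHom
    (AddMonoidHom.mk' (fun s₁ => AddMonoidHom.mk'
      (fun t => etmul (algebraMap R S) (rN R (EN (R := R) N)) s₁
        (toR R (EN (R := R) N) (psiAux (R := R) N n t)))
      (fun a b => by rw [map_add, map_add, etmul_add_right]))
      (fun a b => by
        ext t
        simp only [AddMonoidHom.mk'_apply, AddMonoidHom.add_apply, etmul_add_left]))
    (fun r s₁ t => by
      simp only [AddMonoidHom.mk'_apply]
      rw [Algebra.smul_def, etmul_smul, smul_toR, smul_eq_i1_mul, psiAux_i1_mul])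

@[simp] theorem psi3Aux_tmul (n : N) (s₁ : S) (t : S ⊗[R] S) :
    psi3Aux (R := R) N n (s₁ ⊗ₜ[R] t) = etmul (algebraMap R S) (rN R (EN (R := R) N)) s₁
        (toR R (EN (R := R) N) (psiAux (R := R) N n t)) := rfl

theorem psi3Aux_add (n n' : N) (x : S ⊗[R] (S ⊗[R] S)) :
    psi3Aux (R := R) N (n + n') x = psi3Aux (R := R) N n x + psi3Aux (R := R) N n' x := by
  induction x using TensorProduct.induction_on with
  | zero => simp
  | tmul s t =>
    rw [psi3Aux_tmul, psi3Aux_tmul, psi3Aux_tmul, psiAux_add, map_add, etmul_add_right]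
  | add x y hx hy =>
    rw [map_add, map_add, map_add, hx, hy]
    abel

theorem psi3Aux_k3_mul (n : N) (s₀ : S) (x : S ⊗[R] (S ⊗[R] S)) :
    psi3Aux (R := R) N n (k3 (R := R) s₀ * x) = psi3Aux (R := R) N (s₀ • n) x := by
  induction x using TensorProduct.induction_on with
  | zero => simp
  | tmul s t =>
    rw [k3_apply, Algebra.TensorProduct.tmul_mul_tmul, one_mul, psi3Aux_tmul, psi3Aux_tmul,
      ← i2_apply, psiAux_i2_mul]
  | add x y hx hy =>
    rw [mul_add, map_add, map_add, hx, hy]

/-- `(S ⊗ S ⊗ S) ⊗_{k3,S} N → S ⊗_R (S ⊗_R N)` -/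
noncomputable def psi3 :
    (ModuleCat.extendScalars (k3 (R := R) (S := S))).obj N →+
      (ModuleCat.extendScalars (algebraMap R S)).obj (rN R (EN (R := R) N)) :=
  elift (g := k3 (R := R) (S := S)) (N := N)
    (AddMonoidHom.mk' (fun x => AddMonoidHom.mk' (fun n : N => psi3Aux (R := R) N n x)
      (fun n n' => psi3Aux_add N n n' x))
      (fun x x' => by
        ext n
        simp only [AddMonoidHom.mk'_apply, AddMonoidHom.add_apply, map_add]))
    (fun s₀ x n => by
      simp only [AddMonoidHom.mk'_apply]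
      exact psi3Aux_k3_mul N n s₀ x)

@[simp] theorem psi3_etmul (x : S ⊗[R] (S ⊗[R] S)) (n : N) :
    psi3 (R := R) N (etmul (k3 (R := R) (S := S)) N x n) = psi3Aux (R := R) N n x := rfl

theorem psi3_k1_smul_Lam (s : S) (y : EN (R := R) N) :
    psi3 (R := R) N (k1 (R := R) s • Lam N (k2 (R := R)) (k3 (R := R)) k2_comp_eq y) =
      etmul (algebraMap R S) (rN R (EN (R := R) N)) s (toR R (EN (R := R) N) y) := by
  induction y using etmul_induction with
  | h0 => simp [etmul_zero_right]
  | h1 s' m =>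
    rw [Lam_etmul, smul_etmul, psi3_etmul, k1_apply, k2_apply,
      Algebra.TensorProduct.tmul_mul_tmul, mul_one, one_mul, psi3Aux_tmul, psiAux_tmul, one_smul,
      toR_ofR]
  | h2 x y hx hy =>
    rw [map_add, smul_add, map_add, hx, hy, map_add, etmul_add_right]

theorem psi3_Lam_k1_k3 (s : S) (m : rN R N) :
    psi3 (R := R) N (Lam N (k1 (R := R)) (k3 (R := R)) k1_comp_eq'
      (etmul (algebraMap R S) (rN R N) s m)) =
      etmul (algebraMap R S) (rN R (EN (R := R) N)) s
        (toR R (EN (R := R) N) (etmul (algebraMap R S) (rN R N) 1 m)) := by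
  rw [Lam_etmul, psi3_etmul, k1_apply, psi3Aux_tmul, Algebra.TensorProduct.one_def, psiAux_tmul,
    one_smul, toR_ofR]

end Triple

end Concrete

section PF

theorem mapComp_hom_app {X Y Z : CommRingCat.{u}ᵒᵖ} (f : Y ⟶ X) (g : Z ⟶ Y)
    (N : ModuleCat.{u} X.unop) :
    (Desc.ringModPF.{u}.mapComp f.op.toLoc g.op.toLoc).hom.toNatTrans.app N =
      (ModuleCat.extendScalarsComp f.unop.hom g.unop.hom).hom.app N := by
  simp [Desc.ringModPF]
  rfl

theorem mapComp_inv_app {X Y Z : CommRingCat.{u}ᵒᵖ} (f : Y ⟶ X) (g : Z ⟶ Y)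
    (N : ModuleCat.{u} X.unop) :
    (Desc.ringModPF.{u}.mapComp f.op.toLoc g.op.toLoc).inv.toNatTrans.app N =
      (ModuleCat.extendScalarsComp f.unop.hom g.unop.hom).inv.app N := by
  simp [Desc.ringModPF]
  rfl

theorem mapComp'_hom_app {A B C : CommRingCat.{u}} (f : A ⟶ B) (g : B ⟶ C) (N : ModuleCat.{u} A) :
    (Desc.ringModPF.{u}.mapComp' f.op.op.toLoc g.op.op.toLoc (f ≫ g).op.op.toLoc rfl).hom.toNatTrans.app N =
      (ModuleCat.extendScalarsComp f.hom g.hom).hom.app N := by
  have := Pseudofunctor.mapComp'_eq_mapComp Desc.ringModPF.{u} f.op.op.toLoc g.op.op.toLoc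
  rw [show Desc.ringModPF.{u}.mapComp' f.op.op.toLoc g.op.op.toLoc (f ≫ g).op.op.toLoc rfl =
    Desc.ringModPF.{u}.mapComp f.op.op.toLoc g.op.op.toLoc from this]
  exact mapComp_hom_app f.op g.op N

theorem mapComp'_inv_app {A B C : CommRingCat.{u}} (f : A ⟶ B) (g : B ⟶ C) (N : ModuleCat.{u} A) :
    (Desc.ringModPF.{u}.mapComp' f.op.op.toLoc g.op.op.toLoc (f ≫ g).op.op.toLoc rfl).inv.toNatTrans.app N =
      (ModuleCat.extendScalarsComp f.hom g.hom).inv.app N := by
  have := Pseudofunctor.mapComp'_eq_mapComp Desc.ringModPF.{u} f.op.op.toLoc g.op.op.toLoc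
  rw [show Desc.ringModPF.{u}.mapComp' f.op.op.toLoc g.op.op.toLoc (f ≫ g).op.op.toLoc rfl =
    Desc.ringModPF.{u}.mapComp f.op.op.toLoc g.op.op.toLoc from this]
  exact mapComp_inv_app f.op g.op N

end PF

section DD

variable (R S : Type u) [CommRing R] [CommRing S] [Algebra R S]

/-- the ring map as a morphism of `CommRingCat` -/
abbrev fRS : CommRingCat.of R ⟶ CommRingCat.of S := CommRingCat.ofHom (algebraMap R S)

/-- the one-element family -/
abbrev fam : PUnit.{u + 1} → (op (CommRingCat.of S) ⟶ op (CommRingCat.of R)) :=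
  fun _ => (fRS R S).op

/-- `S ⊗_R S` -/
abbrev TT : CommRingCat.{u} := CommRingCat.of (S ⊗[R] S)

/-- first inclusion -/
noncomputable abbrev j1 : CommRingCat.of S ⟶ TT R S := CommRingCat.ofHom (i1 R S)

/-- second inclusion -/
noncomputable abbrev j2 : CommRingCat.of S ⟶ TT R S := CommRingCat.ofHom (i2 R S)

theorem fRS_j1 : fRS R S ≫ j1 R S = fRS R S ≫ j2 R S := by
  ext r
  exact congr($(i1_comp_eq (R := R) (S := S)) r)

variable {R S} (D : Desc.ringModPF.{u}.DescentData (fam R S))

/-- the underlying `S`-module -/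
noncomputable def objN : ModuleCat.{u} S := D.obj PUnit.unit

theorem comp_eq_of_ringHom {T' : Type u} [CommRing T'] {g₁ g₂ : S →+* T'}
    (h : g₁.comp (algebraMap R S) = g₂.comp (algebraMap R S)) :
    fRS R S ≫ CommRingCat.ofHom g₁ = fRS R S ≫ CommRingCat.ofHom g₂ := by
  ext r
  exact congr($h r)

/-- the descent isomorphism for a pair of maps to a test ring -/
noncomputable def Phi {T' : Type u} [CommRing T'] (g₁ g₂ : S →+* T')
    (h : g₁.comp (algebraMap R S) = g₂.comp (algebraMap R S)) :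
    (ModuleCat.extendScalars g₁).obj (objN D) ⟶ (ModuleCat.extendScalars g₂).obj (objN D) :=
  D.hom (fRS R S ≫ CommRingCat.ofHom g₁).op (CommRingCat.ofHom g₁).op (CommRingCat.ofHom g₂).op rfl
    (by rw [comp_eq_of_ringHom h]; rfl)

theorem Phi_comp {T' : Type u} [CommRing T'] (g : S ⊗[R] S →+* T') (n : objN D) :
    Phi D (g.comp (i1 R S)) (g.comp (i2 R S)) (comp_i1_eq g)
      (etmul (g.comp (i1 R S)) (objN D) 1 n) =
    Gam (objN D) g (Phi D (i1 R S) (i2 R S) i1_comp_eq (etmul (i1 R S) (objN D) 1 n)) := by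
  have h := D.pullHom_hom (CommRingCat.ofHom g).op (fRS R S ≫ j1 R S).op
    (fRS R S ≫ j1 R S ≫ CommRingCat.ofHom g).op rfl
    (i₁ := PUnit.unit) (i₂ := PUnit.unit)
    (j1 R S).op (j2 R S).op rfl (by rw [fRS_j1]; rfl) (j1 R S ≫ CommRingCat.ofHom g).op
    (j2 R S ≫ CommRingCat.ofHom g).op rfl rfl
  have h3 : (ModuleCat.extendScalarsComp (i1 R S) g).hom.app (objN D) ≫
      (ModuleCat.extendScalars g).map (Phi D (i1 R S) (i2 R S) i1_comp_eq) ≫
      (ModuleCat.extendScalarsComp (i2 R S) g).inv.app (objN D) =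
      Phi D (g.comp (i1 R S)) (g.comp (i2 R S)) (comp_i1_eq g) := by
    have e1 := mapComp'_hom_app (j1 R S) (CommRingCat.ofHom g) (objN D)
    have e2 := mapComp'_inv_app (j2 R S) (CommRingCat.ofHom g) (objN D)
    simp only [CommRingCat.hom_ofHom] at e1 e2
    rw [← e1, ← e2]
    exact h
  rw [← h3]
  change (ModuleCat.extendScalarsComp (i2 R S) g).inv.app (objN D)
    ((ModuleCat.extendScalars g).map (Phi D (i1 R S) (i2 R S) i1_comp_eq)
      ((ModuleCat.extendScalarsComp (i1 R S) g).hom.app (objN D)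
        (etmul (g.comp (i1 R S)) (objN D) 1 n))) = _
  rw [comp_hom_etmul, map_etmul]
  rfl

/-- the coalgebra structure map, as a function -/
noncomputable def aFun (n : objN D) :
    (ModuleCat.extendScalars (algebraMap R S)).obj (rN R (objN D)) :=
  psi (R := R) (objN D) (Phi D (i1 R S) (i2 R S) i1_comp_eq (etmul (i1 R S) (objN D) 1 n))

theorem aFun_add (n n' : objN D) : aFun D (n + n') = aFun D n + aFun D n' := by
  rw [aFun, etmul_add_right, map_add, map_add]
  rfl

theorem aFun_smul (s : S) (n : objN D) : aFun D (s • n) = s • aFun D n := by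
  rw [aFun, ← etmul_smul, mul_one, ← mul_one (i1 R S s), ← smul_etmul, map_smul, psi_i1_smul]
  rfl

/-- the coalgebra structure map, as a linear map -/
noncomputable def aLin : (objN D) →ₗ[S]
    ((ModuleCat.extendScalars (algebraMap R S)).obj (rN R (objN D))) where
  toFun := aFun D
  map_add' := aFun_add D
  map_smul' := aFun_smul D

/-- the coalgebra structure map -/
noncomputable def aHom : objN D ⟶
    (ModuleCat.extendScalars (algebraMap R S)).obj (rN R (objN D)) :=
  ConcreteCategory.ofHom (C := ModuleCat.{u} S) (X := objN D)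
    (Y := (ModuleCat.extendScalars (algebraMap R S)).obj (rN R (objN D))) (aLin D)

@[simp] theorem aHom_apply (n : objN D) : aHom D n = aFun D n := rfl

/-- the map `S ⊗_R S → T'` induced by a pair of maps -/
noncomputable def liftT {T' : Type u} [CommRing T'] (g₁ g₂ : S →+* T')
    (h : g₁.comp (algebraMap R S) = g₂.comp (algebraMap R S)) : S ⊗[R] S →+* T' :=
  letI : Algebra R T' := (g₁.comp (algebraMap R S)).toAlgebra
  (Algebra.TensorProduct.lift (R := R) (S := R) (A := S) (B := S) (C := T')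
    (⟨g₁, fun _ => rfl⟩ : S →ₐ[R] T')
    (⟨g₂, fun r => (congr($h r)).symm⟩ : S →ₐ[R] T') (fun _ _ => Commute.all _ _)).toRingHom

theorem liftT_comp_i1 {T' : Type u} [CommRing T'] (g₁ g₂ : S →+* T')
    (h : g₁.comp (algebraMap R S) = g₂.comp (algebraMap R S)) :
    (liftT g₁ g₂ h).comp (i1 R S) = g₁ := by
  ext s
  simp [liftT]

theorem liftT_comp_i2 {T' : Type u} [CommRing T'] (g₁ g₂ : S →+* T')
    (h : g₁.comp (algebraMap R S) = g₂.comp (algebraMap R S)) :
    (liftT g₁ g₂ h).comp (i2 R S) = g₂ := by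
  ext s
  simp [liftT]

theorem Phi_one {T' : Type u} [CommRing T'] (g₁ g₂ : S →+* T')
    (h : g₁.comp (algebraMap R S) = g₂.comp (algebraMap R S)) (n : objN D) :
    Phi D g₁ g₂ h (etmul g₁ (objN D) 1 n) = Lam (objN D) g₁ g₂ h (aFun D n) := by
  have e1 := liftT_comp_i1 g₁ g₂ h
  have e2 := liftT_comp_i2 g₁ g₂ h
  generalize liftT g₁ g₂ h = g at e1 e2
  subst e1 e2
  rw [Phi_comp, aFun, Lam_psi]

theorem Phi_self {T' : Type u} [CommRing T'] (g : S →+* T') : Phi D g g rfl = 𝟙 _ :=
  D.hom_self _ _ rfl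

theorem counit_etmul (N : ModuleCat.{u} S) (s : S) (m : rN R N) :
    (ModuleCat.extendRestrictScalarsAdj.{u, u, u} (algebraMap R S)).counit.app N
      (etmul (algebraMap R S) (rN R N) s m) = s • ofR R N m := by
  rw [etmul_eq_smul_one, map_smul]
  congr 1
  exact ModuleCat.extendRestrictScalarsAdj_counit_app_apply_one_tmul (f := algebraMap R S) N
    (ofR R N m)

theorem counit_Lam (N : ModuleCat.{u} S)
    (x : (ModuleCat.extendScalars (algebraMap R S)).obj (rN R N)) :
    (ModuleCat.extendScalarsId S).hom.app N (Lam N (RingHom.id S) (RingHom.id S) rfl x) =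
      (ModuleCat.extendRestrictScalarsAdj.{u, u, u} (algebraMap R S)).counit.app N x := by
  induction x using etmul_induction with
  | h0 => simp
  | h1 s m =>
    rw [Lam_etmul, counit_etmul, id_hom_etmul]
    rfl
  | h2 x y hx hy => rw [map_add, map_add, map_add, hx, hy]

theorem aHom_counit_apply (n : objN D) :
    (ModuleCat.extendRestrictScalarsAdj.{u, u, u} (algebraMap R S)).counit.app (objN D)
      (aFun D n) = n := by
  rw [← counit_Lam (R := R) (objN D) (aFun D n), ← Phi_one D (RingHom.id S) (RingHom.id S) rfl n,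
    Phi_self]
  change (ModuleCat.extendScalarsId S).hom.app (objN D) (etmul (RingHom.id S) (objN D) 1 n) = n
  rw [id_hom_etmul, one_smul]

theorem aHom_counit :
    aHom D ≫ (ModuleCat.extendRestrictScalarsAdj.{u, u, u} (algebraMap R S)).counit.app (objN D) =
      𝟙 (objN D) := by
  ext n
  exact aHom_counit_apply D n

theorem Phi_eq {T' : Type u} [CommRing T'] (g₁ g₂ : S →+* T')
    (h : g₁.comp (algebraMap R S) = g₂.comp (algebraMap R S))
    (q : op (CommRingCat.of T') ⟶ op (CommRingCat.of R))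
    (hq1 : (CommRingCat.ofHom g₁).op ≫ fam R S PUnit.unit = q)
    (hq2 : (CommRingCat.ofHom g₂).op ≫ fam R S PUnit.unit = q) :
    Phi D g₁ g₂ h = D.hom q (CommRingCat.ofHom g₁).op (CommRingCat.ofHom g₂).op hq1 hq2 := by
  subst hq1
  rfl

theorem Phi_trans {T' : Type u} [CommRing T'] (g₁ g₂ g₃ : S →+* T')
    (h₁₂ : g₁.comp (algebraMap R S) = g₂.comp (algebraMap R S))
    (h₂₃ : g₂.comp (algebraMap R S) = g₃.comp (algebraMap R S)) :
    Phi D g₁ g₂ h₁₂ ≫ Phi D g₂ g₃ h₂₃ = Phi D g₁ g₃ (h₁₂.trans h₂₃) := by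
  have hq2 : (CommRingCat.ofHom g₂).op ≫ fam R S PUnit.unit =
      (fRS R S ≫ CommRingCat.ofHom g₁).op := by
    rw [comp_eq_of_ringHom h₁₂]; rfl
  have hq3 : (CommRingCat.ofHom g₃).op ≫ fam R S PUnit.unit =
      (fRS R S ≫ CommRingCat.ofHom g₁).op := by
    rw [comp_eq_of_ringHom (h₁₂.trans h₂₃)]; rfl
  rw [Phi_eq D g₁ g₂ h₁₂ _ rfl hq2, Phi_eq D g₂ g₃ h₂₃ _ hq2 hq3,
    Phi_eq D g₁ g₃ (h₁₂.trans h₂₃) _ rfl hq3]
  exact D.hom_comp _ _ _ _ _ _ _

theorem psi3_Phi_Lam (x : EN (R := R) (objN D)) :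
    psi3 (R := R) (objN D) (Phi D (k2 (R := R)) (k3 (R := R)) k2_comp_eq
      (Lam (objN D) (k1 (R := R)) (k2 (R := R)) k1_comp_eq x)) =
    (ModuleCat.extendScalars (algebraMap R S)).map
      ((ModuleCat.restrictScalars (algebraMap R S)).map (aHom D)) x := by
  induction x using etmul_induction with
  | h0 => simp
  | h1 s m =>
    rw [Lam_etmul, etmul_eq_smul_one, map_smul, Phi_one, psi3_k1_smul_Lam, map_etmul]
    rfl
  | h2 x y hx hy => rw [map_add, map_add, map_add, hx, hy, map_add]

theorem psi3_Lam (x : EN (R := R) (objN D)) :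
    psi3 (R := R) (objN D) (Lam (objN D) (k1 (R := R)) (k3 (R := R)) k1_comp_eq' x) =
    (ModuleCat.extendScalars (algebraMap R S)).map
      ((ModuleCat.extendRestrictScalarsAdj.{u, u, u} (algebraMap R S)).unit.app (rN R (objN D))) x := by
  induction x using etmul_induction with
  | h0 => simp
  | h1 s m =>
    rw [psi3_Lam_k1_k3]
    rfl
  | h2 x y hx hy => rw [map_add, map_add, hx, hy, map_add]

theorem aHom_coassoc_apply (n : objN D) :
    (ModuleCat.extendScalars (algebraMap R S)).map
      ((ModuleCat.extendRestrictScalarsAdj.{u, u, u} (algebraMap R S)).unit.app (rN R (objN D)))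
      (aFun D n) =
    (ModuleCat.extendScalars (algebraMap R S)).map
      ((ModuleCat.restrictScalars (algebraMap R S)).map (aHom D)) (aFun D n) := by
  rw [← psi3_Lam D (aFun D n), ← psi3_Phi_Lam D (aFun D n),
    ← Phi_one D (k1 (R := R)) (k3 (R := R)) k1_comp_eq' n,
    ← Phi_one D (k1 (R := R)) (k2 (R := R)) k1_comp_eq n,
    ← Phi_trans D (k1 (R := R)) (k2 (R := R)) (k3 (R := R)) k1_comp_eq k2_comp_eq]
  rfl

/-- the coalgebra attached to a descent datum -/
noncomputable def coalg :
    (ModuleCat.extendRestrictScalarsAdj.{u, u, u} (algebraMap R S)).toComonad.Coalgebra where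
  A := objN D
  a := aHom D
  counit := aHom_counit D
  coassoc := by
    ext n
    exact aHom_coassoc_apply D n

theorem comparison_isEquivalence {A B : Type u} [CommRing A] [CommRing B] {f : A →+* B}
    (hf : f.FaithfullyFlat) :
    (Comonad.comparison (ModuleCat.extendRestrictScalarsAdj.{u, u, u} f)).IsEquivalence := by
  have := ModuleCat.preservesFiniteLimits_extendScalars_of_flat hf.flat
  have := ModuleCat.reflectsIsomorphisms_extendScalars_of_faithfullyFlat hf
  have : Comonad.HasEqualizerOfIsCosplitPair (ModuleCat.extendScalars.{u, u, u} f) := ⟨inferInstance⟩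
  have : Comonad.PreservesLimitOfIsCosplitPair (ModuleCat.extendScalars.{u, u, u} f) := ⟨inferInstance⟩
  exact (Comonad.comonadicOfHasPreservesFSplitEqualizersOfReflectsIsomorphisms
    (ModuleCat.extendRestrictScalarsAdj f)).eqv

theorem exists_module (hf : (algebraMap R S).FaithfullyFlat) :
    ∃ (M : ModuleCat.{u} R) (e : (ModuleCat.extendScalars (algebraMap R S)).obj M ≅ objN D),
      ∀ m : M, aFun D (e.hom (etmul (algebraMap R S) M 1 m)) =
        etmul (algebraMap R S) (rN R (objN D)) 1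
          (toR R (objN D) (e.hom (etmul (algebraMap R S) M 1 m))) := by
  have := comparison_isEquivalence hf
  let M := (Comonad.comparison (ModuleCat.extendRestrictScalarsAdj.{u, u, u}
    (algebraMap R S))).objPreimage (coalg D)
  let i : (Comonad.comparison (ModuleCat.extendRestrictScalarsAdj.{u, u, u}
    (algebraMap R S))).obj M ≅ coalg D := Functor.objObjPreimageIso _ _
  refine ⟨M, (Comonad.forget _).mapIso i, ?_⟩
  intro m
  have h := i.hom.h
  have h' := congr($h (etmul (algebraMap R S) M 1 m))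
  exact h'.symm

/-- `mapComp'` as a morphism of modules -/
noncomputable def mcHom {A B C : CommRingCat.{u}} (f : A ⟶ B) (g : B ⟶ C) (fg : A ⟶ C)
    (h : f ≫ g = fg) (N : ModuleCat.{u} A) :
    (ModuleCat.extendScalars fg.hom).obj N ⟶
      (ModuleCat.extendScalars g.hom).obj ((ModuleCat.extendScalars f.hom).obj N) :=
  (Desc.ringModPF.{u}.mapComp' f.op.op.toLoc g.op.op.toLoc fg.op.op.toLoc
    (by subst h; rfl)).hom.toNatTrans.app N

/-- `mapComp'` inverse as a morphism of modules -/
noncomputable def mcInv {A B C : CommRingCat.{u}} (f : A ⟶ B) (g : B ⟶ C) (fg : A ⟶ C)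
    (h : f ≫ g = fg) (N : ModuleCat.{u} A) :
    (ModuleCat.extendScalars g.hom).obj ((ModuleCat.extendScalars f.hom).obj N) ⟶
      (ModuleCat.extendScalars fg.hom).obj N :=
  (Desc.ringModPF.{u}.mapComp' f.op.op.toLoc g.op.op.toLoc fg.op.op.toLoc
    (by subst h; rfl)).inv.toNatTrans.app N

theorem mcHom_etmul {A B C : CommRingCat.{u}} (f : A ⟶ B) (g : B ⟶ C) (fg : A ⟶ C)
    (h : f ≫ g = fg) (N : ModuleCat.{u} A) (c : C) (n : N) :
    mcHom f g fg h N (etmul fg.hom N c n) = etmul g.hom _ c (etmul f.hom N 1 n) := by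
  subst h
  rw [mcHom, mapComp'_hom_app]
  exact comp_hom_etmul f.hom g.hom N c n

theorem mcInv_etmul {A B C : CommRingCat.{u}} (f : A ⟶ B) (g : B ⟶ C) (fg : A ⟶ C)
    (h : f ≫ g = fg) (N : ModuleCat.{u} A) (c : C) (b : B) (n : N) :
    mcInv f g fg h N (etmul g.hom _ c (etmul f.hom N b n)) = etmul fg.hom N (c * g.hom b) n := by
  subst h
  rw [mcInv, mapComp'_inv_app]
  exact comp_inv_etmul f.hom g.hom N c b n

/-- the canonical descent isomorphism of `S ⊗_R M` -/
noncomputable def canHom (M : ModuleCat.{u} R) {T' : Type u} [CommRing T'] (g₁ g₂ : S →+* T')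
    (h : g₁.comp (algebraMap R S) = g₂.comp (algebraMap R S)) :
    (ModuleCat.extendScalars g₁).obj ((ModuleCat.extendScalars (algebraMap R S)).obj M) ⟶
      (ModuleCat.extendScalars g₂).obj ((ModuleCat.extendScalars (algebraMap R S)).obj M) :=
  ((Desc.ringModPF.{u}.toDescentData (fam R S)).obj M).hom (fRS R S ≫ CommRingCat.ofHom g₁).op
    (i₁ := PUnit.unit) (i₂ := PUnit.unit)
    (CommRingCat.ofHom g₁).op (CommRingCat.ofHom g₂).op rfl
    (by rw [comp_eq_of_ringHom h]; rfl)

theorem canHom_eq (M : ModuleCat.{u} R) {T' : Type u} [CommRing T'] (g₁ g₂ : S →+* T')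
    (h : g₁.comp (algebraMap R S) = g₂.comp (algebraMap R S)) :
    canHom M g₁ g₂ h =
      mcInv (fRS R S) (CommRingCat.ofHom g₁) (fRS R S ≫ CommRingCat.ofHom g₁) rfl M ≫
      mcHom (fRS R S) (CommRingCat.ofHom g₂) (fRS R S ≫ CommRingCat.ofHom g₁)
        (comp_eq_of_ringHom h).symm M := rfl

theorem canHom_etmul (M : ModuleCat.{u} R) {T' : Type u} [CommRing T'] (g₁ g₂ : S →+* T')
    (h : g₁.comp (algebraMap R S) = g₂.comp (algebraMap R S)) (m : M) :
    canHom M g₁ g₂ h (etmul g₁ _ 1 (etmul (algebraMap R S) M 1 m)) =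
      etmul g₂ _ 1 (etmul (algebraMap R S) M 1 m) := by
  have e1 := mcInv_etmul (fRS R S) (CommRingCat.ofHom g₁) (fRS R S ≫ CommRingCat.ofHom g₁)
    rfl M 1 1 m
  have e2 := mcHom_etmul (fRS R S) (CommRingCat.ofHom g₂) (fRS R S ≫ CommRingCat.ofHom g₁)
    (comp_eq_of_ringHom h).symm M 1 m
  simp only [CommRingCat.hom_ofHom, map_one, mul_one] at e1 e2
  rw [canHom_eq]
  refine (ConcreteCategory.comp_apply _ _ _).trans ?_
  rw [e1]
  exact e2

theorem etmul_one_smul {T' : Type u} [CommRing T'] (g : S →+* T') (N : ModuleCat.{u} S)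
    (s : S) (n : N) : etmul g N 1 (s • n) = g s • etmul g N 1 n := by
  rw [← etmul_smul, mul_one, smul_etmul, mul_one]

theorem comm_lemma (M : ModuleCat.{u} R)
    (e : (ModuleCat.extendScalars (algebraMap R S)).obj M ≅ objN D)
    (he : ∀ m : M, aFun D (e.hom (etmul (algebraMap R S) M 1 m)) =
        etmul (algebraMap R S) (rN R (objN D)) 1
          (toR R (objN D) (e.hom (etmul (algebraMap R S) M 1 m))))
    {T' : Type u} [CommRing T'] (g₁ g₂ : S →+* T')
    (h : g₁.comp (algebraMap R S) = g₂.comp (algebraMap R S)) :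
    (ModuleCat.extendScalars g₁).map e.hom ≫ Phi D g₁ g₂ h =
      canHom M g₁ g₂ h ≫ (ModuleCat.extendScalars g₂).map e.hom := by
  apply ModuleCat.ExtendScalars.hom_ext
  intro x
  change Phi D g₁ g₂ h ((ModuleCat.extendScalars g₁).map e.hom (etmul g₁ _ 1 x)) =
    (ModuleCat.extendScalars g₂).map e.hom (canHom M g₁ g₂ h (etmul g₁ _ 1 x))
  induction x using etmul_induction with
  | h0 => simp [etmul_zero_right]
  | h1 s m =>
    have hx : etmul (algebraMap R S) M s m = s • etmul (algebraMap R S) M 1 m :=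
      etmul_eq_smul_one _ _ _ _
    rw [hx, etmul_one_smul, map_smul, map_smul, map_smul, map_smul, map_etmul, Phi_one, he,
      Lam_etmul, canHom_etmul, map_etmul, map_one, ofR_toR]
  | h2 x y hx hy =>
    rw [etmul_add_right, map_add, map_add, map_add, map_add, hx, hy]

theorem main_aux (hf : (algebraMap R S).FaithfullyFlat) :
    ∃ M : ModuleCat.{u} R,
      Nonempty ((Desc.ringModPF.{u}.toDescentData (fam R S)).obj M ≅ D) := by
  obtain ⟨M, e, he⟩ := exists_module D hf
  refine ⟨M, ⟨Pseudofunctor.DescentData.isoMk (fun _ => e) ?_⟩⟩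
  intro Y q i₁ i₂ f₁ f₂ hf₁ hf₂
  subst hf₁
  induction Y using Opposite.rec with
  | op T' =>
    have h : f₁.unop.hom.comp (algebraMap R S) = f₂.unop.hom.comp (algebraMap R S) := by
      have := congrArg (fun k => k.unop.hom) hf₂
      exact this.symm
    exact (comm_lemma D M e he f₁.unop.hom f₂.unop.hom h)

end DD

theorem main (R S : Type u) [CommRing R] [CommRing S] [Algebra R S]
    [Module.FaithfullyFlat R S]
    (D : Desc.ringModPF.{u}.DescentData
      (fun _ : PUnit.{u + 1} => (CommRingCat.ofHom (algebraMap R S)).op)) :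
    ∃ M : ModuleCat.{u} R, Nonempty ((Desc.ringModPF.{u}.toDescentData
      (fun _ : PUnit.{u + 1} => (CommRingCat.ofHom (algebraMap R S)).op)).obj M ≅ D) :=
  main_aux D ((RingHom.faithfullyFlat_algebraMap_iff).mpr inferInstance)

end Groth.Agent.Lib27.ModDesc
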