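import Groth.Agent.Lib27.Pure

/-!
# Descent of modules along universally injective ring maps: the algebraic core

For a universally injective ring map `R → S`, an `S`-module `N` with a coaction
`a : N → S ⊗_R N` (counital, coassociative, `S`-linear), the module
`M = {n | a n = 1 ⊗ n}` satisfies `S ⊗_R M ≅ N`.
-/

namespace Groth.Agent.Lib27.PureDesc

open TensorProduct

universe u

variable {R S : Type u} [CommRing R] [CommRing S] [Algebra R S]

section Basic

variable (R S) in
/-- `η_X : X → S ⊗ X` -/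
noncomputable def eta (X : Type u) [AddCommGroup X] [Module R X] : X →ₗ[R] S ⊗[R] X :=
  TensorProduct.mk R S X 1

@[simp] theorem eta_apply (X : Type u) [AddCommGroup X] [Module R X] (x : X) :
    eta R S X x = (1 : S) ⊗ₜ[R] x := rfl

variable (R S) in
/-- the action map `S ⊗ N → N` -/
noncomputable def mu (N : Type u) [AddCommGroup N] [Module S N] [Module R N]
    [IsScalarTower R S N] : S ⊗[R] N →ₗ[R] N :=
  TensorProduct.lift (Algebra.lsmul R R N).toLinearMap

@[simp] theorem mu_tmul (N : Type u) [AddCommGroup N] [Module S N] [Module R N]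
    [IsScalarTower R S N] (s : S) (n : N) : mu R S N (s ⊗ₜ[R] n) = s • n := by
  simp [mu]

/-- Amitsur exactness in degree zero for universally injective maps -/
theorem amitsur (h : Pi1.UnivInjective R S) (M : Type u) [AddCommGroup M] [Module R M]
    (y : S ⊗[R] M) (hy : (1 : S) ⊗ₜ[R] y = (eta R S M).lTensor S y) :
    ∃ m : M, y = (1 : S) ⊗ₜ[R] m := by
  let K := (S ⊗[R] M) ⧸ LinearMap.range (eta R S M)
  let q : S ⊗[R] M →ₗ[R] K := (LinearMap.range (eta R S M)).mkQ
  have h1 : q.lTensor S ((eta R S M).lTensor S y) = 0 := by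
    rw [← LinearMap.comp_apply, ← LinearMap.lTensor_comp]
    have : q ∘ₗ eta R S M = 0 := LinearMap.range_mkQ_comp _
    rw [this, LinearMap.lTensor_zero]; rfl
  rw [← hy, LinearMap.lTensor_tmul] at h1
  have h2 : q y = 0 := Pure.one_tmul_injective h K (h1.trans (tmul_zero _ _).symm)
  have h3 : y ∈ LinearMap.range (eta R S M) := (Submodule.Quotient.mk_eq_zero _).mp h2
  obtain ⟨m, hm⟩ := h3
  exact ⟨m, hm.symm⟩

/-- characters vanishing on the kernel of `d` factor through `d` -/
theorem exists_dual_eq {X Y : Type u} [AddCommGroup X] [Module R X] [AddCommGroup Y] [Module R Y]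
    (d : X →ₗ[R] Y) (χ : CharacterModule X) (hχ : ∀ x, d x = 0 → χ x = 0) :
    ∃ ζ : CharacterModule Y, ∀ x, ζ (d x) = χ x := by
  let χ' : CharacterModule (X ⧸ LinearMap.ker d) :=
    QuotientAddGroup.lift (LinearMap.ker d).toAddSubgroup χ (fun x hx => hχ x hx)
  let j : X ⧸ LinearMap.ker d →ₗ[R] Y := (LinearMap.ker d).liftQ d le_rfl
  have hj : Function.Injective j := by
    rw [← LinearMap.ker_eq_bot]; exact Submodule.ker_liftQ_eq_bot _ _ _ le_rfl
  obtain ⟨ζ, hζ⟩ := CharacterModule.dual_surjective_of_injective j hj χ'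
  refine ⟨ζ, fun x => ?_⟩
  have := congr($hζ (Submodule.Quotient.mk x))
  exact this

end Basic

section Main

variable {N : Type u} [AddCommGroup N] [Module S N] [Module R N] [IsScalarTower R S N]

/-- a coaction of the descent comonad on `N` -/
structure IsCoaction (a : N →ₗ[R] S ⊗[R] N) : Prop where
  smul : ∀ (s : S) (n : N), a (s • n) = s • a n
  counit : ∀ n : N, mu R S N (a n) = n
  coassoc : ∀ n : N, a.lTensor S (a n) = (eta R S N).lTensor S (a n)

variable (a : N →ₗ[R] S ⊗[R] N)

/-- `d = η - a` -/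
noncomputable def dd : N →ₗ[R] S ⊗[R] N := eta R S N - a

theorem dd_apply (n : N) : dd a n = (1 : S) ⊗ₜ[R] n - a n := rfl

/-- the descended module -/
noncomputable def MM : Submodule R N := LinearMap.ker (dd a)

theorem mem_MM (n : N) : n ∈ MM a ↔ a n = (1 : S) ⊗ₜ[R] n := by
  rw [MM, LinearMap.mem_ker, dd_apply, sub_eq_zero, eq_comm]

theorem mu_lTensor_eta (z : S ⊗[R] N) :
    mu R S (S ⊗[R] N) ((eta R S N).lTensor S z) = z := by
  induction z using TensorProduct.induction_on with
  | zero => simp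
  | tmul s n => simp [TensorProduct.smul_tmul']
  | add x y hx hy => rw [map_add, map_add, hx, hy]

variable {a}

theorem mu_lTensor_a (ha : IsCoaction a) (z : S ⊗[R] N) :
    mu R S (S ⊗[R] N) (a.lTensor S z) = a (mu R S N z) := by
  induction z using TensorProduct.induction_on with
  | zero => simp
  | tmul s n => simp [ha.smul]
  | add x y hx hy => rw [map_add, map_add, hx, hy, map_add, map_add]

theorem lTensor_dd (z : S ⊗[R] N) :
    (dd a).lTensor S z = (eta R S N).lTensor S z - a.lTensor S z := by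
  rw [dd, LinearMap.lTensor_sub]; rfl

theorem eq_a_mu (ha : IsCoaction a) (z : S ⊗[R] N) (hz : (dd a).lTensor S z = 0) :
    z = a (mu R S N z) := by
  have h1 := congrArg (mu R S (S ⊗[R] N)) hz
  rw [lTensor_dd, map_sub, mu_lTensor_eta, mu_lTensor_a ha, map_zero, sub_eq_zero] at h1
  exact h1

theorem lTensor_dd_a (ha : IsCoaction a) (n : N) : (dd a).lTensor S (a n) = 0 := by
  rw [lTensor_dd, ha.coassoc, sub_self]

variable (τ : CharacterModule R →ₗ[R] CharacterModule S)
  (hτ : ∀ (χ : CharacterModule R) (r : R), τ χ (algebraMap R S r) = χ r)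

include hτ in
theorem decomp (χ : CharacterModule N) (n : N) :
    χ n = Pure.sigma τ N χ (dd a n) + Pure.sigma τ N χ (a n) := by
  rw [← map_add, dd_apply, sub_add_cancel, Pure.sigma_one_tmul τ hτ]

theorem sigma_a_eq_zero (ha : IsCoaction a) (χ : CharacterModule N)
    (hχ : ∀ m ∈ MM a, χ m = 0) (n : N) : Pure.sigma τ N χ (a n) = 0 := by
  obtain ⟨ζ, hζ⟩ := exists_dual_eq (dd a) χ (fun x hx => hχ x hx)
  have h1 : χ = CharacterModule.dual (dd a) ζ := by
    ext x; exact (hζ x).symm
  rw [h1, Pure.sigma_natural, lTensor_dd_a ha, map_zero]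

include hτ in
theorem mem_range_lTensor (ha : IsCoaction a) (z : S ⊗[R] N)
    (hz : (dd a).lTensor S z = 0) : z ∈ LinearMap.range ((MM a).subtype.lTensor S) := by
  by_contra hzP
  set P := LinearMap.range ((MM a).subtype.lTensor S) with hP
  have hne : P.mkQ z ≠ 0 := by
    rw [Ne, Submodule.mkQ_apply, Submodule.Quotient.mk_eq_zero]; exact hzP
  obtain ⟨c, hc⟩ := CharacterModule.exists_character_apply_ne_zero_of_ne_zero hne
  let χ : CharacterModule (S ⊗[R] N) := CharacterModule.dual P.mkQ c
  have hχP : ∀ p ∈ P, χ p = 0 := by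
    intro p hp
    show c (P.mkQ p) = 0
    rw [Submodule.mkQ_apply, (Submodule.Quotient.mk_eq_zero _).mpr hp, map_zero]
  have hχz : χ z ≠ 0 := hc
  let χt : S →ₗ[R] CharacterModule N := CharacterModule.curry χ
  have hχt : ∀ (s : S) (n : N), χt s n = χ (s ⊗ₜ[R] n) := fun s n => rfl
  have hvan : ∀ (s : S), ∀ m ∈ MM a, χt s m = 0 := by
    intro s m hm
    rw [hχt]
    apply hχP
    exact ⟨s ⊗ₜ[R] ⟨m, hm⟩, by simp⟩
  let ξ : CharacterModule (S ⊗[R] (S ⊗[R] N)) :=
    CharacterModule.uncurry (Pure.sigma τ N ∘ₗ χt)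
  have hξ : ∀ (s : S) (y : S ⊗[R] N), ξ (s ⊗ₜ[R] y) = Pure.sigma τ N (χt s) y := fun s y => rfl
  have key : ∀ w : S ⊗[R] N, ξ ((dd a).lTensor S w) = χ w := by
    intro w
    induction w using TensorProduct.induction_on with
    | zero => simp
    | tmul s n =>
      rw [LinearMap.lTensor_tmul, hξ, ← hχt, decomp τ hτ (a := a) (χt s) n,
        sigma_a_eq_zero τ ha (χt s) (hvan s) n, add_zero]
    | add x y hx hy => rw [map_add, map_add, map_add, hx, hy]
  apply hχz
  rw [← key z, hz, map_zero]

include τ hτ in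
/-- an `R`-linear section of the restriction of characters from `N` to `MM a` -/
theorem exists_sec (ha : IsCoaction a) :
    ∃ sec : CharacterModule (MM a) →ₗ[R] CharacterModule N,
      ∀ (θ : CharacterModule (MM a)) (m : MM a), sec θ (m : N) = θ m := by
  let Ci : CharacterModule N →ₗ[R] CharacterModule (MM a) := CharacterModule.dual (MM a).subtype
  have hsurj : Function.Surjective Ci :=
    CharacterModule.dual_surjective_of_injective _ (MM a).injective_subtype
  let π : CharacterModule N →ₗ[R] CharacterModule N := CharacterModule.dual a ∘ₗ Pure.sigma τ N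
  have hπ : ∀ (χ : CharacterModule N) (n : N), π χ n = Pure.sigma τ N χ (a n) := fun χ n => rfl
  have hK : LinearMap.ker Ci ≤ LinearMap.ker π := by
    intro χ hχ
    rw [LinearMap.mem_ker] at hχ ⊢
    ext n
    rw [hπ]
    apply sigma_a_eq_zero τ ha χ
    intro m hm
    exact congr($hχ ⟨m, hm⟩)
  let sec : CharacterModule (MM a) →ₗ[R] CharacterModule N :=
    (LinearMap.ker Ci).liftQ π hK ∘ₗ (Ci.quotKerEquivOfSurjective hsurj).symm.toLinearMap
  have hsec : ∀ χ : CharacterModule N, sec (Ci χ) = π χ := by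
    intro χ
    have : (Ci.quotKerEquivOfSurjective hsurj).symm (Ci χ) = Submodule.Quotient.mk χ := by
      rw [LinearEquiv.symm_apply_eq]
      rfl
    show (LinearMap.ker Ci).liftQ π hK ((Ci.quotKerEquivOfSurjective hsurj).symm (Ci χ)) = _
    rw [this]
    rfl
  refine ⟨sec, ?_⟩
  intro θ m
  obtain ⟨χ, rfl⟩ := hsurj θ
  rw [hsec, hπ, (mem_MM a m).mp m.2, Pure.sigma_one_tmul τ hτ]
  rfl

include hτ in
theorem lTensor_subtype_injective (ha : IsCoaction a) :
    Function.Injective ((MM a).subtype.lTensor S) := by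
  obtain ⟨sec, hsec⟩ := exists_sec τ hτ ha
  rw [injective_iff_map_eq_zero]
  intro w hw
  apply CharacterModule.eq_zero_of_character_apply
  intro ψ
  let ψt : S →ₗ[R] CharacterModule (MM a) := CharacterModule.curry ψ
  let ψ' : CharacterModule (S ⊗[R] N) := CharacterModule.uncurry (sec ∘ₗ ψt)
  have key : ∀ w : S ⊗[R] (MM a), ψ' ((MM a).subtype.lTensor S w) = ψ w := by
    intro w
    induction w using TensorProduct.induction_on with
    | zero => simp
    | tmul s m =>
      rw [LinearMap.lTensor_tmul]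
      show sec (ψt s) ((MM a).subtype m) = ψ (s ⊗ₜ[R] m)
      rw [Submodule.subtype_apply, hsec]
      rfl
    | add x y hx hy => rw [map_add, map_add, map_add, hx, hy]
  rw [← key w, hw, map_zero]

/-- the counit map `S ⊗ M → N` -/
noncomputable def eps (a : N →ₗ[R] S ⊗[R] N) : S ⊗[R] (MM a) →ₗ[R] N :=
  mu R S N ∘ₗ (MM a).subtype.lTensor S

@[simp] theorem eps_tmul (s : S) (m : MM a) : eps a (s ⊗ₜ[R] m) = s • (m : N) := by
  simp [eps]

theorem a_eps (ha : IsCoaction a) (w : S ⊗[R] (MM a)) :
    a (eps a w) = (MM a).subtype.lTensor S w := by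
  induction w using TensorProduct.induction_on with
  | zero => simp
  | tmul s m =>
    rw [eps_tmul, ha.smul, (mem_MM a m).mp m.2, LinearMap.lTensor_tmul, TensorProduct.smul_tmul',
      smul_eq_mul, mul_one]
    rfl
  | add x y hx hy => rw [map_add, map_add, hx, hy, map_add]

include hτ in
theorem eps_bijective_aux (ha : IsCoaction a) : Function.Bijective (eps a) := by
  constructor
  · rw [injective_iff_map_eq_zero]
    intro w hw
    apply lTensor_subtype_injective τ hτ ha
    rw [← a_eps ha, hw, map_zero, map_zero]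
  · intro n
    obtain ⟨w, hw⟩ := mem_range_lTensor τ hτ ha (a n) (lTensor_dd_a ha n)
    refine ⟨w, ?_⟩
    have h1 := congrArg (mu R S N) hw
    rw [← a_eps ha, ha.counit, ha.counit] at h1
    exact h1

theorem eps_bijective (h : Pi1.UnivInjective R S) (ha : IsCoaction a) :
    Function.Bijective (eps a) := by
  obtain ⟨τ, hτ⟩ := Pure.exists_section h
  exact eps_bijective_aux τ hτ ha

end Main

end Groth.Agent.Lib27.PureDesc
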