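import Mathlib
import Groth.Prelude.Def_Desc
import Groth.Agent.Lib27.Alg.ModDesc
import Groth.Agent.Lib27.Alg.PureDesc
set_option autoImplicit false
set_option maxHeartbeats 4000000
set_option synthInstance.maxHeartbeats 400000
universe u
open CategoryTheory CategoryTheory.Limits Opposite TensorProduct ChangeOfRings

namespace Groth.Agent.Lib27.PureDesc2

open Groth.Agent.Lib27.ModDesc Groth.Agent.Lib27.PureDesc

variable {R S : Type u} [CommRing R] [CommRing S] [Algebra R S]

section Bridge

/-- the bridge to the plain tensor product -/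
noncomputable def toT (X : ModuleCat.{u} R) :
    (ModuleCat.extendScalars (algebraMap R S)).obj X →+ S ⊗[R] X :=
  elift (g := algebraMap R S) (N := X)
    (AddMonoidHom.mk' (fun s => AddMonoidHom.mk' (fun x : X => s ⊗ₜ[R] x)
      (fun x y => TensorProduct.tmul_add ..))
      (fun s s' => by
        ext x
        simp only [AddMonoidHom.mk'_apply, AddMonoidHom.add_apply, TensorProduct.add_tmul]))
    (fun r s x => by
      simp only [AddMonoidHom.mk'_apply]
      rw [← Algebra.smul_def, TensorProduct.smul_tmul])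

@[simp] theorem toT_etmul (X : ModuleCat.{u} R) (s : S) (x : X) :
    toT (S := S) X (etmul (algebraMap R S) X s x) = s ⊗ₜ[R] x := rfl

/-- the inverse bridge -/
noncomputable def ofT (X : ModuleCat.{u} R) :
    S ⊗[R] X →+ (ModuleCat.extendScalars (algebraMap R S)).obj X :=
  TensorProduct.liftAddHom
    (AddMonoidHom.mk' (fun s => AddMonoidHom.mk' (fun x : X => etmul (algebraMap R S) X s x)
      (fun x y => etmul_add_right ..))
      (fun s s' => by
        ext x
        simp only [AddMonoidHom.mk'_apply, AddMonoidHom.add_apply, etmul_add_left]))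
    (fun r s x => by
      simp only [AddMonoidHom.mk'_apply]
      rw [Algebra.smul_def, etmul_smul])

@[simp] theorem ofT_tmul (X : ModuleCat.{u} R) (s : S) (x : X) :
    ofT (S := S) X (s ⊗ₜ[R] x) = etmul (algebraMap R S) X s x := rfl

@[simp] theorem ofT_toT (X : ModuleCat.{u} R)
    (z : (ModuleCat.extendScalars (algebraMap R S)).obj X) : ofT X (toT X z) = z := by
  induction z using etmul_induction with
  | h0 => simp
  | h1 s x => simp
  | h2 x y hx hy => rw [map_add, map_add, hx, hy]

@[simp] theorem toT_ofT (X : ModuleCat.{u} R) (z : S ⊗[R] X) : toT X (ofT X z) = z := by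
  induction z using TensorProduct.induction_on with
  | zero => simp
  | tmul s x => simp
  | add x y hx hy => rw [map_add, map_add, hx, hy]

theorem toT_injective (X : ModuleCat.{u} R) : Function.Injective (toT (S := S) X) :=
  Function.LeftInverse.injective (ofT_toT X)

theorem toT_map {X Y : ModuleCat.{u} R} (h : X ⟶ Y)
    (z : (ModuleCat.extendScalars (algebraMap R S)).obj X) :
    toT Y ((ModuleCat.extendScalars (algebraMap R S)).map h z) = h.hom.lTensor S (toT X z) := by
  induction z using etmul_induction with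
  | h0 => simp
  | h1 s x => rw [map_etmul, toT_etmul, toT_etmul, LinearMap.lTensor_tmul]
  | h2 x y hx hy => rw [map_add, map_add, hx, hy, map_add, map_add]

theorem toT_smul (X : ModuleCat.{u} R) (s : S)
    (z : (ModuleCat.extendScalars (algebraMap R S)).obj X) :
    toT X (s • z) = s • toT X z := by
  induction z using etmul_induction with
  | h0 => simp
  | h1 s' x => rw [smul_etmul, toT_etmul, toT_etmul, TensorProduct.smul_tmul', smul_eq_mul]
  | h2 x y hx hy => rw [smul_add, map_add, hx, hy, map_add, smul_add]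

/-- purity in `etmul` form -/
theorem etmul_one_injective (h : Pi1.UnivInjective R S) (X : ModuleCat.{u} R) (x : X)
    (hx : etmul (algebraMap R S) X 1 x = 0) : x = 0 := by
  have h1 := congrArg (toT X) hx
  rw [toT_etmul, map_zero] at h1
  exact Pure.one_tmul_injective h X (h1.trans (TensorProduct.tmul_zero _ _).symm)

end Bridge

section Faithful

/-- the underlying map of a morphism of canonical descent data -/
noncomputable def homOf {M₁ M₂ : ModuleCat.{u} R}
    (φ : (Desc.ringModPF.{u}.toDescentData (fam R S)).obj M₁ ⟶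
      (Desc.ringModPF.{u}.toDescentData (fam R S)).obj M₂) :
    (ModuleCat.extendScalars (algebraMap R S)).obj M₁ ⟶
      (ModuleCat.extendScalars (algebraMap R S)).obj M₂ :=
  φ.hom PUnit.unit

theorem homOf_map {M₁ M₂ : ModuleCat.{u} R} (v : M₁ ⟶ M₂) :
    homOf ((Desc.ringModPF.{u}.toDescentData (fam R S)).map v) =
      (ModuleCat.extendScalars (algebraMap R S)).map v := rfl

theorem map_injective (h : Pi1.UnivInjective R S) {M₁ M₂ : ModuleCat.{u} R} (v w : M₁ ⟶ M₂)
    (hvw : (Desc.ringModPF.{u}.toDescentData (fam R S)).map v =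
      (Desc.ringModPF.{u}.toDescentData (fam R S)).map w) : v = w := by
  have h1 : (ModuleCat.extendScalars (algebraMap R S)).map v =
      (ModuleCat.extendScalars (algebraMap R S)).map w := by
    rw [← homOf_map, ← homOf_map, hvw]
  ext m
  have h2 := congr($h1 (etmul (algebraMap R S) M₁ 1 m))
  rw [map_etmul, map_etmul] at h2
  have h3 : etmul (algebraMap R S) M₂ 1 (v m - w m) = 0 := by
    rw [sub_eq_add_neg, etmul_add_right, h2, ← etmul_add_right, add_neg_cancel, etmul_zero_right]
  exact sub_eq_zero.mp (etmul_one_injective h M₂ _ h3)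

theorem faithful_of_univInjective (h : Pi1.UnivInjective R S) :
    (Desc.ringModPF.{u}.toDescentData (fam R S)).Faithful :=
  ⟨fun {M₁ M₂} v w hvw => map_injective h (M₁ := M₁) (M₂ := M₂) v w hvw⟩

theorem univInjective_of_faithful
    (hF : (Desc.ringModPF.{u}.toDescentData (fam R S)).Faithful) : Pi1.UnivInjective R S := by
  intro P _ _
  rw [injective_iff_map_eq_zero]
  intro x hx
  obtain ⟨p, rfl⟩ : ∃ p : P, x = p ⊗ₜ[R] (1 : R) :=
    ⟨TensorProduct.rid R P x, by rw [← TensorProduct.rid_symm_apply, LinearEquiv.symm_apply_apply]⟩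
  rw [LinearMap.lTensor_tmul, Algebra.linearMap_apply, map_one] at hx
  have h1 : (1 : S) ⊗ₜ[R] p = 0 := by simpa using congrArg (TensorProduct.comm R P S) hx
  let PP : ModuleCat.{u} R := ModuleCat.of R P
  let up : ModuleCat.of R R ⟶ PP := ModuleCat.ofHom (LinearMap.toSpanSingleton R P p)
  have h0 : etmul (algebraMap R S) PP 1 p = 0 := by
    have := congrArg (ofT PP) h1
    rw [map_zero] at this
    exact this
  have h2 : (ModuleCat.extendScalars (algebraMap R S)).map up = 0 := by
    ext r
    show (ModuleCat.extendScalars (algebraMap R S)).map up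
      (etmul (algebraMap R S) (ModuleCat.of R R) 1 r) = 0
    rw [map_etmul]
    show etmul (algebraMap R S) PP 1 (r • p) = 0
    rw [← etmul_smul, etmul_eq_smul_one, h0, smul_zero]
  have h3 : (Desc.ringModPF.{u}.toDescentData (fam R S)).map up =
      (Desc.ringModPF.{u}.toDescentData (fam R S)).map (0 : ModuleCat.of R R ⟶ PP) := by
    ext i
    refine h2.trans ?_
    exact ((ModuleCat.extendScalars (algebraMap R S)).map_zero _ _).symm
  have h4 : up = 0 := hF.map_injective h3
  have h5 : p = up.hom (1 : R) := by simp [up]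
  rw [h5, h4]
  simp

end Faithful

section Full

/-- `toT` as an `R`-linear map -/
noncomputable def toTR (X : ModuleCat.{u} R) :
    rN R ((ModuleCat.extendScalars (algebraMap R S)).obj X) →ₗ[R] S ⊗[R] X where
  toFun z := toT X (ofR R _ z)
  map_add' x y := by rw [map_add, map_add]
  map_smul' r z := by
    rw [ofR_smul, toT_smul, RingHom.id_apply, algebraMap_smul]

@[simp] theorem toTR_apply (X : ModuleCat.{u} R)
    (z : rN R ((ModuleCat.extendScalars (algebraMap R S)).obj X)) :
    toTR X z = toT X (ofR R _ z) := rfl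

theorem canHom_etmul_gen (M : ModuleCat.{u} R) {T' : Type u} [CommRing T'] (g₁ g₂ : S →+* T')
    (h : g₁.comp (algebraMap R S) = g₂.comp (algebraMap R S)) (t : T') (s : S) (m : M) :
    canHom M g₁ g₂ h (etmul g₁ _ t (etmul (algebraMap R S) M s m)) =
      etmul g₂ _ (t * g₁ s) (etmul (algebraMap R S) M 1 m) := by
  have h1 : etmul g₁ _ t (etmul (algebraMap R S) M s m) =
      (t * g₁ s) • etmul g₁ _ 1 (etmul (algebraMap R S) M 1 m) := by
    rw [etmul_eq_smul_one (algebraMap R S) M s m, ← etmul_smul, smul_etmul, mul_one, mul_comm]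
  rw [h1, map_smul, canHom_etmul, smul_etmul, mul_one]

theorem comm_canHom {M₁ M₂ : ModuleCat.{u} R}
    (φ : (Desc.ringModPF.{u}.toDescentData (fam R S)).obj M₁ ⟶
      (Desc.ringModPF.{u}.toDescentData (fam R S)).obj M₂)
    {T' : Type u} [CommRing T'] (g₁ g₂ : S →+* T')
    (h : g₁.comp (algebraMap R S) = g₂.comp (algebraMap R S)) :
    (ModuleCat.extendScalars g₁).map (homOf φ) ≫ canHom M₂ g₁ g₂ h =
      canHom M₁ g₁ g₂ h ≫ (ModuleCat.extendScalars g₂).map (homOf φ) :=
  φ.comm (fRS R S ≫ CommRingCat.ofHom g₁).op (i₁ := PUnit.unit) (i₂ := PUnit.unit)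
    (CommRingCat.ofHom g₁).op (CommRingCat.ofHom g₂).op rfl
    (by rw [comp_eq_of_ringHom h]; rfl)

theorem psi_canHom (M : ModuleCat.{u} R) (t : S ⊗[R] S) (ht : t = 1)
    (y : (ModuleCat.extendScalars (algebraMap R S)).obj M) :
    psi (R := R) _ (canHom M (i1 R S) (i2 R S) i1_comp_eq (etmul (i1 R S) _ t y)) =
      (ModuleCat.extendScalars (algebraMap R S)).map
        ((ModuleCat.extendRestrictScalarsAdj.{u, u, u} (algebraMap R S)).unit.app M) y := by
  subst ht
  induction y using etmul_induction with
  | h0 => 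
    rw [etmul_zero_right, map_zero, map_zero, map_zero]
  | h1 s m =>
    rw [canHom_etmul_gen, one_mul, psi_etmul, i1_apply, psiAux_tmul, one_smul]
    rfl
  | h2 x y hx hy => rw [etmul_add_right, map_add, map_add, hx, hy, map_add]

theorem psi_etmul_one (N : ModuleCat.{u} S) (t : S ⊗[R] S) (ht : t = 1) (y : N) :
    psi (R := R) N (etmul (i2 R S) N t y) = etmul (algebraMap R S) (rN R N) 1 (toR R N y) := by
  subst ht
  rw [psi_etmul, Algebra.TensorProduct.one_def, psiAux_tmul, one_smul]

theorem comm_canHom_apply {M₁ M₂ : ModuleCat.{u} R}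
    (φ : (Desc.ringModPF.{u}.toDescentData (fam R S)).obj M₁ ⟶
      (Desc.ringModPF.{u}.toDescentData (fam R S)).obj M₂)
    {T' : Type u} [CommRing T'] (g₁ g₂ : S →+* T')
    (h : g₁.comp (algebraMap R S) = g₂.comp (algebraMap R S))
    (x : (ModuleCat.extendScalars g₁).obj ((ModuleCat.extendScalars (algebraMap R S)).obj M₁)) :
    canHom M₂ g₁ g₂ h ((ModuleCat.extendScalars g₁).map (homOf φ) x) =
      (ModuleCat.extendScalars g₂).map (homOf φ) (canHom M₁ g₁ g₂ h x) := by
  have h1 := comm_canHom φ g₁ g₂ h
  exact congr($h1 x)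

theorem equalizer_of_hom_aux {M₁ M₂ : ModuleCat.{u} R}
    (φ : (Desc.ringModPF.{u}.toDescentData (fam R S)).obj M₁ ⟶
      (Desc.ringModPF.{u}.toDescentData (fam R S)).obj M₂)
    {T' : Type u} [CommRing T'] (g₁ g₂ : S →+* T')
    (h : g₁.comp (algebraMap R S) = g₂.comp (algebraMap R S)) (m : M₁) :
    canHom M₂ g₁ g₂ h
      (etmul g₁ ((ModuleCat.extendScalars (algebraMap R S)).obj M₂) 1
        (homOf φ (etmul (algebraMap R S) M₁ 1 m))) =
    etmul g₂ ((ModuleCat.extendScalars (algebraMap R S)).obj M₂) 1
        (homOf φ (etmul (algebraMap R S) M₁ 1 m)) := by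
  have h2 := comm_canHom_apply φ g₁ g₂ h
    (etmul g₁ ((ModuleCat.extendScalars (algebraMap R S)).obj M₁) 1
      (etmul (algebraMap R S) M₁ 1 m))
  rw [canHom_etmul, map_etmul, map_etmul] at h2
  exact h2

theorem equalizer_of_hom {M₁ M₂ : ModuleCat.{u} R}
    (φ : (Desc.ringModPF.{u}.toDescentData (fam R S)).obj M₁ ⟶
      (Desc.ringModPF.{u}.toDescentData (fam R S)).obj M₂) (m : M₁) :
    etmul (algebraMap R S) (rN R _) 1
        (toR R _ (homOf φ (etmul (algebraMap R S) M₁ 1 m))) =
      (ModuleCat.extendScalars (algebraMap R S)).map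
        ((ModuleCat.extendRestrictScalarsAdj.{u, u, u} (algebraMap R S)).unit.app M₂)
        (homOf φ (etmul (algebraMap R S) M₁ 1 m)) := by
  have h2 := equalizer_of_hom_aux φ (i1 R S) (i2 R S) i1_comp_eq m
  have h3 := congrArg (psi (R := R) _) h2
  exact ((psi_etmul_one _ _ (by rfl) _).symm.trans h3.symm).trans (psi_canHom M₂ _ (by rfl) _)

/-- Amitsur exactness, categorical form -/
theorem amitsur_cat (h : Pi1.UnivInjective R S) (M : ModuleCat.{u} R)
    (y : (ModuleCat.extendScalars (algebraMap R S)).obj M)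
    (hy : etmul (algebraMap R S) (rN R _) 1 (toR R _ y) =
      (ModuleCat.extendScalars (algebraMap R S)).map
        ((ModuleCat.extendRestrictScalarsAdj.{u, u, u} (algebraMap R S)).unit.app M) y) :
    ∃ m : M, y = etmul (algebraMap R S) M 1 m := by
  have h1 := congrArg (fun z => (toTR M).lTensor S (toT _ z)) hy
  simp only [toT_etmul, LinearMap.lTensor_tmul, toTR_apply, ofR_toR, toT_map] at h1
  have h2 : toTR M ∘ₗ
      ((ModuleCat.extendRestrictScalarsAdj.{u, u, u} (algebraMap R S)).unit.app M).hom =
      eta R S M := by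
    ext m
    rfl
  rw [← LinearMap.comp_apply, ← LinearMap.lTensor_comp, h2] at h1
  obtain ⟨m, hm⟩ := amitsur h M (toT M y) h1
  refine ⟨m, ?_⟩
  have := congrArg (ofT M) hm
  rw [ofT_toT, ofT_tmul] at this
  exact this

theorem etmul_one_inj (h : Pi1.UnivInjective R S) (X : ModuleCat.{u} R) (x x' : X)
    (hx : etmul (algebraMap R S) X 1 x = etmul (algebraMap R S) X 1 x') : x = x' := by
  have : etmul (algebraMap R S) X 1 (x - x') = 0 := by
    rw [sub_eq_add_neg, etmul_add_right, hx, ← etmul_add_right, add_neg_cancel, etmul_zero_right]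
  exact sub_eq_zero.mp (etmul_one_injective h X _ this)

/-- the descended map on elements -/
noncomputable def preFun (h : Pi1.UnivInjective R S) {M₁ M₂ : ModuleCat.{u} R}
    (φ : (Desc.ringModPF.{u}.toDescentData (fam R S)).obj M₁ ⟶
      (Desc.ringModPF.{u}.toDescentData (fam R S)).obj M₂) (m : M₁) : M₂ :=
  (amitsur_cat h M₂ _ (equalizer_of_hom φ m)).choose

theorem preFun_spec (h : Pi1.UnivInjective R S) {M₁ M₂ : ModuleCat.{u} R}
    (φ : (Desc.ringModPF.{u}.toDescentData (fam R S)).obj M₁ ⟶
      (Desc.ringModPF.{u}.toDescentData (fam R S)).obj M₂) (m : M₁) :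
    homOf φ (etmul (algebraMap R S) M₁ 1 m) = etmul (algebraMap R S) M₂ 1 (preFun h φ m) :=
  (amitsur_cat h M₂ _ (equalizer_of_hom φ m)).choose_spec

/-- the descended linear map -/
noncomputable def preLin (h : Pi1.UnivInjective R S) {M₁ M₂ : ModuleCat.{u} R}
    (φ : (Desc.ringModPF.{u}.toDescentData (fam R S)).obj M₁ ⟶
      (Desc.ringModPF.{u}.toDescentData (fam R S)).obj M₂) : M₁ →ₗ[R] M₂ where
  toFun := preFun h φ
  map_add' m m' := by
    apply etmul_one_inj h
    rw [etmul_add_right, ← preFun_spec, ← preFun_spec, ← preFun_spec, etmul_add_right, map_add]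
  map_smul' r m := by
    apply etmul_one_inj h
    rw [RingHom.id_apply, ← preFun_spec, ← etmul_smul, mul_one, ← etmul_smul, mul_one,
      etmul_eq_smul_one _ _ (algebraMap R S r) m, map_smul, preFun_spec, smul_etmul, mul_one]

theorem map_surjective (h : Pi1.UnivInjective R S) {M₁ M₂ : ModuleCat.{u} R}
    (φ : (Desc.ringModPF.{u}.toDescentData (fam R S)).obj M₁ ⟶
      (Desc.ringModPF.{u}.toDescentData (fam R S)).obj M₂) :
    ∃ v : M₁ ⟶ M₂, (Desc.ringModPF.{u}.toDescentData (fam R S)).map v = φ := by
  refine ⟨ModuleCat.ofHom (preLin h φ), ?_⟩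
  ext i
  cases i
  show (ModuleCat.extendScalars (algebraMap R S)).map
    (ModuleCat.ofHom (preLin h φ)) = homOf φ
  apply ModuleCat.ExtendScalars.hom_ext
  intro m
  show (ModuleCat.extendScalars (algebraMap R S)).map _ (etmul (algebraMap R S) _ 1 m) =
    homOf φ (etmul (algebraMap R S) _ 1 m)
  rw [map_etmul, preFun_spec h]
  rfl

theorem full_of_univInjective (h : Pi1.UnivInjective R S) :
    (Desc.ringModPF.{u}.toDescentData (fam R S)).Full :=
  ⟨fun {M₁ M₂} φ => map_surjective h (M₁ := M₁) (M₂ := M₂) φ⟩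

end Full

section EssSurj

instance isScalarTower_rN (N : ModuleCat.{u} S) : IsScalarTower R S (rN R N) :=
  IsScalarTower.of_algebraMap_smul (fun _ _ => rfl)

theorem ofR_smul' (N : ModuleCat.{u} S) (s : S) (n : rN R N) :
    ofR R N (s • n) = s • ofR R N n := rfl

variable (D : Desc.ringModPF.{u}.DescentData (fam R S))

/-- the coaction in plain tensor form -/
noncomputable def aPlain : rN R (objN D) →ₗ[R] S ⊗[R] (rN R (objN D)) where
  toFun n := toT (rN R (objN D)) (aFun D (ofR R _ n))
  map_add' x y := by rw [map_add, aFun_add, map_add]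
  map_smul' r n := by
    rw [ofR_smul, aFun_smul, toT_smul, RingHom.id_apply, algebraMap_smul]

@[simp] theorem aPlain_apply (n : rN R (objN D)) :
    aPlain D n = toT (rN R (objN D)) (aFun D (ofR R _ n)) := rfl

theorem mu_toT (N : ModuleCat.{u} S)
    (x : (ModuleCat.extendScalars (algebraMap R S)).obj (rN R N)) :
    mu R S (rN R N) (toT (rN R N) x) =
      toR R N ((ModuleCat.extendRestrictScalarsAdj.{u, u, u} (algebraMap R S)).counit.app N x) := by
  induction x using etmul_induction with
  | h0 => simp
  | h1 s m => rw [toT_etmul, mu_tmul, counit_etmul]; rfl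
  | h2 x y hx hy => rw [map_add, map_add, hx, hy, map_add, map_add]

theorem toTR_comp_unit (M : ModuleCat.{u} R) :
    toTR M ∘ₗ ((ModuleCat.extendRestrictScalarsAdj.{u, u, u} (algebraMap R S)).unit.app M).hom =
      eta R S M := by
  ext m
  rfl

theorem toTR_comp_aHom :
    toTR (rN R (objN D)) ∘ₗ ((ModuleCat.restrictScalars (algebraMap R S)).map (aHom D)).hom =
      aPlain D := by
  ext n
  rfl

theorem isCoaction_aPlain : IsCoaction (aPlain D) where
  smul s n := by
    rw [aPlain_apply, aPlain_apply, ofR_smul', aFun_smul, toT_smul]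
  counit n := by
    rw [aPlain_apply, mu_toT, aHom_counit_apply]
    rfl
  coassoc n := by
    have h1 := congrArg (fun z => (toTR (rN R (objN D))).lTensor S (toT _ z))
      (aHom_coassoc_apply D (ofR R _ n))
    simp only [toT_map] at h1
    rw [← LinearMap.comp_apply, ← LinearMap.lTensor_comp, toTR_comp_unit,
      ← LinearMap.comp_apply, ← LinearMap.lTensor_comp, toTR_comp_aHom] at h1
    exact h1.symm

/-- the descended module -/
noncomputable def descM : ModuleCat.{u} R := ModuleCat.of R (MM (aPlain D))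

/-- inclusion of the descended module -/
noncomputable def descIncl : descM D →ₗ[R] rN R (objN D) := (MM (aPlain D)).subtype

theorem descIncl_mem (m : descM D) :
    aFun D (ofR R _ (descIncl D m)) =
      etmul (algebraMap R S) (rN R (objN D)) 1 (descIncl D m) := by
  have h1 : aPlain D (descIncl D m) = (1 : S) ⊗ₜ[R] (descIncl D m) :=
    (mem_MM (aPlain D) _).mp (Subtype.property (p := fun x => x ∈ MM (aPlain D)) m)
  apply toT_injective
  rw [toT_etmul]
  exact h1

/-- the counit map `S ⊗_R M → N`, additive version -/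
noncomputable def e0Add : (ModuleCat.extendScalars (algebraMap R S)).obj (descM D) →+ objN D :=
  elift (g := algebraMap R S) (N := descM D)
    (AddMonoidHom.mk' (fun s => AddMonoidHom.mk' (fun m : descM D => s • ofR R _ (descIncl D m))
      (fun x y => by rw [map_add, map_add, smul_add]))
      (fun s s' => by
        ext x
        simp only [AddMonoidHom.mk'_apply, AddMonoidHom.add_apply, add_smul]))
    (fun r s x => by
      simp only [AddMonoidHom.mk'_apply]
      rw [map_smul, ofR_smul, mul_comm, mul_smul])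

@[simp] theorem e0Add_etmul (s : S) (m : descM D) :
    e0Add D (etmul (algebraMap R S) (descM D) s m) = s • ofR R _ (descIncl D m) := rfl

theorem e0Add_smul (s : S) (z : (ModuleCat.extendScalars (algebraMap R S)).obj (descM D)) :
    e0Add D (s • z) = s • e0Add D z := by
  induction z using etmul_induction with
  | h0 => simp
  | h1 s' m => rw [smul_etmul, e0Add_etmul, e0Add_etmul, mul_smul]
  | h2 x y hx hy => rw [smul_add, map_add, hx, hy, map_add, smul_add]

/-- `eps` for the descended module -/
noncomputable def epsM : S ⊗[R] (descM D) →ₗ[R] rN R (objN D) :=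
  mu R S (rN R (objN D)) ∘ₗ (descIncl D).lTensor S

theorem epsM_bijective (h : Pi1.UnivInjective R S) : Function.Bijective (epsM D) :=
  eps_bijective h (isCoaction_aPlain D)

theorem epsM_tmul (s : S) (m : descM D) : epsM D (s ⊗ₜ[R] m) = s • descIncl D m := by
  simp [epsM]

theorem e0Add_eq (z : (ModuleCat.extendScalars (algebraMap R S)).obj (descM D)) :
    e0Add D z = ofR R _ (epsM D (toT (descM D) z)) := by
  induction z using etmul_induction with
  | h0 => simp
  | h1 s m => rw [e0Add_etmul, toT_etmul, epsM_tmul]; rfl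
  | h2 x y hx hy => rw [map_add, hx, hy, map_add, map_add, map_add]

theorem e0Add_bijective (h : Pi1.UnivInjective R S) : Function.Bijective (e0Add D) := by
  have hb := epsM_bijective D h
  constructor
  · intro x y hxy
    rw [e0Add_eq, e0Add_eq] at hxy
    exact toT_injective _ (hb.1 hxy)
  · intro n
    obtain ⟨w, hw⟩ := hb.2 (toR R _ n)
    refine ⟨ofT _ w, ?_⟩
    rw [e0Add_eq, toT_ofT, hw]
    rfl

/-- the counit map `S ⊗_R M → N` -/
noncomputable def e0Lin : (ModuleCat.extendScalars (algebraMap R S)).obj (descM D) →ₗ[S] objN D where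
  toFun := e0Add D
  map_add' := map_add _
  map_smul' := e0Add_smul D

/-- the counit isomorphism `S ⊗_R M ≅ N` -/
noncomputable def e0Iso (h : Pi1.UnivInjective R S) :
    (ModuleCat.extendScalars (algebraMap R S)).obj (descM D) ≅ objN D :=
  (LinearEquiv.ofBijective (e0Lin D) (e0Add_bijective D h)).toModuleIso

theorem e0Iso_hom_apply (h : Pi1.UnivInjective R S)
    (z : (ModuleCat.extendScalars (algebraMap R S)).obj (descM D)) :
    (e0Iso D h).hom z = e0Add D z := rfl

theorem exists_module_pure (h : Pi1.UnivInjective R S) :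
    ∃ (M : ModuleCat.{u} R) (e : (ModuleCat.extendScalars (algebraMap R S)).obj M ≅ objN D),
      ∀ m : M, aFun D (e.hom (etmul (algebraMap R S) M 1 m)) =
        etmul (algebraMap R S) (rN R (objN D)) 1
          (toR R (objN D) (e.hom (etmul (algebraMap R S) M 1 m))) := by
  refine ⟨descM D, e0Iso D h, ?_⟩
  intro m
  rw [e0Iso_hom_apply, e0Add_etmul, one_smul, descIncl_mem, toR_ofR]

theorem exists_iso_of_univInjective (h : Pi1.UnivInjective R S) :
    ∃ M : ModuleCat.{u} R,
      Nonempty ((Desc.ringModPF.{u}.toDescentData (fam R S)).obj M ≅ D) := by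
  obtain ⟨M, e, he⟩ := exists_module_pure D h
  refine ⟨M, ⟨Pseudofunctor.DescentData.isoMk (fun _ => e) ?_⟩⟩
  intro Y q i₁ i₂ f₁ f₂ hf₁ hf₂
  subst hf₁
  induction Y using Opposite.rec with
  | op T' =>
    have h : f₁.unop.hom.comp (algebraMap R S) = f₂.unop.hom.comp (algebraMap R S) := by
      have := congrArg (fun k => k.unop.hom) hf₂
      exact this.symm
    exact (comm_lemma D M e he f₁.unop.hom f₂.unop.hom h)

theorem essSurj_of_univInjective (h : Pi1.UnivInjective R S) :
    (Desc.ringModPF.{u}.toDescentData (fam R S)).EssSurj :=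
  ⟨fun D => by
    obtain ⟨M, ⟨i⟩⟩ := exists_iso_of_univInjective D h
    exact ⟨M, ⟨i⟩⟩⟩

end EssSurj

theorem isEquivalence_of_univInjective (h : Pi1.UnivInjective R S) :
    (Desc.ringModPF.{u}.toDescentData (fam R S)).IsEquivalence where
  faithful := faithful_of_univInjective h
  full := full_of_univInjective h
  essSurj := essSurj_of_univInjective h

theorem main (R S : Type u) [CommRing R] [CommRing S] [Algebra R S] :
    (Pi1.UnivInjective R S ↔ (Desc.ringModPF.{u}.toDescentData
      (fun _ : PUnit.{u + 1} => (CommRingCat.ofHom (algebraMap R S)).op)).IsEquivalence) ∧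
    (Nonempty (Desc.ringModPF.{u}.toDescentData
      (fun _ : PUnit.{u + 1} => (CommRingCat.ofHom (algebraMap R S)).op)).FullyFaithful →
        Pi1.UnivInjective R S) := by
  refine ⟨⟨isEquivalence_of_univInjective, fun hE => univInjective_of_faithful hE.faithful⟩, ?_⟩
  rintro ⟨hFF⟩
  exact univInjective_of_faithful hFF.faithful

end Groth.Agent.Lib27.PureDesc2
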