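import Mathlib
import Groth.Agent.Lib27.Alg.PureDesc2
set_option autoImplicit false
universe u
open CategoryTheory CategoryTheory.Limits Opposite TensorProduct ChangeOfRings

namespace Groth.Agent.Lib27.ExtBridge

open Groth.Agent.Lib27.ModDesc Groth.Agent.Lib27.PureDesc2

section Alg

variable {R S : Type u} [CommRing R] [CommRing S] [Algebra R S]

/-- the bridge as a linear equivalence -/
noncomputable def toTL (X : ModuleCat.{u} R) :
    (ModuleCat.extendScalars (algebraMap R S)).obj X ≃ₗ[S] S ⊗[R] X where
  toFun := toT X
  map_add' := map_add _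
  map_smul' s z := toT_smul X s z
  invFun := ofT X
  left_inv := ofT_toT X
  right_inv := toT_ofT X

@[simp] theorem toTL_etmul (X : ModuleCat.{u} R) (s : S) (x : X) :
    toTL (S := S) X (etmul (algebraMap R S) X s x) = s ⊗ₜ[R] x := rfl

@[simp] theorem toTL_symm_tmul (X : ModuleCat.{u} R) (s : S) (x : X) :
    (toTL (S := S) X).symm (s ⊗ₜ[R] x) = etmul (algebraMap R S) X s x := rfl

theorem ext_finite_alg (X : ModuleCat.{u} R) [Module.Finite R X] :
    Module.Finite S ((ModuleCat.extendScalars (algebraMap R S)).obj X) :=
  Module.Finite.equiv (toTL (S := S) X).symm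

theorem ext_projective_alg (X : ModuleCat.{u} R) [Module.Projective R X] :
    Module.Projective S ((ModuleCat.extendScalars (algebraMap R S)).obj X) :=
  Module.Projective.of_equiv (toTL (S := S) X).symm

theorem ext_flat_alg (X : ModuleCat.{u} R) [Module.Flat R X] :
    Module.Flat S ((ModuleCat.extendScalars (algebraMap R S)).obj X) :=
  Module.Flat.of_linearEquiv (toTL (S := S) X)

end Alg

section Hom

variable {R S : Type u} [CommRing R] [CommRing S] (g : R →+* S)

theorem ext_finite (X : ModuleCat.{u} R) [Module.Finite R X] :
    Module.Finite S ((ModuleCat.extendScalars g).obj X) := by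
  letI := g.toAlgebra
  exact ext_finite_alg (S := S) X

theorem ext_projective (X : ModuleCat.{u} R) [Module.Projective R X] :
    Module.Projective S ((ModuleCat.extendScalars g).obj X) := by
  letI := g.toAlgebra
  exact ext_projective_alg (S := S) X

theorem ext_flat (X : ModuleCat.{u} R) [Module.Flat R X] :
    Module.Flat S ((ModuleCat.extendScalars g).obj X) := by
  letI := g.toAlgebra
  exact ext_flat_alg (S := S) X

end Hom

section Iso

variable {A : Type u} [CommRing A] {M N : ModuleCat.{u} A} (e : M ≅ N)
include e

theorem finite_of_iso [Module.Finite A M] : Module.Finite A N :=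
  Module.Finite.equiv e.toLinearEquiv

theorem projective_of_iso [Module.Projective A M] : Module.Projective A N :=
  Module.Projective.of_equiv e.toLinearEquiv

end Iso

end Groth.Agent.Lib27.ExtBridge
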