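import Mathlib

/-!
# A split filtration is determined by the filtration it induces on a tensor power (helper27)
-/

open scoped TensorProduct
universe u v w

namespace Groth.Agent.Lib27.FiltTensor

section proj

variable {Γ : Type w} [LinearOrder Γ] {R : Type u} [CommRing R] {M : Type v} [AddCommGroup M]
  [Module R M] (H : Γ → Submodule R M) (hH : DirectSum.IsInternal H)

include hH in
lemma isCompl (η : Γ) : IsCompl (H η) (⨆ ζ, ⨆ (_ : ζ ≠ η), H ζ) :=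
  ⟨hH.submodule_iSupIndep η,
    codisjoint_iff.2 (by rw [← iSup_split_single H η, hH.submodule_iSup_eq_top])⟩

/-- Projection onto the `η`-th piece of an internal direct sum. -/
noncomputable def proj (η : Γ) : M →ₗ[R] M :=
  (H η).subtype ∘ₗ (H η).projectionOnto _ (isCompl H hH η)

lemma proj_mem (η : Γ) (x : M) : proj H hH η x ∈ H η :=
  ((H η).projectionOnto _ (isCompl H hH η) x).2

lemma proj_self (η : Γ) {x : M} (hx : x ∈ H η) : proj H hH η x = x := by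
  simp [proj, Submodule.projectionOnto_apply_of_mem_left (isCompl H hH η) hx]

lemma proj_of_mem_compl (η : Γ) {x : M} (hx : x ∈ ⨆ ζ, ⨆ (_ : ζ ≠ η), H ζ) :
    proj H hH η x = 0 := by
  simp [proj, Submodule.projectionOnto_apply_of_mem_right (isCompl H hH η) hx]

lemma proj_of_mem_ne {η ζ : Γ} (h : ζ ≠ η) {x : M} (hx : x ∈ H ζ) : proj H hH η x = 0 :=
  proj_of_mem_compl H hH η ((le_iSup₂ (f := fun ζ (_ : ζ ≠ η) => H ζ) ζ h) hx)

include hH in
lemma exists_finset_support [Module.Finite R M] : ∃ S : Finset Γ, ∀ ζ ∉ S, H ζ = ⊥ := by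
  have hc : IsCompactElement (⊤ : Submodule R M) :=
    (Submodule.fg_iff_compact _).1 Module.Finite.fg_top
  obtain ⟨S, hS⟩ := CompleteLattice.IsCompactElement.exists_finset_of_le_iSup _ hc H
    (by rw [hH.submodule_iSup_eq_top])
  refine ⟨S, fun ζ hζ => ?_⟩
  have h1 : H ζ ≤ ⨆ η, ⨆ (_ : η ≠ ζ), H η := by
    refine le_trans le_top (hS.trans ?_)
    refine iSup₂_le fun η hη => ?_
    exact le_iSup₂ (f := fun η (_ : η ≠ ζ) => H η) η (fun h => hζ (h ▸ hη))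
  exact (hH.submodule_iSupIndep ζ).eq_bot_of_le h1

lemma sum_proj (S : Finset Γ) (hS : ∀ ζ ∉ S, H ζ = ⊥) (x : M) :
    ∑ η ∈ S, proj H hH η x = x := by
  have hx : x ∈ ⨆ ζ, H ζ := by rw [hH.submodule_iSup_eq_top]; trivial
  refine Submodule.iSup_induction H (motive := fun x => ∑ η ∈ S, proj H hH η x = x) hx ?_
    (by simp) ?_
  · intro ζ y hy
    by_cases hζ : ζ ∈ S
    · rw [Finset.sum_eq_single ζ (fun η _ hne => proj_of_mem_ne H hH hne.symm hy)
        (fun h => absurd hζ h), proj_self H hH ζ hy]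
    · have h0 : y = 0 := by
        have := hS ζ hζ ▸ hy
        simpa using this
      subst h0
      simp
  · intro a b ha hb
    simp only [map_add, Finset.sum_add_distrib, ha, hb]

lemma mem_F_of_proj_eq_zero [Module.Finite R M] (γ : Γ) (x : M)
    (h : ∀ η < γ, proj H hH η x = 0) : x ∈ ⨆ η ∈ Set.Ici γ, H η := by
  obtain ⟨S, hS⟩ := exists_finset_support H hH
  rw [← sum_proj H hH S hS x]
  refine Submodule.sum_mem _ fun η _ => ?_
  by_cases hη : γ ≤ η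
  · exact (le_biSup H (Set.mem_Ici.2 hη)) (proj_mem H hH η x)
  · rw [h η (not_le.1 hη)]; exact zero_mem _

lemma proj_eq_zero_of_mem_F (γ η : Γ) (hη : η < γ) {x : M}
    (hx : x ∈ ⨆ ζ ∈ Set.Ici γ, H ζ) : proj H hH η x = 0 := by
  refine proj_of_mem_compl H hH η ?_
  have hle : (⨆ ζ ∈ Set.Ici γ, H ζ) ≤ ⨆ ζ, ⨆ (_ : ζ ≠ η), H ζ := by
    refine iSup₂_le fun ζ hζ => ?_
    exact le_iSup₂ (f := fun ζ (_ : ζ ≠ η) => H ζ) ζ (ne_of_gt (lt_of_lt_of_le hη hζ))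
  exact hle hx

end proj

section tensor

variable {Γ : Type w} [AddCommGroup Γ] [LinearOrder Γ] [IsOrderedAddMonoid Γ]
  {R : Type u} [CommRing R] {M : Type v} [AddCommGroup M] [Module R M]

/-- The filtration induced on the `k`-th tensor power. -/
def T (F : Γ → Submodule R M) (k : ℕ) (γ : Γ) : Submodule R (⨂[R] _ : Fin k, M) :=
  ⨆ c : {c : Fin k → Γ // ∑ i, c i = γ},
    LinearMap.range (PiTensorProduct.map (R := R) (fun i => (F (c.1 i)).subtype))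

/-- The functional `φ₁ ⊗ ⋯ ⊗ φ_k` on the tensor power. -/
noncomputable def Lam (k : ℕ) (φ : Fin k → (M →ₗ[R] R)) : (⨂[R] _ : Fin k, M) →ₗ[R] R :=
  PiTensorProduct.lift ((MultilinearMap.mkPiAlgebra R (Fin k) R).compLinearMap φ)

lemma Lam_tprod (k : ℕ) (φ : Fin k → (M →ₗ[R] R)) (m : Fin k → M) :
    Lam k φ (PiTensorProduct.tprod R m) = ∏ i, φ i (m i) := by
  simp [Lam, PiTensorProduct.lift.tprod, MultilinearMap.compLinearMap_apply,
    MultilinearMap.mkPiAlgebra_apply]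

variable (F₁ F₂ : Γ → Submodule R M) (H : Γ → Submodule R M) (hH : DirectSum.IsInternal H)
  (hF₂ : ∀ γ, F₂ γ = ⨆ η ∈ Set.Ici γ, H η)

include hF₂ in
lemma Lam_vanish (k : ℕ) (lam : Fin k → (M →ₗ[R] R)) (η : Fin k → Γ) (δ : Γ)
    (hlt : ∑ i, η i < δ) :
    T F₂ k δ ≤ LinearMap.ker (Lam k (fun i => lam i ∘ₗ proj H hH (η i))) := by
  refine iSup_le fun c => ?_
  rw [LinearMap.range_le_ker_iff]
  apply PiTensorProduct.ext
  ext z
  simp only [LinearMap.compMultilinearMap_apply, LinearMap.comp_apply, PiTensorProduct.map_tprod,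
    Lam_tprod, LinearMap.zero_apply, Submodule.subtype_apply]
  obtain ⟨i, hi⟩ : ∃ i, η i < c.1 i := by
    by_contra hcon
    push_neg at hcon
    have := Finset.sum_le_sum (fun i (_ : i ∈ Finset.univ) => hcon i)
    rw [c.2] at this
    exact absurd hlt (not_lt.2 this)
  refine Finset.prod_eq_zero (Finset.mem_univ i) ?_
  rw [proj_eq_zero_of_mem_F H hH (c.1 i) (η i) hi (by rw [← hF₂]; exact (z i).2), map_zero]

include hF₂ in
lemma prod_eq_zero_of_lt (k : ℕ) (hle : ∀ γ, T F₁ k γ ≤ T F₂ k γ)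
    (lam : Fin k → (M →ₗ[R] R)) (η c : Fin k → Γ) (m : Fin k → M)
    (hm : ∀ i, m i ∈ F₁ (c i)) (hlt : ∑ i, η i < ∑ i, c i) :
    ∏ i, lam i (proj H hH (η i) (m i)) = 0 := by
  have hmem : PiTensorProduct.tprod R m ∈ T F₁ k (∑ i, c i) := by
    refine (le_iSup (fun c' : {c' : Fin k → Γ // ∑ i, c' i = ∑ i, c i} =>
      LinearMap.range (PiTensorProduct.map (R := R) (fun i => (F₁ (c'.1 i)).subtype)))
      ⟨c, rfl⟩) ?_
    exact ⟨PiTensorProduct.tprod R (fun i => (⟨m i, hm i⟩ : F₁ (c i))), by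
      rw [PiTensorProduct.map_tprod]; rfl⟩
  have := Lam_vanish F₂ H hH hF₂ k lam η _ hlt (hle _ hmem)
  rw [LinearMap.mem_ker, Lam_tprod] at this
  simpa using this

end tensor

section loc

variable {Γ : Type w} [LinearOrder Γ] {R : Type u} [CommRing R] {M : Type v} [AddCommGroup M]
  [Module R M] [Module.Finite R M] [Module.Projective R M]

/-- A submodule is "locally zero at `p`". -/
def LocZero (p : Ideal R) (N : Submodule R M) : Prop := ∃ s, s ∉ p ∧ ∀ x ∈ N, s • x = 0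

lemma exists_smul_eq_zero_of_trace_le (N : Submodule R M) (π : M →ₗ[R] M)
    (hπN : ∀ x, π x ∈ N) (hπid : ∀ x ∈ N, π x = x) (p : Ideal R) [p.IsPrime]
    (htr : ∀ (φ : M →ₗ[R] R), ∀ x ∈ N, φ x ∈ p) : LocZero p N := by
  obtain ⟨n, f, g, hf, hg, hfg⟩ := Module.Finite.exists_comp_eq_id_of_projective R M
  have hNfg : N.FG := by
    have hN : N = LinearMap.range π := by
      apply le_antisymm
      · intro x hx; exact ⟨x, hπid x hx⟩
      · rintro _ ⟨x, rfl⟩; exact hπN x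
    rw [hN, ← Submodule.map_top]
    exact (Module.Finite.fg_top (R := R) (M := M)).map π
  have hle : N ≤ p • N := by
    intro x hx
    have h1 : x = f (g x) := by
      have := LinearMap.congr_fun hfg x
      simpa using this.symm
    have h2 : x = (π ∘ₗ f) (g x) := by
      rw [LinearMap.comp_apply, ← h1, hπid x hx]
    rw [h2, LinearMap.pi_apply_eq_sum_univ]
    refine Submodule.sum_mem _ fun i _ => ?_
    refine Submodule.smul_mem_smul ?_ (hπN _)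
    exact htr (LinearMap.proj i ∘ₗ g) x hx
  obtain ⟨r, hr1, hr2⟩ :=
    Submodule.exists_sub_one_mem_and_smul_eq_zero_of_fg_of_le_smul p N hNfg hle
  refine ⟨r, fun hr => ?_, hr2⟩
  have h1 : (1 : R) ∈ p := by
    have := p.sub_mem hr hr1
    simpa using this
  exact (Ideal.IsPrime.ne_top ‹_›) ((Ideal.eq_top_iff_one p).2 h1)

variable (H : Γ → Submodule R M) (hH : DirectSum.IsInternal H) (p : Ideal R) [p.IsPrime]

include hH in
lemma exists_functional_of_not_locZero (ζ : Γ) (h : ¬ LocZero p (H ζ)) :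
    ∃ (φ : M →ₗ[R] R) (y : M), y ∈ H ζ ∧ φ y ∉ p := by
  by_contra hcon
  push_neg at hcon
  exact h (exists_smul_eq_zero_of_trace_le (H ζ) (proj H hH ζ) (proj_mem H hH ζ)
    (fun x hx => proj_self H hH ζ hx) p (fun φ x hx => hcon φ x hx))

omit [Module.Projective R M] in
include hH in
/-- One element not in `p` killing simultaneously all locally zero components. -/
lemma exists_kill : ∃ s, s ∉ p ∧ ∀ ζ, LocZero p (H ζ) → ∀ m, proj H hH ζ (s • m) = 0 := by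
  classical
  obtain ⟨S, hS⟩ := exists_finset_support H hH
  let s' : Γ → R := fun ζ => if h : LocZero p (H ζ) then h.choose else 1
  have hs'p : ∀ ζ, s' ζ ∉ p := by
    intro ζ
    by_cases h : LocZero p (H ζ)
    · simp only [s', dif_pos h]; exact h.choose_spec.1
    · simp only [s', dif_neg h]
      exact fun h1 => (Ideal.IsPrime.ne_top ‹_›) ((Ideal.eq_top_iff_one p).2 h1)
  have hs'k : ∀ ζ, LocZero p (H ζ) → ∀ x ∈ H ζ, s' ζ • x = 0 := by
    intro ζ h x hx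
    simp only [s', dif_pos h]
    exact h.choose_spec.2 x hx
  refine ⟨∏ ζ ∈ S, s' ζ, ?_, ?_⟩
  · rw [Ideal.IsPrime.prod_mem_iff]
    rintro ⟨ζ, _, hζ⟩
    exact hs'p ζ hζ
  · intro ζ hZ m
    by_cases hζ : ζ ∈ S
    · rw [map_smul, ← Finset.mul_prod_erase S s' hζ, mul_comm, mul_smul,
        hs'k ζ hZ _ (proj_mem H hH ζ m), smul_zero]
    · have := proj_mem H hH ζ (((∏ ζ ∈ S, s' ζ)) • m)
      rw [hS ζ hζ] at this
      simpa using this

omit [Module.Projective R M] in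
include hH in
lemma exists_smul_mem_F (μ : Γ) (hμ : ∀ ζ < μ, LocZero p (H ζ)) :
    ∃ s, s ∉ p ∧ ∀ m : M, s • m ∈ ⨆ η ∈ Set.Ici μ, H η := by
  obtain ⟨s, hs, hk⟩ := exists_kill H hH p
  exact ⟨s, hs, fun m => mem_F_of_proj_eq_zero H hH μ _ fun η hη => hk η (hμ η hη) m⟩

omit [Module.Projective R M] in
include hH in
lemma locZero_top_of_forall (h : ∀ ζ, LocZero p (H ζ)) : LocZero p (⊤ : Submodule R M) := by
  obtain ⟨s, hs, hk⟩ := exists_kill H hH p
  obtain ⟨S, hS⟩ := exists_finset_support H hH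
  refine ⟨s, hs, fun m _ => ?_⟩
  rw [← sum_proj H hH S hS (s • m)]
  exact Finset.sum_eq_zero fun ζ _ => hk ζ (h ζ) m

omit [Module.Projective R M] in
include hH in
lemma exists_min_not_locZero (η : Γ) (hη : ¬ LocZero p (H η)) :
    ∃ μ, ¬ LocZero p (H μ) ∧ ∀ ζ, ¬ LocZero p (H ζ) → μ ≤ ζ := by
  classical
  obtain ⟨S, hS⟩ := exists_finset_support H hH
  have hsub : ∀ ζ, ¬ LocZero p (H ζ) → ζ ∈ S := by
    intro ζ hζ
    by_contra hn
    refine hζ ⟨1, fun h1 => (Ideal.IsPrime.ne_top ‹_›) ((Ideal.eq_top_iff_one p).2 h1), ?_⟩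
    intro x hx
    rw [hS ζ hn] at hx
    simp [(Submodule.mem_bot R).1 hx]
  obtain ⟨μ, hμ, hmin⟩ := Finset.exists_min_image (S.filter fun ζ => ¬ LocZero p (H ζ)) id
    ⟨η, Finset.mem_filter.2 ⟨hsub η hη, hη⟩⟩
  refine ⟨μ, (Finset.mem_filter.1 hμ).2, fun ζ hζ => ?_⟩
  exact hmin ζ (Finset.mem_filter.2 ⟨hsub ζ hζ, hζ⟩)

end loc

section main

variable {Γ : Type w} [AddCommGroup Γ] [LinearOrder Γ] [IsOrderedAddMonoid Γ]
  {R : Type u} [CommRing R] {M : Type v} [AddCommGroup M] [Module R M] [Module.Finite R M]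
  [Module.Projective R M]

omit [Module.Finite R M] [Module.Projective R M] in
/-- Step A: comparison of the minimal slopes at a prime. -/
lemma stepA (F₁ F₂ H : Γ → Submodule R M) (hH : DirectSum.IsInternal H)
    (hF₂ : ∀ γ, F₂ γ = ⨆ η ∈ Set.Ici γ, H η) (k : ℕ) (hk : 1 ≤ k)
    (hle : ∀ γ, T F₁ k γ ≤ T F₂ k γ) (p : Ideal R) [p.IsPrime] (μ₁ μ₂ : Γ)
    (s₁ : R) (hs₁ : s₁ ∉ p) (hs₁F : ∀ m : M, s₁ • m ∈ F₁ μ₁)
    (φ : M →ₗ[R] R) (y : M) (hy : y ∈ H μ₂) (hφ : φ y ∉ p) : μ₁ ≤ μ₂ := by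
  by_contra hlt
  rw [not_le] at hlt
  have h0 := prod_eq_zero_of_lt F₁ F₂ H hH hF₂ k hle (fun _ => φ) (fun _ => μ₂) (fun _ => μ₁)
    (fun _ => s₁ • y) (fun _ => hs₁F y) (by
      simp only [Finset.sum_const, Finset.card_univ, Fintype.card_fin]
      exact nsmul_lt_nsmul_right (by omega) hlt)
  simp only [map_smul, proj_self H hH μ₂ hy, Finset.prod_const, Finset.card_univ,
    Fintype.card_fin, smul_eq_mul] at h0
  have h1 : s₁ * φ y ∈ p := by
    refine Ideal.IsPrime.mem_of_pow_mem ‹_› k ?_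
    rw [h0]; exact zero_mem _
  rcases Ideal.IsPrime.mem_or_mem ‹_› h1 with h | h
  · exact hs₁ h
  · exact hφ h

/-- The local statement: every low component of an element of `F₁ γ` is killed by an element
outside `p`. -/
theorem local_kill (F₁ F₂ G H : Γ → Submodule R M) (hG : DirectSum.IsInternal G)
    (hH : DirectSum.IsInternal H) (hF₁ : ∀ γ, F₁ γ = ⨆ η ∈ Set.Ici γ, G η)
    (hF₂ : ∀ γ, F₂ γ = ⨆ η ∈ Set.Ici γ, H η) (k : ℕ) (hk : 1 ≤ k)
    (hT : ∀ γ, T F₁ k γ = T F₂ k γ) (p : Ideal R) [p.IsPrime] (γ η : Γ) (hη : η < γ)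
    (x : M) (hx : x ∈ F₁ γ) : ∃ t, t ∉ p ∧ t • proj H hH η x = 0 := by
  by_cases hZ : LocZero p (H η)
  · obtain ⟨s, hs, hs0⟩ := hZ
    exact ⟨s, hs, hs0 _ (proj_mem H hH η x)⟩
  obtain ⟨μ₂, hμ₂A, hμ₂min⟩ := exists_min_not_locZero H hH p η hZ
  have hA₁ : ∃ ζ, ¬ LocZero p (G ζ) := by
    by_contra hcon
    push_neg at hcon
    obtain ⟨s, hs, hs0⟩ := locZero_top_of_forall G hG p hcon
    exact hZ ⟨s, hs, fun y _ => hs0 y trivial⟩
  obtain ⟨ζ₁, hζ₁⟩ := hA₁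
  obtain ⟨μ₁, hμ₁A, hμ₁min⟩ := exists_min_not_locZero G hG p ζ₁ hζ₁
  obtain ⟨φ₁, y₁, hy₁, hφ₁⟩ := exists_functional_of_not_locZero G hG p μ₁ hμ₁A
  obtain ⟨φ₂, y₂, hy₂, hφ₂⟩ := exists_functional_of_not_locZero H hH p μ₂ hμ₂A
  obtain ⟨s₁, hs₁, hs₁F⟩ := exists_smul_mem_F G hG p μ₁
    (fun ζ hζ => by_contra fun h => not_le.2 hζ (hμ₁min ζ h))
  obtain ⟨s₂, hs₂, hs₂F⟩ := exists_smul_mem_F H hH p μ₂
    (fun ζ hζ => by_contra fun h => not_le.2 hζ (hμ₂min ζ h))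
  have hs₁F' : ∀ m : M, s₁ • m ∈ F₁ μ₁ := fun m => by rw [hF₁]; exact hs₁F m
  have hs₂F' : ∀ m : M, s₂ • m ∈ F₂ μ₂ := fun m => by rw [hF₂]; exact hs₂F m
  have h12 : μ₁ ≤ μ₂ := stepA F₁ F₂ H hH hF₂ k hk (fun γ => (hT γ).le) p μ₁ μ₂ s₁ hs₁ hs₁F'
    φ₂ y₂ hy₂ hφ₂
  have h21 : μ₂ ≤ μ₁ := stepA F₂ F₁ G hG hF₁ k hk (fun γ => (hT γ).ge) p μ₂ μ₁ s₂ hs₂ hs₂F'
    φ₁ y₁ hy₁ hφ₁
  have hμ : μ₁ = μ₂ := le_antisymm h12 h21
  subst hμ
  obtain ⟨n, rfl⟩ : ∃ n, k = n + 1 := ⟨k - 1, by omega⟩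
  refine ⟨(s₁ * φ₂ y₂) ^ n, fun h => ?_, ?_⟩
  · rcases Ideal.IsPrime.mem_or_mem ‹_› (Ideal.IsPrime.mem_of_pow_mem ‹_› n h) with h | h
    · exact hs₁ h
    · exact hφ₂ h
  · rw [← Module.forall_dual_apply_eq_zero_iff R]
    intro ψ
    have h0 := prod_eq_zero_of_lt F₁ F₂ H hH hF₂ (n + 1) (fun γ => (hT γ).le)
      (Fin.cons (α := fun _ => M →ₗ[R] R) ψ (fun _ => φ₂))
      (Fin.cons (α := fun _ => Γ) η (fun _ => μ₁))
      (Fin.cons (α := fun _ => Γ) γ (fun _ => μ₁))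
      (Fin.cons (α := fun _ => M) x (fun _ => s₁ • y₂))
      (by
        intro i
        refine Fin.cases ?_ (fun j => ?_) i
        · simpa using hx
        · simpa using hs₁F' y₂)
      (by
        simp only [Fin.sum_univ_succ, Fin.cons_zero, Fin.cons_succ]
        exact add_lt_add_left hη _)
    simp only [Fin.prod_univ_succ, Fin.cons_zero, Fin.cons_succ, map_smul,
      proj_self H hH μ₁ hy₂, Finset.prod_const, Finset.card_univ, Fintype.card_fin,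
      smul_eq_mul] at h0
    rw [map_smul, smul_eq_mul, mul_comm]
    exact h0

theorem le_of_T_eq (F₁ F₂ G H : Γ → Submodule R M) (hG : DirectSum.IsInternal G)
    (hH : DirectSum.IsInternal H) (hF₁ : ∀ γ, F₁ γ = ⨆ η ∈ Set.Ici γ, G η)
    (hF₂ : ∀ γ, F₂ γ = ⨆ η ∈ Set.Ici γ, H η) (k : ℕ) (hk : 1 ≤ k)
    (hT : ∀ γ, T F₁ k γ = T F₂ k γ) (γ : Γ) : F₁ γ ≤ F₂ γ := by
  intro x hx
  rw [hF₂ γ]
  apply mem_F_of_proj_eq_zero H hH γ x
  intro η hη
  by_contra hz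
  have hne : Ideal.torsionOf R M (proj H hH η x) ≠ ⊤ := by
    intro h
    have h1 : (1 : R) ∈ Ideal.torsionOf R M (proj H hH η x) := by rw [h]; trivial
    rw [Ideal.mem_torsionOf_iff, one_smul] at h1
    exact hz h1
  obtain ⟨𝔪, h𝔪, hle⟩ := Ideal.exists_le_maximal _ hne
  haveI := h𝔪.isPrime
  obtain ⟨t, ht, ht0⟩ := local_kill F₁ F₂ G H hG hH hF₁ hF₂ k hk hT 𝔪 γ η hη x hx
  exact ht (hle ((Ideal.mem_torsionOf_iff _ _).2 ht0))

theorem main (F₁ F₂ : Γ → Submodule R M)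
    (h₁ : ∃ G : Γ → Submodule R M, DirectSum.IsInternal G ∧ ∀ γ, F₁ γ = ⨆ η ∈ Set.Ici γ, G η)
    (h₂ : ∃ G : Γ → Submodule R M, DirectSum.IsInternal G ∧ ∀ γ, F₂ γ = ⨆ η ∈ Set.Ici γ, G η)
    (k : ℕ) (hk : 1 ≤ k)
    (h : ∀ γ : Γ,
      (⨆ c : {c : Fin k → Γ // ∑ i, c i = γ},
        LinearMap.range (PiTensorProduct.map (R := R) (fun i => (F₁ (c.1 i)).subtype))) =
      (⨆ c : {c : Fin k → Γ // ∑ i, c i = γ},
        LinearMap.range (PiTensorProduct.map (R := R) (fun i => (F₂ (c.1 i)).subtype)))) :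
    F₁ = F₂ := by
  obtain ⟨G, hG, hF₁⟩ := h₁
  obtain ⟨H, hH, hF₂⟩ := h₂
  funext γ
  exact le_antisymm (le_of_T_eq F₁ F₂ G H hG hH hF₁ hF₂ k hk h γ)
    (le_of_T_eq F₂ F₁ H G hH hG hF₂ hF₁ k hk (fun γ => (h γ).symm) γ)

end main

end Groth.Agent.Lib27.FiltTensor
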