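import Groth.Agent.Lib27.Alg.FunLift2
set_option autoImplicit false
set_option maxHeartbeats 4000000
set_option synthInstance.maxHeartbeats 400000
universe u
open CategoryTheory CategoryTheory.Limits Opposite TensorProduct ChangeOfRings

namespace Groth.Agent.Lib27.FunDesc

open Groth.Agent.Lib27.ModDesc

variable (W : CommRingCat.{u} ⥤ CommRingCat.{u})

theorem W_comp_apply {Xu Y Y' : CommRingCat.{u}ᵒᵖ} (a : Y ⟶ Xu) (g : Y' ⟶ Y) (ga : Y' ⟶ Xu)
    (h : g ≫ a = ga) (s : W.obj Xu.unop) :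
    (W.map g.unop).hom ((W.map a.unop).hom s) = (W.map ga.unop).hom s := by
  subst h
  have : W.map (g ≫ a).unop = W.map a.unop ≫ W.map g.unop := by
    rw [← W.map_comp]
    rfl
  rw [this]
  rfl

section Can

variable {S : CommRingCat.{u}ᵒᵖ} {X : PUnit.{u + 1} → CommRingCat.{u}ᵒᵖ} {f : ∀ i, X i ⟶ S}
  (C : Cov f) (N : ModuleCat.{u} (W.obj S.unop))

/-- the first Amitsur differential of `W` with coefficients in `N` -/
noncomputable def am0 : (ModuleCat.extendScalars (wf W f)).obj N →+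
    (ModuleCat.extendScalars (W.map C.q₀.unop).hom).obj N :=
  bc W N (f PUnit.unit) C.i₁ C.q₀ C.hi₁ - bc W N (f PUnit.unit) C.i₂ C.q₀ C.hi₂

/-- the second Amitsur differential of `W` with coefficients in `N` -/
noncomputable def am1 : (ModuleCat.extendScalars (W.map C.q₀.unop).hom).obj N →+
    (ModuleCat.extendScalars (W.map C.r₀.unop).hom).obj N :=
  bc W N C.q₀ C.p₁₂ C.r₀ C.hq12 - bc W N C.q₀ C.p₁₃ C.r₀ C.hq13 + bc W N C.q₀ C.p₂₃ C.r₀ C.hq23

/-- exactness of the Amitsur complex of `W` with coefficients in `N`, in degree one -/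
def AmExact : Prop :=
  ∀ z : (ModuleCat.extendScalars (W.map C.q₀.unop).hom).obj N, am1 W C N z = 0 →
    ∃ x : (ModuleCat.extendScalars (wf W f)).obj N, am0 W C N x = z

/-- the first twisted differential of the canonical datum -/
noncomputable def deltaC : (ModuleCat.extendScalars (wf W f)).obj N →+
    (ModuleCat.extendScalars (W.map C.i₂.unop).hom).obj ((ModuleCat.extendScalars (wf W f)).obj N) :=
  (cH W (f := f) N C.q₀ C.i₁ C.i₂ C.hi₁ C.hi₂).hom.toAddMonoidHom.comp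
      (etmulAdd (W.map C.i₁.unop).hom _ 1) - etmulAdd (W.map C.i₂.unop).hom _ 1

/-- the second twisted differential of the canonical datum -/
noncomputable def bdryC :
    (ModuleCat.extendScalars (W.map C.i₂.unop).hom).obj ((ModuleCat.extendScalars (wf W f)).obj N) →+
    (ModuleCat.extendScalars (W.map C.j₃.unop).hom).obj ((ModuleCat.extendScalars (wf W f)).obj N) :=
  (cH W (f := f) N C.r₀ C.j₂ C.j₃ C.hj₂ C.hj₃).hom.toAddMonoidHom.comp
      (bc W _ C.i₂ C.p₁₂ C.j₂ C.h122) - bc W _ C.i₂ C.p₁₃ C.j₃ C.h133 + bc W _ C.i₂ C.p₂₃ C.j₃ C.h233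

theorem theta2_deltaC (x : (ModuleCat.extendScalars (wf W f)).obj N) :
    mI W N (f PUnit.unit) C.i₂ C.q₀ C.hi₂ (deltaC W C N x) = am0 W C N x := by
  induction x using etmul_induction with
  | h0 => rw [map_zero, map_zero, map_zero]
  | h1 s n =>
    show mI W N (f PUnit.unit) C.i₂ C.q₀ C.hi₂
      (cH W (f := f) N C.q₀ C.i₁ C.i₂ C.hi₁ C.hi₂ (etmul (W.map C.i₁.unop).hom _ 1 (etmul (wf W f) N s n)) -
        etmul (W.map C.i₂.unop).hom _ 1 (etmul (wf W f) N s n)) =
      bc W N (f PUnit.unit) C.i₁ C.q₀ C.hi₁ (etmul (wf W f) N s n) -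
        bc W N (f PUnit.unit) C.i₂ C.q₀ C.hi₂ (etmul (wf W f) N s n)
    rw [map_sub, cH_etmul, mI_etmul, mI_etmul, bc_etmul, bc_etmul, map_one, one_mul, mul_one, one_mul]
  | h2 x y hx hy => rw [map_add, map_add, hx, hy, map_add]

theorem theta3_bdryC
    (e : (ModuleCat.extendScalars (W.map C.i₂.unop).hom).obj
      ((ModuleCat.extendScalars (wf W f)).obj N)) :
    mI W N (f PUnit.unit) C.j₃ C.r₀ C.hj₃ (bdryC W C N e) =
      am1 W C N (mI W N (f PUnit.unit) C.i₂ C.q₀ C.hi₂ e) := by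
  induction e using etmul_induction with
  | h0 => rw [map_zero, map_zero, map_zero, map_zero]
  | h1 c x =>
    induction x using etmul_induction with
    | h0 => rw [etmul_zero_right, map_zero, map_zero, map_zero, map_zero]
    | h1 s n =>
      show mI W N (f PUnit.unit) C.j₃ C.r₀ C.hj₃
        (cH W (f := f) N C.r₀ C.j₂ C.j₃ C.hj₂ C.hj₃ (bc W _ C.i₂ C.p₁₂ C.j₂ C.h122
            (etmul (W.map C.i₂.unop).hom _ c (etmul (wf W f) N s n))) -
          bc W _ C.i₂ C.p₁₃ C.j₃ C.h133 (etmul (W.map C.i₂.unop).hom _ c (etmul (wf W f) N s n)) +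
          bc W _ C.i₂ C.p₂₃ C.j₃ C.h233 (etmul (W.map C.i₂.unop).hom _ c (etmul (wf W f) N s n))) =
        bc W N C.q₀ C.p₁₂ C.r₀ C.hq12 (mI W N (f PUnit.unit) C.i₂ C.q₀ C.hi₂
            (etmul (W.map C.i₂.unop).hom _ c (etmul (wf W f) N s n))) -
          bc W N C.q₀ C.p₁₃ C.r₀ C.hq13 (mI W N (f PUnit.unit) C.i₂ C.q₀ C.hi₂
            (etmul (W.map C.i₂.unop).hom _ c (etmul (wf W f) N s n))) +
          bc W N C.q₀ C.p₂₃ C.r₀ C.hq23 (mI W N (f PUnit.unit) C.i₂ C.q₀ C.hi₂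
            (etmul (W.map C.i₂.unop).hom _ c (etmul (wf W f) N s n)))
      rw [bc_etmul, bc_etmul, bc_etmul, cH_etmul, map_add, map_sub, mI_etmul, mI_etmul, mI_etmul,
        mI_etmul, bc_etmul, bc_etmul, bc_etmul, map_mul, map_mul, map_mul, map_one, mul_one,
        W_comp_apply W C.i₂ C.p₁₂ C.j₂ C.h122, W_comp_apply W C.i₂ C.p₁₃ C.j₃ C.h133,
        W_comp_apply W C.i₂ C.p₂₃ C.j₃ C.h233]
    | h2 x y hx hy => rw [etmul_add_right, map_add, map_add, hx, hy, map_add, map_add]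
  | h2 x y hx hy => rw [map_add, map_add, hx, hy, map_add, map_add]

end Can

end Groth.Agent.Lib27.FunDesc
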