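import Groth.Agent.Lib27.Alg.FunLift2
set_option autoImplicit false
set_option maxHeartbeats 4000000
set_option synthInstance.maxHeartbeats 400000
universe u
open CategoryTheory CategoryTheory.Limits Opposite TensorProduct ChangeOfRings

namespace Groth.Agent.Lib27.FunDesc

open Groth.Agent.Lib27.ModDesc

theorem bc_map (W : CommRingCat.{u} ⥤ CommRingCat.{u}) {Xu : CommRingCat.{u}ᵒᵖ}
    {N N' : ModuleCat.{u} (W.obj Xu.unop)} (φ : N ⟶ N')
    {Y Y' : CommRingCat.{u}ᵒᵖ} (a : Y ⟶ Xu) (g : Y' ⟶ Y) (ga : Y' ⟶ Xu)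
    (h : g ≫ a = ga) (y : (ModuleCat.extendScalars (W.map a.unop).hom).obj N) :
    (ModuleCat.extendScalars (W.map ga.unop).hom).map φ (bc W N a g ga h y) =
      bc W N' a g ga h ((ModuleCat.extendScalars (W.map a.unop).hom).map φ y) := by
  induction y using etmul_induction with
  | h0 => rw [map_zero, map_zero, map_zero, map_zero]
  | h1 s m => rw [bc_etmul, map_etmul, map_etmul, bc_etmul]
  | h2 x y hx hy => rw [map_add, map_add, hx, hy, map_add, map_add]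

theorem iso_hom_injective {A : Type u} [CommRing A] {N N' : ModuleCat.{u} A} (e : N ≅ N') :
    Function.Injective e.hom := by
  intro x y hxy
  have h1 := congr($(e.hom_inv_id) x)
  have h2 := congr($(e.hom_inv_id) y)
  have h3 : e.inv (e.hom x) = e.inv (e.hom y) := by rw [hxy]
  exact h1.symm.trans (h3.trans h2)

theorem iso_hom_surjective {A : Type u} [CommRing A] {N N' : ModuleCat.{u} A} (e : N ≅ N') :
    Function.Surjective e.hom := fun y => ⟨e.inv y, congr($(e.inv_hom_id) y)⟩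

variable {W Wb : CommRingCat.{u} ⥤ CommRingCat.{u}} (τ : W ⟶ Wb)

/-- a symbol map `J/J' ≅ Wb` -/
structure Symb (J J' : IdFam W) where
  le : ∀ T : CommRingCat.{u}, J'.I T ≤ J.I T
  /-- the symbol -/
  σ : ∀ T : CommRingCat.{u}, ↥(J.I T) →ₗ[W.obj T]
    (ModuleCat.restrictScalars (tauR τ T)).obj (ModuleCat.of (Wb.obj T) (Wb.obj T))
  nat : ∀ {T T' : CommRingCat.{u}} (h : T ⟶ T') (y : J.I T),
    resOf (tauR τ T') _ (σ T' (J.map h y)) = (Wb.map h).hom (resOf (tauR τ T) _ (σ T y))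
  exact : ∀ T : CommRingCat.{u}, Function.Exact (Submodule.inclusion (le T)) (σ T)
  surj : ∀ T : CommRingCat.{u}, Function.Surjective (σ T)

section Sym

variable {S : CommRingCat.{u}ᵒᵖ} {X : PUnit.{u + 1} → CommRingCat.{u}ᵒᵖ} {f : ∀ i, X i ⟶ S}
  {D : (PFof W).DescentData f} {Db : (PFof Wb).DescentData f} (R : PushRel τ D Db)
  {J J' : IdFam W} (Sg : Symb τ J J')

/-- the value of the symbol, in `Wb T` -/
noncomputable def sigV (T : CommRingCat.{u}) (y : J.I T) : Wb.obj T :=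
  resOf (tauR τ T) (ModuleCat.of (Wb.obj T) (Wb.obj T)) (Sg.σ T y)

theorem sigV_map {T T' : CommRingCat.{u}} (h : T ⟶ T') (y : J.I T) :
    sigV τ Sg T' (J.map h y) = (Wb.map h).hom (sigV τ Sg T y) := Sg.nat h y

/-- the symbol on `J ⊗ E`, before the swap -/
noncomputable def SymPre {Y : CommRingCat.{u}ᵒᵖ} (a : Y ⟶ X PUnit.unit) :
    JE J (dObj W D) a →+ (ModuleCat.extendScalars (tauR τ Y.unop)).obj
      ((ModuleCat.extendScalars (W.map a.unop).hom).obj (dObj W D)) :=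
  ((Sg.σ Y.unop).rTensor ((ModuleCat.extendScalars (W.map a.unop).hom).obj (dObj W D))).toAddMonoidHom

theorem SymPre_tmul {Y : CommRingCat.{u}ᵒᵖ} (a : Y ⟶ X PUnit.unit) (y : J.I Y.unop)
    (e : (ModuleCat.extendScalars (W.map a.unop).hom).obj (dObj W D)) :
    SymPre τ (D := D) Sg a (y ⊗ₜ e) = etmul (tauR τ Y.unop) _ (sigV τ Sg Y.unop y) e := rfl

/-- the symbol on `J ⊗ E` -/
noncomputable def Sym {Y : CommRingCat.{u}ᵒᵖ} (a : Y ⟶ X PUnit.unit) :
    JE J (dObj W D) a →+ (ModuleCat.extendScalars (Wb.map a.unop).hom).obj (dObj Wb Db) :=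
  ((ModuleCat.extendScalars (Wb.map a.unop).hom).map R.iota.hom).hom.toAddMonoidHom.comp
    ((swapIso τ (dObj W D) a).inv.hom.toAddMonoidHom.comp (SymPre τ Sg a))

theorem swapIso_inv_etmul {Y : CommRingCat.{u}ᵒᵖ} (a : Y ⟶ X PUnit.unit) (c : Wb.obj Y.unop)
    (e : (ModuleCat.extendScalars (W.map a.unop).hom).obj (dObj W D)) :
    (swapIso τ (dObj W D) a).inv (etmul (tauR τ Y.unop) _ c e) = c • tstar τ (dObj W D) a e := by
  rw [etmul_eq_smul_one, map_smul, swapIso_inv_one]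

theorem Sym_tmul {Y : CommRingCat.{u}ᵒᵖ} (a : Y ⟶ X PUnit.unit) (y : J.I Y.unop)
    (e : (ModuleCat.extendScalars (W.map a.unop).hom).obj (dObj W D)) :
    Sym τ R Sg a (y ⊗ₜ e) = sigV τ Sg Y.unop y •
      (ModuleCat.extendScalars (Wb.map a.unop).hom).map R.iota.hom (tstar τ (dObj W D) a e) := by
  show (ModuleCat.extendScalars (Wb.map a.unop).hom).map R.iota.hom
    ((swapIso τ (dObj W D) a).inv (SymPre τ Sg a (y ⊗ₜ e))) = _
  rw [SymPre_tmul, swapIso_inv_etmul, map_smul]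

theorem Sym_ker {Y : CommRingCat.{u}ᵒᵖ} (a : Y ⟶ X PUnit.unit) (z : JE J (dObj W D) a)
    (hz : Sym τ R Sg a z = 0) :
    ∃ z' : JE J' (dObj W D) a,
      (Submodule.inclusion (Sg.le Y.unop)).rTensor
        ((ModuleCat.extendScalars (W.map a.unop).hom).obj (dObj W D)) z' = z := by
  have h1 : (swapIso τ (dObj W D) a).inv (SymPre τ Sg a z) = 0 := by
    apply iso_hom_injective ((ModuleCat.extendScalars (Wb.map a.unop).hom).mapIso R.iota)
    rw [map_zero]
    exact hz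
  have h2 : SymPre τ Sg a z = 0 := by
    apply iso_hom_injective (swapIso τ (dObj W D) a).symm
    rw [map_zero]
    exact h1
  have hex := rTensor_exact ((ModuleCat.extendScalars (W.map a.unop).hom).obj (dObj W D))
    (Sg.exact Y.unop) (Sg.surj Y.unop)
  obtain ⟨z', hz'⟩ := (hex z).mp h2
  exact ⟨z', hz'⟩

/-- the symbol on `J ⊗ M` -/
noncomputable def SymX :
    ↥(J.I (X PUnit.unit).unop) ⊗[W.obj (X PUnit.unit).unop] (dObj W D) →+ dObj Wb Db :=
  R.iota.hom.hom.toAddMonoidHom.comp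
    ((Sg.σ (X PUnit.unit).unop).rTensor (dObj W D)).toAddMonoidHom

theorem SymX_tmul (y : J.I (X PUnit.unit).unop) (m : dObj W D) :
    SymX τ R Sg (y ⊗ₜ m) = sigV τ Sg _ y •
      R.iota.hom (etmul (tauR τ (X PUnit.unit).unop) (dObj W D) 1 m) := by
  show R.iota.hom (etmul (tauR τ (X PUnit.unit).unop) (dObj W D) (sigV τ Sg _ y) m) = _
  rw [etmul_eq_smul_one, map_smul]

theorem SymX_surjective : Function.Surjective (SymX τ R Sg) := by
  intro n
  obtain ⟨x, hx⟩ := iso_hom_surjective R.iota n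
  obtain ⟨z, hz⟩ := LinearMap.rTensor_surjective (dObj W D) (Sg.surj (X PUnit.unit).unop) x
  refine ⟨z, ?_⟩
  show R.iota.hom ((Sg.σ (X PUnit.unit).unop).rTensor (dObj W D) z) = n
  rw [hz, hx]

theorem Sym_bcJ {Y Y' : CommRingCat.{u}ᵒᵖ} (a : Y ⟶ X PUnit.unit) (g : Y' ⟶ Y)
    (ga : Y' ⟶ X PUnit.unit) (h : g ≫ a = ga) (z : JE J (dObj W D) a) :
    Sym τ R Sg ga (bcJ J (dObj W D) a g ga h z) =
      bc Wb (dObj Wb Db) a g ga h (Sym τ R Sg a z) := by
  induction z using TensorProduct.induction_on with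
  | zero => simp
  | tmul y e =>
    rw [bcJ_tmul, Sym_tmul, Sym_tmul, tstar_bc, bc_map, bc_smul, sigV_map]
  | add x y hx hy => rw [map_add, map_add, hx, hy, map_add, map_add]

theorem Sym_uJ {Y : CommRingCat.{u}ᵒᵖ} (a : Y ⟶ X PUnit.unit)
    (z : ↥(J.I (X PUnit.unit).unop) ⊗[W.obj (X PUnit.unit).unop] (dObj W D)) :
    Sym τ R Sg a (uJ J (dObj W D) a z) =
      etmul (Wb.map a.unop).hom (dObj Wb Db) 1 (SymX τ R Sg z) := by
  induction z using TensorProduct.induction_on with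
  | zero => simp [etmul_zero_right]
  | tmul y m =>
    rw [uJ_tmul, Sym_tmul, SymX_tmul, ← tstar_one_one, map_etmul, sigV_map, etmul_one_smul]
  | add x y hx hy => rw [map_add, map_add, hx, hy, map_add, etmul_add_right]

theorem Sym_lTensor {Y : CommRingCat.{u}ᵒᵖ} (q : Y ⟶ S) (f₁ f₂ : Y ⟶ X PUnit.unit)
    (hf₁ : f₁ ≫ f PUnit.unit = q) (hf₂ : f₂ ≫ f PUnit.unit = q) (z : JE J (dObj W D) f₁) :
    Sym τ R Sg f₂ (LinearMap.lTensor _ (dH W D q f₁ f₂ hf₁ hf₂).hom z) =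
      dH Wb Db q f₁ f₂ hf₁ hf₂ (Sym τ R Sg f₁ z) := by
  induction z using TensorProduct.induction_on with
  | zero => simp
  | tmul y e =>
    rw [LinearMap.lTensor_tmul, Sym_tmul, Sym_tmul, map_smul, R.spec]
  | add x y hx hy => rw [map_add, map_add, hx, hy, map_add, map_add]

variable (C : Cov f)

theorem Sym_deltaJ
    (z : ↥(J.I (X PUnit.unit).unop) ⊗[W.obj (X PUnit.unit).unop] (dObj W D)) :
    Sym τ R Sg C.i₂ (deltaJ W D C J z) = delta Wb Db C (SymX τ R Sg z) := by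
  have h1 : deltaJ W D C J z =
      LinearMap.lTensor _ (dH W D C.q₀ C.i₁ C.i₂ C.hi₁ C.hi₂).hom (uJ J (dObj W D) C.i₁ z) -
        uJ J (dObj W D) C.i₂ z := rfl
  rw [h1, map_sub, Sym_lTensor, Sym_uJ, Sym_uJ, delta_apply]

theorem Sym_bdryJ (z : JE J (dObj W D) C.i₂) :
    Sym τ R Sg C.j₃ (bdryJ W D C J z) = bdry Wb Db C (Sym τ R Sg C.i₂ z) := by
  have h1 : bdryJ W D C J z =
      LinearMap.lTensor _ (dH W D C.r₀ C.j₂ C.j₃ C.hj₂ C.hj₃).hom
        (bcJ J (dObj W D) C.i₂ C.p₁₂ C.j₂ C.h122 z) -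
      bcJ J (dObj W D) C.i₂ C.p₁₃ C.j₃ C.h133 z + bcJ J (dObj W D) C.i₂ C.p₂₃ C.j₃ C.h233 z := rfl
  rw [h1, map_add, map_sub, Sym_lTensor, Sym_bcJ, Sym_bcJ, Sym_bcJ, bdry_apply]

theorem inclJ_inclusion {Y : CommRingCat.{u}ᵒᵖ} (a : Y ⟶ X PUnit.unit)
    (z' : JE J' (dObj W D) a) :
    inclJ J (dObj W D) a ((Submodule.inclusion (Sg.le Y.unop)).rTensor
        ((ModuleCat.extendScalars (W.map a.unop).hom).obj (dObj W D)) z') =
      inclJ J' (dObj W D) a z' := by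
  induction z' using TensorProduct.induction_on with
  | zero => simp
  | tmul y e =>
    rw [LinearMap.rTensor_tmul, inclJ, inclJ, inclI_tmul, inclI_tmul]
    rfl
  | add x y hx hy => rw [map_add, map_add, hx, hy, map_add]

include R Sg in
theorem lift_step (hinj3 : Function.Injective (inclJ J (dObj W D) C.j₃)) (hH1 : H1van Wb Db C)
    (m : dObj W D) (z : JE J (dObj W D) C.i₂)
    (hz : inclJ J (dObj W D) C.i₂ z = delta W D C m) :
    ∃ (ν : ↥(J.I (X PUnit.unit).unop) ⊗[W.obj (X PUnit.unit).unop] (dObj W D))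
      (z' : JE J' (dObj W D) C.i₂),
      inclJ J' (dObj W D) C.i₂ z' =
        delta W D C (m - inclI (J.I (X PUnit.unit).unop) (dObj W D) ν) := by
  have hb : bdryJ W D C J z = 0 := by
    apply hinj3
    rw [inclJ_bdryJ, hz, bdry_delta, map_zero]
  have hc : bdry Wb Db C (Sym τ R Sg C.i₂ z) = 0 := by
    rw [← Sym_bdryJ, hb, map_zero]
  obtain ⟨νb, hνb⟩ := hH1 _ hc
  obtain ⟨ν, hν⟩ := SymX_surjective τ R Sg νb
  have h0 : Sym τ R Sg C.i₂ (z - deltaJ W D C J ν) = 0 := by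
    rw [map_sub, Sym_deltaJ, hν, hνb, sub_self]
  obtain ⟨z', hz'⟩ := Sym_ker τ R Sg C.i₂ _ h0
  refine ⟨ν, z', ?_⟩
  rw [← inclJ_inclusion τ Sg, hz', map_sub, hz, inclJ_deltaJ, map_sub]

end Sym

end Groth.Agent.Lib27.FunDesc
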