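import Groth.Agent.Lib27.Alg.FunCan
import Groth.Agent.Lib27.Alg.FunLift3
set_option autoImplicit false
set_option maxHeartbeats 4000000
set_option synthInstance.maxHeartbeats 400000
universe u
open CategoryTheory CategoryTheory.Limits Opposite TensorProduct ChangeOfRings

namespace Groth.Agent.Lib27.FunDesc

open Groth.Agent.Lib27.ModDesc

variable (W : CommRingCat.{u} ⥤ CommRingCat.{u})

theorem mI_injective {Xu : CommRingCat.{u}ᵒᵖ} (N : ModuleCat.{u} (W.obj Xu.unop))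
    {Y Y' : CommRingCat.{u}ᵒᵖ} (a : Y ⟶ Xu) (g : Y' ⟶ Y) (ga : Y' ⟶ Xu)
    (h : g ≫ a = ga) : Function.Injective (mI W N a g ga h) := by
  intro z z' hzz
  rw [← mH_mI_apply W N a g ga h z, ← mH_mI_apply W N a g ga h z', hzz]

section K

variable {S : CommRingCat.{u}ᵒᵖ} {X : PUnit.{u + 1} → CommRingCat.{u}ᵒᵖ} {f : ∀ i, X i ⟶ S}
  (D' : (PFof W).DescentData f) (C : Cov f) (N : ModuleCat.{u} (W.obj S.unop))
  (κ : (ModuleCat.extendScalars (wf W f)).obj N ≅ dObj W D')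
  (hκ : ∀ {Y : CommRingCat.{u}ᵒᵖ} (q : Y ⟶ S) (f₁ f₂ : Y ⟶ X PUnit.unit)
      (hf₁ : f₁ ≫ f PUnit.unit = q) (hf₂ : f₂ ≫ f PUnit.unit = q),
      (ModuleCat.extendScalars (W.map f₁.unop).hom).map κ.hom ≫ dH W D' q f₁ f₂ hf₁ hf₂ =
      cH W (f := f) N q f₁ f₂ hf₁ hf₂ ≫
        (ModuleCat.extendScalars (W.map f₂.unop).hom).map κ.hom)

include hκ in
theorem kappa_cH {Y : CommRingCat.{u}ᵒᵖ} (q : Y ⟶ S) (f₁ f₂ : Y ⟶ X PUnit.unit)
    (hf₁ : f₁ ≫ f PUnit.unit = q) (hf₂ : f₂ ≫ f PUnit.unit = q)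
    (y : (ModuleCat.extendScalars (W.map f₁.unop).hom).obj
      ((ModuleCat.extendScalars (wf W f)).obj N)) :
    (ModuleCat.extendScalars (W.map f₂.unop).hom).map κ.hom
        (cH W (f := f) N q f₁ f₂ hf₁ hf₂ y) =
      dH W D' q f₁ f₂ hf₁ hf₂ ((ModuleCat.extendScalars (W.map f₁.unop).hom).map κ.hom y) := by
  have := hκ q f₁ f₂ hf₁ hf₂
  exact (congr($this y)).symm

include hκ in
theorem kappa_deltaC (x : (ModuleCat.extendScalars (wf W f)).obj N) :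
    (ModuleCat.extendScalars (W.map C.i₂.unop).hom).map κ.hom (deltaC W C N x) =
      delta W D' C (κ.hom x) := by
  show (ModuleCat.extendScalars (W.map C.i₂.unop).hom).map κ.hom
    (cH W (f := f) N C.q₀ C.i₁ C.i₂ C.hi₁ C.hi₂ (etmul (W.map C.i₁.unop).hom _ 1 x) -
      etmul (W.map C.i₂.unop).hom _ 1 x) = _
  rw [map_sub, kappa_cH W D' N κ hκ, map_etmul, map_etmul, delta_apply]

include hκ in
theorem kappa_bdryC
    (e : (ModuleCat.extendScalars (W.map C.i₂.unop).hom).obj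
      ((ModuleCat.extendScalars (wf W f)).obj N)) :
    (ModuleCat.extendScalars (W.map C.j₃.unop).hom).map κ.hom (bdryC W C N e) =
      bdry W D' C ((ModuleCat.extendScalars (W.map C.i₂.unop).hom).map κ.hom e) := by
  show (ModuleCat.extendScalars (W.map C.j₃.unop).hom).map κ.hom
    (cH W (f := f) N C.r₀ C.j₂ C.j₃ C.hj₂ C.hj₃ (bc W _ C.i₂ C.p₁₂ C.j₂ C.h122 e) -
      bc W _ C.i₂ C.p₁₃ C.j₃ C.h133 e + bc W _ C.i₂ C.p₂₃ C.j₃ C.h233 e) = _
  rw [map_add, map_sub, kappa_cH W D' N κ hκ, bc_map, bc_map, bc_map, bdry_apply]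

include hκ in
theorem H1van_of_can (hAm : AmExact W C N) : H1van W D' C := by
  intro e he
  obtain ⟨e', rfl⟩ := iso_hom_surjective
    ((ModuleCat.extendScalars (W.map C.i₂.unop).hom).mapIso κ) e
  have h1 : bdryC W C N e' = 0 := by
    apply iso_hom_injective ((ModuleCat.extendScalars (W.map C.j₃.unop).hom).mapIso κ)
    rw [map_zero]
    exact (kappa_bdryC W D' C N κ hκ e').trans he
  have h2 : am1 W C N (mI W N (f PUnit.unit) C.i₂ C.q₀ C.hi₂ e') = 0 := by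
    rw [← theta3_bdryC, h1, map_zero]
  obtain ⟨x, hx⟩ := hAm _ h2
  have h3 : deltaC W C N x = e' := by
    apply mI_injective W N (f PUnit.unit) C.i₂ C.q₀ C.hi₂
    rw [theta2_deltaC, hx]
  refine ⟨κ.hom x, ?_⟩
  rw [← kappa_deltaC W D' C N κ hκ, h3]
  rfl

end K

end Groth.Agent.Lib27.FunDesc
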