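import Groth.Agent.Lib27.Alg.FunDesc2
set_option autoImplicit false
set_option maxHeartbeats 4000000
set_option synthInstance.maxHeartbeats 400000
universe u
open CategoryTheory CategoryTheory.Limits Opposite TensorProduct ChangeOfRings

namespace Groth.Agent.Lib27.FunDesc

open Groth.Agent.Lib27.ModDesc

/-- `etmul g N t` as an additive map -/
noncomputable def etmulAdd {S T : Type u} [CommRing S] [CommRing T] (g : S →+* T)
    (N : ModuleCat.{u} S) (t : T) : N →+ (ModuleCat.extendScalars g).obj N where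
  toFun n := etmul g N t n
  map_zero' := etmul_zero_right t
  map_add' n n' := etmul_add_right t n n'

@[simp] theorem etmulAdd_apply {S T : Type u} [CommRing S] [CommRing T] (g : S →+* T)
    (N : ModuleCat.{u} S) (t : T) (n : N) : etmulAdd g N t n = etmul g N t n := rfl

/-- the adjoint of a linear map into a restriction of scalars -/
noncomputable def fromExt {A B : Type u} [CommRing A] [CommRing B] (g : A →+* B)
    {P : ModuleCat.{u} A} {M : ModuleCat.{u} B}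
    (v : P ⟶ (ModuleCat.restrictScalars g).obj M) : (ModuleCat.extendScalars g).obj P ⟶ M :=
  ModuleCat.ExtendRestrictScalarsAdj.HomEquiv.fromExtendScalars g v

theorem fromExt_etmul {A B : Type u} [CommRing A] [CommRing B] (g : A →+* B)
    {P : ModuleCat.{u} A} {M : ModuleCat.{u} B}
    (v : P ⟶ (ModuleCat.restrictScalars g).obj M) (b : B) (x : P) :
    fromExt g v (etmul g P b x) = b • (show M from v x) := rfl

variable (W : CommRingCat.{u} ⥤ CommRingCat.{u})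

section BC

variable {Xu : CommRingCat.{u}ᵒᵖ} (N : ModuleCat.{u} (W.obj Xu.unop))

/-- opaque version of `mcHom` -/
noncomputable irreducible_def mH {Y Y' : CommRingCat.{u}ᵒᵖ} (a : Y ⟶ Xu) (g : Y' ⟶ Y) (ga : Y' ⟶ Xu)
    (h : g ≫ a = ga) :
    (ModuleCat.extendScalars (W.map ga.unop).hom).obj N ⟶
      (ModuleCat.extendScalars (W.map g.unop).hom).obj
        ((ModuleCat.extendScalars (W.map a.unop).hom).obj N) :=
  mcHom W a g ga h N

/-- opaque version of `mcInv` -/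
noncomputable irreducible_def mI {Y Y' : CommRingCat.{u}ᵒᵖ} (a : Y ⟶ Xu) (g : Y' ⟶ Y) (ga : Y' ⟶ Xu)
    (h : g ≫ a = ga) :
    (ModuleCat.extendScalars (W.map g.unop).hom).obj
        ((ModuleCat.extendScalars (W.map a.unop).hom).obj N) ⟶
      (ModuleCat.extendScalars (W.map ga.unop).hom).obj N :=
  mcInv W a g ga h N

theorem mH_etmul {Y Y' : CommRingCat.{u}ᵒᵖ} (a : Y ⟶ Xu) (g : Y' ⟶ Y) (ga : Y' ⟶ Xu)
    (h : g ≫ a = ga) (c : W.obj Y'.unop) (m : N) :
    mH W N a g ga h (etmul (W.map ga.unop).hom N c m) =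
      etmul (W.map g.unop).hom _ c (etmul (W.map a.unop).hom N 1 m) := by
  rw [mH_def]
  exact mcHom_etmul W a g ga h N c m

theorem mI_etmul {Y Y' : CommRingCat.{u}ᵒᵖ} (a : Y ⟶ Xu) (g : Y' ⟶ Y) (ga : Y' ⟶ Xu)
    (h : g ≫ a = ga) (c : W.obj Y'.unop) (s : W.obj Y.unop) (m : N) :
    mI W N a g ga h (etmul (W.map g.unop).hom _ c (etmul (W.map a.unop).hom N s m)) =
      etmul (W.map ga.unop).hom N (c * (W.map g.unop).hom s) m := by
  rw [mI_def]
  exact mcInv_etmul W a g ga h N c s m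

theorem mI_mH {Y Y' : CommRingCat.{u}ᵒᵖ} (a : Y ⟶ Xu) (g : Y' ⟶ Y) (ga : Y' ⟶ Xu)
    (h : g ≫ a = ga) : mI W N a g ga h ≫ mH W N a g ga h = 𝟙 _ := by
  rw [mI_def, mH_def]
  exact Cat.Hom.inv_hom_id_toNatTrans_app
    ((PFof W).mapComp' a.op.toLoc g.op.toLoc ga.op.toLoc (by subst h; rfl)) N

theorem mH_mI {Y Y' : CommRingCat.{u}ᵒᵖ} (a : Y ⟶ Xu) (g : Y' ⟶ Y) (ga : Y' ⟶ Xu)
    (h : g ≫ a = ga) : mH W N a g ga h ≫ mI W N a g ga h = 𝟙 _ := by
  rw [mI_def, mH_def]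
  exact Cat.Hom.hom_inv_id_toNatTrans_app
    ((PFof W).mapComp' a.op.toLoc g.op.toLoc ga.op.toLoc (by subst h; rfl)) N

theorem mH_mI_apply {Y Y' : CommRingCat.{u}ᵒᵖ} (a : Y ⟶ Xu) (g : Y' ⟶ Y) (ga : Y' ⟶ Xu)
    (h : g ≫ a = ga) (z : (ModuleCat.extendScalars (W.map g.unop).hom).obj
        ((ModuleCat.extendScalars (W.map a.unop).hom).obj N)) :
    mH W N a g ga h (mI W N a g ga h z) = z := by
  have := mI_mH W N a g ga h
  exact congr($this z)

theorem mI_mH_apply {Y Y' : CommRingCat.{u}ᵒᵖ} (a : Y ⟶ Xu) (g : Y' ⟶ Y) (ga : Y' ⟶ Xu)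
    (h : g ≫ a = ga) (z : (ModuleCat.extendScalars (W.map ga.unop).hom).obj N) :
    mI W N a g ga h (mH W N a g ga h z) = z := by
  have := mH_mI W N a g ga h
  exact congr($this z)

/-- base change of elements along `g` -/
noncomputable def bc {Y Y' : CommRingCat.{u}ᵒᵖ} (a : Y ⟶ Xu) (g : Y' ⟶ Y) (ga : Y' ⟶ Xu)
    (h : g ≫ a = ga) : (ModuleCat.extendScalars (W.map a.unop).hom).obj N →+
      (ModuleCat.extendScalars (W.map ga.unop).hom).obj N :=
  (mI W N a g ga h).hom.toAddMonoidHom.comp (etmulAdd (W.map g.unop).hom _ 1)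

theorem bc_apply {Y Y' : CommRingCat.{u}ᵒᵖ} (a : Y ⟶ Xu) (g : Y' ⟶ Y) (ga : Y' ⟶ Xu)
    (h : g ≫ a = ga) (y : (ModuleCat.extendScalars (W.map a.unop).hom).obj N) :
    bc W N a g ga h y = mI W N a g ga h (etmul (W.map g.unop).hom _ 1 y) := rfl

theorem bc_etmul {Y Y' : CommRingCat.{u}ᵒᵖ} (a : Y ⟶ Xu) (g : Y' ⟶ Y) (ga : Y' ⟶ Xu)
    (h : g ≫ a = ga) (s : W.obj Y.unop) (m : N) :
    bc W N a g ga h (etmul (W.map a.unop).hom N s m) =
      etmul (W.map ga.unop).hom N ((W.map g.unop).hom s) m := by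
  rw [bc_apply, mI_etmul, one_mul]

theorem bc_smul {Y Y' : CommRingCat.{u}ᵒᵖ} (a : Y ⟶ Xu) (g : Y' ⟶ Y) (ga : Y' ⟶ Xu)
    (h : g ≫ a = ga) (t : W.obj Y.unop) (y : (ModuleCat.extendScalars (W.map a.unop).hom).obj N) :
    bc W N a g ga h (t • y) = (W.map g.unop).hom t • bc W N a g ga h y := by
  induction y using etmul_induction with
  | h0 => rw [smul_zero, map_zero, smul_zero]
  | h1 s m => rw [smul_etmul, bc_etmul, bc_etmul, smul_etmul, map_mul]
  | h2 x y hx hy => rw [smul_add, map_add, hx, hy, map_add, smul_add]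

end BC

end Groth.Agent.Lib27.FunDesc
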