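import Groth.Agent.Lib27.Alg.FunCore
set_option autoImplicit false
set_option maxHeartbeats 4000000
set_option synthInstance.maxHeartbeats 400000
universe u
open CategoryTheory CategoryTheory.Limits Opposite TensorProduct ChangeOfRings

namespace Groth.Agent.Lib27.FunDesc

open Groth.Agent.Lib27.ModDesc

/-- the identity from a restriction of scalars to the module -/
noncomputable def resOf {A B : Type u} [CommRing A] [CommRing B] (g : A →+* B)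
    (M : ModuleCat.{u} B) : (ModuleCat.restrictScalars g).obj M →+ M := AddMonoidHom.id M

/-- the identity from a module to its restriction of scalars -/
noncomputable def resTo {A B : Type u} [CommRing A] [CommRing B] (g : A →+* B)
    (M : ModuleCat.{u} B) : M →+ (ModuleCat.restrictScalars g).obj M := AddMonoidHom.id M

@[simp] theorem resOf_resTo {A B : Type u} [CommRing A] [CommRing B] (g : A →+* B)
    (M : ModuleCat.{u} B) (m : M) : resOf g M (resTo g M m) = m := rfl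

@[simp] theorem resTo_resOf {A B : Type u} [CommRing A] [CommRing B] (g : A →+* B)
    (M : ModuleCat.{u} B) (m : (ModuleCat.restrictScalars g).obj M) :
    resTo g M (resOf g M m) = m := rfl

theorem resOf_smul {A B : Type u} [CommRing A] [CommRing B] (g : A →+* B)
    (M : ModuleCat.{u} B) (a : A) (m : (ModuleCat.restrictScalars g).obj M) :
    resOf g M (a • m) = g a • resOf g M m := rfl

theorem resTo_smul {A B : Type u} [CommRing A] [CommRing B] (g : A →+* B)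
    (M : ModuleCat.{u} B) (a : A) (m : M) :
    resTo g M (g a • m) = a • resTo g M m := rfl

theorem fromExt_etmul' {A B : Type u} [CommRing A] [CommRing B] (g : A →+* B)
    {P : ModuleCat.{u} A} {M : ModuleCat.{u} B}
    (v : P ⟶ (ModuleCat.restrictScalars g).obj M) (b : B) (x : P) :
    fromExt g v (etmul g P b x) = b • resOf g M (v x) := rfl

variable (W : CommRingCat.{u} ⥤ CommRingCat.{u})

section D3

variable {S : CommRingCat.{u}ᵒᵖ} {X : PUnit.{u + 1} → CommRingCat.{u}ᵒᵖ} {f : ∀ i, X i ⟶ S}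
  (D : (PFof W).DescentData f)

/-- the underlying module of a descent datum -/
noncomputable def dObj : ModuleCat.{u} (W.obj (X PUnit.unit).unop) := D.obj PUnit.unit

/-- the descent isomorphisms as module maps -/
noncomputable irreducible_def dH {Y : CommRingCat.{u}ᵒᵖ} (q : Y ⟶ S) (f₁ f₂ : Y ⟶ X PUnit.unit)
    (hf₁ : f₁ ≫ f PUnit.unit = q) (hf₂ : f₂ ≫ f PUnit.unit = q) :
    (ModuleCat.extendScalars (W.map f₁.unop).hom).obj (dObj W D) ⟶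
      (ModuleCat.extendScalars (W.map f₂.unop).hom).obj (dObj W D) :=
  D.hom q f₁ f₂ hf₁ hf₂

theorem dH_self {Y : CommRingCat.{u}ᵒᵖ} (q : Y ⟶ S) (g : Y ⟶ X PUnit.unit)
    (hg : g ≫ f PUnit.unit = q) : dH W D q g g hg hg = 𝟙 _ := by
  rw [dH_def]
  exact D.hom_self q g hg

theorem dH_comp {Y : CommRingCat.{u}ᵒᵖ} (q : Y ⟶ S) (f₁ f₂ f₃ : Y ⟶ X PUnit.unit)
    (hf₁ : f₁ ≫ f PUnit.unit = q) (hf₂ : f₂ ≫ f PUnit.unit = q) (hf₃ : f₃ ≫ f PUnit.unit = q) :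
    dH W D q f₁ f₂ hf₁ hf₂ ≫ dH W D q f₂ f₃ hf₂ hf₃ = dH W D q f₁ f₃ hf₁ hf₃ := by
  rw [dH_def, dH_def, dH_def]
  exact D.hom_comp q f₁ f₂ f₃ hf₁ hf₂ hf₃

theorem dH_self_apply {Y : CommRingCat.{u}ᵒᵖ} (q : Y ⟶ S) (g : Y ⟶ X PUnit.unit)
    (hg : g ≫ f PUnit.unit = q) (y : (ModuleCat.extendScalars (W.map g.unop).hom).obj (dObj W D)) :
    dH W D q g g hg hg y = y := by
  rw [dH_self]
  rfl

theorem dH_comp_apply {Y : CommRingCat.{u}ᵒᵖ} (q : Y ⟶ S) (f₁ f₂ f₃ : Y ⟶ X PUnit.unit)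
    (hf₁ : f₁ ≫ f PUnit.unit = q) (hf₂ : f₂ ≫ f PUnit.unit = q) (hf₃ : f₃ ≫ f PUnit.unit = q)
    (y : (ModuleCat.extendScalars (W.map f₁.unop).hom).obj (dObj W D)) :
    dH W D q f₂ f₃ hf₂ hf₃ (dH W D q f₁ f₂ hf₁ hf₂ y) = dH W D q f₁ f₃ hf₁ hf₃ y := by
  rw [← dH_comp W D q f₁ f₂ f₃ hf₁ hf₂ hf₃]
  rfl

theorem dH_pull {Y' Y : CommRingCat.{u}ᵒᵖ} (g : Y' ⟶ Y) (q : Y ⟶ S) (q' : Y' ⟶ S)
    (hq : g ≫ q = q') (f₁ f₂ : Y ⟶ X PUnit.unit)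
    (hf₁ : f₁ ≫ f PUnit.unit = q) (hf₂ : f₂ ≫ f PUnit.unit = q)
    (gf₁ gf₂ : Y' ⟶ X PUnit.unit) (hgf₁ : g ≫ f₁ = gf₁) (hgf₂ : g ≫ f₂ = gf₂)
    (hgf₁' : gf₁ ≫ f PUnit.unit = q') (hgf₂' : gf₂ ≫ f PUnit.unit = q') :
    mH W (dObj W D) f₁ g gf₁ hgf₁ ≫
      (ModuleCat.extendScalars (W.map g.unop).hom).map (dH W D q f₁ f₂ hf₁ hf₂) ≫
      mI W (dObj W D) f₂ g gf₂ hgf₂ = dH W D q' gf₁ gf₂ hgf₁' hgf₂' := by
  rw [dH_def, dH_def, mH_def, mI_def]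
  exact D.pullHom_hom g q q' hq f₁ f₂ hf₁ hf₂ gf₁ gf₂ hgf₁ hgf₂

theorem dH_bc {Y' Y : CommRingCat.{u}ᵒᵖ} (g : Y' ⟶ Y) (q : Y ⟶ S) (q' : Y' ⟶ S)
    (hq : g ≫ q = q') (f₁ f₂ : Y ⟶ X PUnit.unit)
    (hf₁ : f₁ ≫ f PUnit.unit = q) (hf₂ : f₂ ≫ f PUnit.unit = q)
    (gf₁ gf₂ : Y' ⟶ X PUnit.unit) (hgf₁ : g ≫ f₁ = gf₁) (hgf₂ : g ≫ f₂ = gf₂)
    (hgf₁' : gf₁ ≫ f PUnit.unit = q') (hgf₂' : gf₂ ≫ f PUnit.unit = q')
    (y : (ModuleCat.extendScalars (W.map f₁.unop).hom).obj (dObj W D)) :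
    dH W D q' gf₁ gf₂ hgf₁' hgf₂' (bc W (dObj W D) f₁ g gf₁ hgf₁ y) =
      bc W (dObj W D) f₂ g gf₂ hgf₂ (dH W D q f₁ f₂ hf₁ hf₂ y) := by
  rw [← dH_pull W D g q q' hq f₁ f₂ hf₁ hf₂ gf₁ gf₂ hgf₁ hgf₂ hgf₁' hgf₂']
  refine (ConcreteCategory.comp_apply _ _ _).trans ?_
  refine (ConcreteCategory.comp_apply _ _ _).trans ?_
  rw [bc_apply, mH_mI_apply, map_etmul, bc_apply]

/-- invariant elements -/
def IsInv (m : dObj W D) : Prop :=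
  ∀ {Y : CommRingCat.{u}ᵒᵖ} (q : Y ⟶ S) (f₁ f₂ : Y ⟶ X PUnit.unit)
    (hf₁ : f₁ ≫ f PUnit.unit = q) (hf₂ : f₂ ≫ f PUnit.unit = q),
    dH W D q f₁ f₂ hf₁ hf₂ (etmul (W.map f₁.unop).hom (dObj W D) 1 m) =
      etmul (W.map f₂.unop).hom (dObj W D) 1 m

theorem isInv_of_universal {Y₀ : CommRingCat.{u}ᵒᵖ} (q₀ : Y₀ ⟶ S) (i₁ i₂ : Y₀ ⟶ X PUnit.unit)
    (hi₁ : i₁ ≫ f PUnit.unit = q₀) (hi₂ : i₂ ≫ f PUnit.unit = q₀)
    (huniv : ∀ {Y : CommRingCat.{u}ᵒᵖ} (f₁ f₂ : Y ⟶ X PUnit.unit),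
      f₁ ≫ f PUnit.unit = f₂ ≫ f PUnit.unit → ∃ g : Y ⟶ Y₀, g ≫ i₁ = f₁ ∧ g ≫ i₂ = f₂)
    (m : dObj W D)
    (hm : dH W D q₀ i₁ i₂ hi₁ hi₂ (etmul (W.map i₁.unop).hom (dObj W D) 1 m) =
      etmul (W.map i₂.unop).hom (dObj W D) 1 m) : IsInv W D m := by
  intro Y q f₁ f₂ hf₁ hf₂
  obtain ⟨g, hg1, hg2⟩ := huniv f₁ f₂ (hf₁.trans hf₂.symm)
  have hq : g ≫ q₀ = q := by rw [← hi₁, ← Category.assoc, hg1, hf₁]
  have e1 : etmul (W.map f₁.unop).hom (dObj W D) 1 m =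
      bc W (dObj W D) i₁ g f₁ hg1 (etmul (W.map i₁.unop).hom (dObj W D) 1 m) := by
    rw [bc_etmul, map_one]
  have e2 : etmul (W.map f₂.unop).hom (dObj W D) 1 m =
      bc W (dObj W D) i₂ g f₂ hg2 (etmul (W.map i₂.unop).hom (dObj W D) 1 m) := by
    rw [bc_etmul, map_one]
  rw [e1, e2, dH_bc W D g q₀ q hq i₁ i₂ hi₁ hi₂ f₁ f₂ hg1 hg2 hf₁ hf₂, hm]

/-- opaque version of `canHom` -/
noncomputable irreducible_def cH (P : ModuleCat.{u} (W.obj S.unop))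
    {Y : CommRingCat.{u}ᵒᵖ} (q : Y ⟶ S) (f₁ f₂ : Y ⟶ X PUnit.unit)
    (hf₁ : f₁ ≫ f PUnit.unit = q) (hf₂ : f₂ ≫ f PUnit.unit = q) :
    (ModuleCat.extendScalars (W.map f₁.unop).hom).obj ((ModuleCat.extendScalars (wf W f)).obj P) ⟶
      (ModuleCat.extendScalars (W.map f₂.unop).hom).obj ((ModuleCat.extendScalars (wf W f)).obj P) :=
  canHom W f P q f₁ f₂ hf₁ hf₂

theorem cH_etmul (P : ModuleCat.{u} (W.obj S.unop))
    {Y : CommRingCat.{u}ᵒᵖ} (q : Y ⟶ S) (f₁ f₂ : Y ⟶ X PUnit.unit)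
    (hf₁ : f₁ ≫ f PUnit.unit = q) (hf₂ : f₂ ≫ f PUnit.unit = q)
    (t : W.obj Y.unop) (s : W.obj (X PUnit.unit).unop) (m : P) :
    cH W (f := f) P q f₁ f₂ hf₁ hf₂ (etmul (W.map f₁.unop).hom _ t (etmul (wf W f) P s m)) =
      etmul (W.map f₂.unop).hom _ (t * (W.map f₁.unop).hom s) (etmul (wf W f) P 1 m) := by
  rw [cH_def]
  exact canHom_etmul_gen W f P q f₁ f₂ hf₁ hf₂ t s m

theorem comm_of_inv (P : ModuleCat.{u} (W.obj S.unop))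
    (v : P ⟶ (ModuleCat.restrictScalars (wf W f)).obj (dObj W D))
    (hv : ∀ x : P, IsInv W D (resOf (wf W f) (dObj W D) (v x)))
    {Y : CommRingCat.{u}ᵒᵖ} (q : Y ⟶ S) (f₁ f₂ : Y ⟶ X PUnit.unit)
    (hf₁ : f₁ ≫ f PUnit.unit = q) (hf₂ : f₂ ≫ f PUnit.unit = q) :
    (ModuleCat.extendScalars (W.map f₁.unop).hom).map (fromExt (wf W f) v) ≫
        dH W D q f₁ f₂ hf₁ hf₂ =
      cH W (f := f) P q f₁ f₂ hf₁ hf₂ ≫
        (ModuleCat.extendScalars (W.map f₂.unop).hom).map (fromExt (wf W f) v) := by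
  apply ModuleCat.ExtendScalars.hom_ext
  intro x
  change dH W D q f₁ f₂ hf₁ hf₂ ((ModuleCat.extendScalars (W.map f₁.unop).hom).map
      (fromExt (wf W f) v) (etmul (W.map f₁.unop).hom _ 1 x)) =
    (ModuleCat.extendScalars (W.map f₂.unop).hom).map (fromExt (wf W f) v)
      (cH W (f := f) P q f₁ f₂ hf₁ hf₂ (etmul (W.map f₁.unop).hom _ 1 x))
  induction x using etmul_induction with
  | h0 => simp [etmul_zero_right]
  | h1 s p =>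
    rw [map_etmul, fromExt_etmul', etmul_one_smul, map_smul, hv p q f₁ f₂ hf₁ hf₂, cH_etmul,
      map_etmul, fromExt_etmul', one_mul, one_smul, smul_etmul, mul_one]
  | h2 x y hx hy =>
    rw [etmul_add_right, map_add, map_add, map_add, map_add, hx, hy]

end D3

end Groth.Agent.Lib27.FunDesc
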