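import Groth.Agent.Lib27.Alg.FunD
set_option autoImplicit false
set_option maxHeartbeats 4000000
set_option synthInstance.maxHeartbeats 400000
universe u
open CategoryTheory CategoryTheory.Limits Opposite TensorProduct ChangeOfRings

namespace Groth.Agent.Lib27.FunDesc

open Groth.Agent.Lib27.ModDesc

variable (W : CommRingCat.{u} ⥤ CommRingCat.{u})

section D3

variable {S : CommRingCat.{u}ᵒᵖ} {X : PUnit.{u + 1} → CommRingCat.{u}ᵒᵖ} {f : ∀ i, X i ⟶ S}
  (D : (PFof W).DescentData f)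

theorem exists_iso_of (P : ModuleCat.{u} (W.obj S.unop))
    (e : (ModuleCat.extendScalars (wf W f)).obj P ≅ dObj W D)
    (hcomm : ∀ {Y : CommRingCat.{u}ᵒᵖ} (q : Y ⟶ S) (f₁ f₂ : Y ⟶ X PUnit.unit)
      (hf₁ : f₁ ≫ f PUnit.unit = q) (hf₂ : f₂ ≫ f PUnit.unit = q),
      (ModuleCat.extendScalars (W.map f₁.unop).hom).map e.hom ≫ dH W D q f₁ f₂ hf₁ hf₂ =
      cH W (f := f) P q f₁ f₂ hf₁ hf₂ ≫
        (ModuleCat.extendScalars (W.map f₂.unop).hom).map e.hom) :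
    Nonempty (((PFof W).toDescentData f).obj P ≅ D) := by
  refine ⟨Pseudofunctor.DescentData.isoMk (fun _ => e) ?_⟩
  intro Y q i₁ i₂ f₁ f₂ hf₁ hf₂
  have h := hcomm q f₁ f₂ hf₁ hf₂
  rw [dH_def, cH_def] at h
  exact h

end D3

end Groth.Agent.Lib27.FunDesc
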