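import Mathlib
import Groth.Agent.Lib27.Alg.ModDesc
set_option autoImplicit false
set_option maxHeartbeats 4000000
set_option synthInstance.maxHeartbeats 400000
universe u
open CategoryTheory CategoryTheory.Limits Opposite TensorProduct ChangeOfRings

namespace Groth.Agent.Lib27.FunDesc

open Groth.Agent.Lib27.ModDesc

/-- the pseudofunctor `R ↦ Mod (W R)` attached to an endofunctor `W` of commutative rings -/
noncomputable def PFof (W : CommRingCat.{u} ⥤ CommRingCat.{u}) :
    Pseudofunctor (LocallyDiscrete (CommRingCat.{u}ᵒᵖ)ᵒᵖ) Cat.{u, u + 1} :=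
  ((unopUnop CommRingCat.{u}) ⋙ W).toPseudofunctor.comp
    CommRingCat.moduleCatExtendScalarsPseudofunctor.{u}

variable (W : CommRingCat.{u} ⥤ CommRingCat.{u})

/-- the 2-cell attached to an equality of ring maps -/
noncomputable def m2Hom {A B : CommRingCat.{u}} (a b : A ⟶ B) (h : a = b) (N : ModuleCat.{u} A) :
    (ModuleCat.extendScalars a.hom).obj N ⟶ (ModuleCat.extendScalars b.hom).obj N :=
  (CommRingCat.moduleCatExtendScalarsPseudofunctor.{u}.map₂
    (eqToHom (show a.toLoc = b.toLoc by rw [h]))).toNatTrans.app N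

theorem m2Hom_etmul {A B : CommRingCat.{u}} (a b : A ⟶ B) (h : a = b) (N : ModuleCat.{u} A)
    (t : B) (m : N) : m2Hom a b h N (etmul a.hom N t m) = etmul b.hom N t m := by
  subst h
  simp [m2Hom]
  rfl

theorem mapComp_hom_app {X Y Z : CommRingCat.{u}ᵒᵖ} (a : Y ⟶ X) (b : Z ⟶ Y)
    (N : ModuleCat.{u} (W.obj X.unop)) :
    ((PFof W).mapComp a.op.toLoc b.op.toLoc).hom.toNatTrans.app N =
      m2Hom (W.map (a.unop ≫ b.unop)) (W.map a.unop ≫ W.map b.unop) (W.map_comp a.unop b.unop) N ≫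
      (ModuleCat.extendScalarsComp (W.map a.unop).hom (W.map b.unop).hom).hom.app N := by
  simp [PFof]
  rfl

theorem mapComp_inv_app {X Y Z : CommRingCat.{u}ᵒᵖ} (a : Y ⟶ X) (b : Z ⟶ Y)
    (N : ModuleCat.{u} (W.obj X.unop)) :
    ((PFof W).mapComp a.op.toLoc b.op.toLoc).inv.toNatTrans.app N =
      (ModuleCat.extendScalarsComp (W.map a.unop).hom (W.map b.unop).hom).inv.app N ≫
      m2Hom (W.map a.unop ≫ W.map b.unop) (W.map (a.unop ≫ b.unop))
        (W.map_comp a.unop b.unop).symm N := by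
  simp [PFof]
  rfl

/-- `mapComp'` as a morphism of modules -/
noncomputable def mcHom {X Y Z : CommRingCat.{u}ᵒᵖ} (a : Y ⟶ X) (b : Z ⟶ Y) (ab : Z ⟶ X)
    (h : b ≫ a = ab) (N : ModuleCat.{u} (W.obj X.unop)) :
    (ModuleCat.extendScalars (W.map ab.unop).hom).obj N ⟶
      (ModuleCat.extendScalars (W.map b.unop).hom).obj
        ((ModuleCat.extendScalars (W.map a.unop).hom).obj N) :=
  ((PFof W).mapComp' a.op.toLoc b.op.toLoc ab.op.toLoc (by subst h; rfl)).hom.toNatTrans.app N

/-- `mapComp'` inverse as a morphism of modules -/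
noncomputable def mcInv {X Y Z : CommRingCat.{u}ᵒᵖ} (a : Y ⟶ X) (b : Z ⟶ Y) (ab : Z ⟶ X)
    (h : b ≫ a = ab) (N : ModuleCat.{u} (W.obj X.unop)) :
    (ModuleCat.extendScalars (W.map b.unop).hom).obj
        ((ModuleCat.extendScalars (W.map a.unop).hom).obj N) ⟶
      (ModuleCat.extendScalars (W.map ab.unop).hom).obj N :=
  ((PFof W).mapComp' a.op.toLoc b.op.toLoc ab.op.toLoc (by subst h; rfl)).inv.toNatTrans.app N

theorem mcHom_etmul {X Y Z : CommRingCat.{u}ᵒᵖ} (a : Y ⟶ X) (b : Z ⟶ Y) (ab : Z ⟶ X)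
    (h : b ≫ a = ab) (N : ModuleCat.{u} (W.obj X.unop)) (c : W.obj Z.unop) (m : N) :
    mcHom W a b ab h N (etmul (W.map ab.unop).hom N c m) =
      etmul (W.map b.unop).hom _ c (etmul (W.map a.unop).hom N 1 m) := by
  subst h
  have e : mcHom W a b (b ≫ a) rfl N =
      m2Hom (W.map (a.unop ≫ b.unop)) (W.map a.unop ≫ W.map b.unop) (W.map_comp a.unop b.unop) N ≫
      (ModuleCat.extendScalarsComp (W.map a.unop).hom (W.map b.unop).hom).hom.app N := by
    have := Pseudofunctor.mapComp'_eq_mapComp (PFof W) a.op.toLoc b.op.toLoc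
    rw [mcHom, show (PFof W).mapComp' a.op.toLoc b.op.toLoc (b ≫ a).op.toLoc rfl =
      (PFof W).mapComp a.op.toLoc b.op.toLoc from this]
    exact mapComp_hom_app W a b N
  rw [e]
  refine (ConcreteCategory.comp_apply _ _ _).trans ?_
  have e2 : m2Hom (W.map (a.unop ≫ b.unop)) (W.map a.unop ≫ W.map b.unop)
      (W.map_comp a.unop b.unop) N (etmul (W.map (b ≫ a).unop).hom N c m) =
      etmul ((W.map b.unop).hom.comp (W.map a.unop).hom) N c m :=
    m2Hom_etmul (W.map (a.unop ≫ b.unop)) (W.map a.unop ≫ W.map b.unop)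
      (W.map_comp a.unop b.unop) N c m
  exact (congrArg (fun z =>
    (ModuleCat.extendScalarsComp (W.map a.unop).hom (W.map b.unop).hom).hom.app N z) e2).trans
    (comp_hom_etmul (W.map a.unop).hom (W.map b.unop).hom N c m)

theorem mcInv_etmul {X Y Z : CommRingCat.{u}ᵒᵖ} (a : Y ⟶ X) (b : Z ⟶ Y) (ab : Z ⟶ X)
    (h : b ≫ a = ab) (N : ModuleCat.{u} (W.obj X.unop)) (c : W.obj Z.unop) (s : W.obj Y.unop)
    (m : N) :
    mcInv W a b ab h N (etmul (W.map b.unop).hom _ c (etmul (W.map a.unop).hom N s m)) =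
      etmul (W.map ab.unop).hom N (c * (W.map b.unop).hom s) m := by
  subst h
  have e : mcInv W a b (b ≫ a) rfl N =
      (ModuleCat.extendScalarsComp (W.map a.unop).hom (W.map b.unop).hom).inv.app N ≫
      m2Hom (W.map a.unop ≫ W.map b.unop) (W.map (a.unop ≫ b.unop))
        (W.map_comp a.unop b.unop).symm N := by
    have := Pseudofunctor.mapComp'_eq_mapComp (PFof W) a.op.toLoc b.op.toLoc
    rw [mcInv, show (PFof W).mapComp' a.op.toLoc b.op.toLoc (b ≫ a).op.toLoc rfl =
      (PFof W).mapComp a.op.toLoc b.op.toLoc from this]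
    exact mapComp_inv_app W a b N
  rw [e]
  refine (ConcreteCategory.comp_apply _ _ _).trans ?_
  have e1 := comp_inv_etmul (W.map a.unop).hom (W.map b.unop).hom N c s m
  have e2 : m2Hom (W.map a.unop ≫ W.map b.unop) (W.map (a.unop ≫ b.unop))
      (W.map_comp a.unop b.unop).symm N
      (etmul ((W.map b.unop).hom.comp (W.map a.unop).hom) N (c * (W.map b.unop).hom s) m) =
      etmul (W.map (b ≫ a).unop).hom N (c * (W.map b.unop).hom s) m :=
    m2Hom_etmul (W.map a.unop ≫ W.map b.unop) (W.map (a.unop ≫ b.unop))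
      (W.map_comp a.unop b.unop).symm N (c * (W.map b.unop).hom s) m
  exact (congrArg (fun z => m2Hom (W.map a.unop ≫ W.map b.unop) (W.map (a.unop ≫ b.unop))
    (W.map_comp a.unop b.unop).symm N z) e1).trans e2

section FlatEq

variable {A B T : Type u} [CommRing A] [CommRing B] [CommRing T]
  (f : A →+* B) (g₁ g₂ : B →+* T)

/-- `f` as a linear map `A → B` -/
noncomputable def fL : A →ₗ[A] ((ModuleCat.restrictScalars f).obj (ModuleCat.of B B)) where
  toFun a := f a
  map_add' := map_add f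
  map_smul' a a' := by
    rw [smul_eq_mul, map_mul]
    rfl

/-- `g₁` as a linear map `B → T` over `A` -/
noncomputable def g1L (h : g₁.comp f = g₂.comp f) :
    ((ModuleCat.restrictScalars f).obj (ModuleCat.of B B)) →ₗ[A]
    ((ModuleCat.restrictScalars (g₂.comp f)).obj (ModuleCat.of T T)) where
  toFun b := g₁ (show B from b)
  map_add' := map_add g₁
  map_smul' a b := by
    show g₁ (f a * (show B from b)) = (g₂.comp f) a * g₁ (show B from b)
    rw [map_mul, ← h]
    rfl

/-- `g₂` as a linear map `B → T` over `A` -/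
noncomputable def g2L : ((ModuleCat.restrictScalars f).obj (ModuleCat.of B B)) →ₗ[A]
    ((ModuleCat.restrictScalars (g₂.comp f)).obj (ModuleCat.of T T)) where
  toFun b := g₂ (show B from b)
  map_add' := map_add g₂
  map_smul' a b := by
    show g₂ (f a * (show B from b)) = (g₂.comp f) a * g₂ (show B from b)
    rw [map_mul]
    rfl

variable (h : g₁.comp f = g₂.comp f) (N : ModuleCat.{u} A)

/-- `s ⊗ m ↦ g₁ s ⊗ m` -/
noncomputable def P1 : (ModuleCat.extendScalars f).obj N →+
    (ModuleCat.extendScalars (g₂.comp f)).obj N :=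
  ((g1L f g₁ g₂ h).rTensor N).toAddMonoidHom

/-- `s ⊗ m ↦ g₂ s ⊗ m` -/
noncomputable def P2 : (ModuleCat.extendScalars f).obj N →+
    (ModuleCat.extendScalars (g₂.comp f)).obj N :=
  ((g2L f g₂).rTensor N).toAddMonoidHom

@[simp] theorem P1_etmul (s : B) (m : N) :
    P1 f g₁ g₂ h N (etmul f N s m) = etmul (g₂.comp f) N (g₁ s) m := rfl

@[simp] theorem P2_etmul (s : B) (m : N) :
    P2 f g₂ N (etmul f N s m) = etmul (g₂.comp f) N (g₂ s) m := rfl

theorem etmul_one_eq_zero [Module.Flat A N] (hinj : Function.Injective f) (m : N)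
    (hm : etmul f N 1 m = 0) : m = 0 := by
  have h1 : Function.Injective ((fL f).rTensor N) :=
    Module.Flat.rTensor_preserves_injective_linearMap (fL f) hinj
  have h2 : (fL f).rTensor N ((1 : A) ⊗ₜ[A] m) = 0 := by
    rw [LinearMap.rTensor_tmul]
    show etmul f N (f 1) m = 0
    rw [map_one]
    exact hm
  have h3 := h1 (h2.trans (map_zero _).symm)
  have h4 := congrArg (TensorProduct.lid A N) h3
  simpa using h4

include h in
theorem exists_of_P1_eq_P2 [Module.Flat A N]
    (hex : ∀ b : B, g₁ b = g₂ b → ∃ a : A, f a = b)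
    (y : (ModuleCat.extendScalars f).obj N) (hy : P1 f g₁ g₂ h N y = P2 f g₂ N y) :
    ∃ m : N, y = etmul f N 1 m := by
  have hexact : Function.Exact (fL f) (g1L f g₁ g₂ h - g2L f g₂) := by
    intro b
    constructor
    · intro hb
      have : g₁ b = g₂ b := sub_eq_zero.mp hb
      obtain ⟨a, ha⟩ := hex b this
      exact ⟨a, ha⟩
    · rintro ⟨a, rfl⟩
      show g₁ (f a) - g₂ (f a) = 0
      rw [sub_eq_zero]
      exact congr($h a)
  have h1 := Module.Flat.rTensor_exact N hexact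
  let y' : (↑((ModuleCat.restrictScalars f).obj (ModuleCat.of B B))) ⊗[A] ↑N := y
  have h2 : (g1L f g₁ g₂ h - g2L f g₂).rTensor N y' = 0 := by
    rw [LinearMap.rTensor_sub, LinearMap.sub_apply, sub_eq_zero]
    exact hy
  have key : ∀ z : A ⊗[A] N, (fL f).rTensor N z = etmul f N 1 (TensorProduct.lid A N z) := by
    intro z
    induction z using TensorProduct.induction_on with
    | zero =>
      rw [map_zero, map_zero, etmul_zero_right]
      rfl
    | tmul a m =>
      rw [LinearMap.rTensor_tmul, TensorProduct.lid_tmul]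
      show etmul f N (f a) m = etmul f N 1 (a • m)
      rw [← etmul_smul, mul_one]
    | add x y hx hy =>
      rw [map_add, map_add, hx, hy, etmul_add_right]
      rfl
  obtain ⟨z, hz⟩ := (h1 y').mp h2
  exact ⟨TensorProduct.lid A N z, hz.symm.trans (key z)⟩

theorem compInv_etmul_one (y : (ModuleCat.extendScalars f).obj N) :
    (ModuleCat.extendScalarsComp f g₂).inv.app N (etmul g₂ _ 1 y) = P2 f g₂ N y := by
  induction y using etmul_induction with
  | h0 => rw [etmul_zero_right, map_zero, map_zero]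
  | h1 s m => rw [comp_inv_etmul, one_mul, P2_etmul]
  | h2 x y hx hy => rw [etmul_add_right, map_add, hx, hy, map_add]

end FlatEq

section DD

variable {S : CommRingCat.{u}ᵒᵖ} {X : PUnit.{u + 1} → CommRingCat.{u}ᵒᵖ} (f : ∀ i, X i ⟶ S)

/-- `W` of the structure map -/
noncomputable abbrev wf : W.obj S.unop →+* W.obj (X PUnit.unit).unop :=
  (W.map (f PUnit.unit).unop).hom

/-- the canonical descent isomorphism of `W(R') ⊗ M` -/
noncomputable def canHom (M : ModuleCat.{u} (W.obj S.unop))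
    {Y : CommRingCat.{u}ᵒᵖ} (q : Y ⟶ S) (f₁ f₂ : Y ⟶ X PUnit.unit)
    (hf₁ : f₁ ≫ f PUnit.unit = q) (hf₂ : f₂ ≫ f PUnit.unit = q) :
    (ModuleCat.extendScalars (W.map f₁.unop).hom).obj ((ModuleCat.extendScalars (wf W f)).obj M) ⟶
      (ModuleCat.extendScalars (W.map f₂.unop).hom).obj ((ModuleCat.extendScalars (wf W f)).obj M) :=
  (((PFof W).toDescentData f).obj M).hom q f₁ f₂ hf₁ hf₂

theorem canHom_eq (M : ModuleCat.{u} (W.obj S.unop))
    {Y : CommRingCat.{u}ᵒᵖ} (q : Y ⟶ S) (f₁ f₂ : Y ⟶ X PUnit.unit)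
    (hf₁ : f₁ ≫ f PUnit.unit = q) (hf₂ : f₂ ≫ f PUnit.unit = q) :
    canHom W f M q f₁ f₂ hf₁ hf₂ =
      mcInv W (f PUnit.unit) f₁ q hf₁ M ≫ mcHom W (f PUnit.unit) f₂ q hf₂ M := rfl

end DD

end Groth.Agent.Lib27.FunDesc
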