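import Groth.Agent.Lib27.Alg.FunDesc
set_option autoImplicit false
set_option maxHeartbeats 4000000
set_option synthInstance.maxHeartbeats 400000
universe u
open CategoryTheory CategoryTheory.Limits Opposite TensorProduct ChangeOfRings

namespace Groth.Agent.Lib27.FunDesc

open Groth.Agent.Lib27.ModDesc

variable (W : CommRingCat.{u} ⥤ CommRingCat.{u})

section DD2

variable {S : CommRingCat.{u}ᵒᵖ} {X : PUnit.{u + 1} → CommRingCat.{u}ᵒᵖ} (f : ∀ i, X i ⟶ S)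

theorem canHom_etmul_gen (M : ModuleCat.{u} (W.obj S.unop))
    {Y : CommRingCat.{u}ᵒᵖ} (q : Y ⟶ S) (f₁ f₂ : Y ⟶ X PUnit.unit)
    (hf₁ : f₁ ≫ f PUnit.unit = q) (hf₂ : f₂ ≫ f PUnit.unit = q)
    (t : W.obj Y.unop) (s : W.obj (X PUnit.unit).unop) (m : M) :
    canHom W f M q f₁ f₂ hf₁ hf₂ (etmul (W.map f₁.unop).hom _ t (etmul (wf W f) M s m)) =
      etmul (W.map f₂.unop).hom _ (t * (W.map f₁.unop).hom s) (etmul (wf W f) M 1 m) := by
  have e1 := mcInv_etmul W (f PUnit.unit) f₁ q hf₁ M t s m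
  have e2 := mcHom_etmul W (f PUnit.unit) f₂ q hf₂ M (t * (W.map f₁.unop).hom s) m
  rw [canHom_eq]
  refine (ConcreteCategory.comp_apply _ _ _).trans ?_
  rw [e1]
  exact e2

/-- the underlying map of a morphism of canonical descent data -/
noncomputable def homOf {M₁ M₂ : ModuleCat.{u} (W.obj S.unop)}
    (φ : ((PFof W).toDescentData f).obj M₁ ⟶ ((PFof W).toDescentData f).obj M₂) :
    (ModuleCat.extendScalars (wf W f)).obj M₁ ⟶ (ModuleCat.extendScalars (wf W f)).obj M₂ :=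
  φ.hom PUnit.unit

theorem homOf_map {M₁ M₂ : ModuleCat.{u} (W.obj S.unop)} (v : M₁ ⟶ M₂) :
    homOf W f (((PFof W).toDescentData f).map v) = (ModuleCat.extendScalars (wf W f)).map v := rfl

theorem comm_canHom {M₁ M₂ : ModuleCat.{u} (W.obj S.unop)}
    (φ : ((PFof W).toDescentData f).obj M₁ ⟶ ((PFof W).toDescentData f).obj M₂)
    {Y : CommRingCat.{u}ᵒᵖ} (q : Y ⟶ S) (f₁ f₂ : Y ⟶ X PUnit.unit)
    (hf₁ : f₁ ≫ f PUnit.unit = q) (hf₂ : f₂ ≫ f PUnit.unit = q) :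
    (ModuleCat.extendScalars (W.map f₁.unop).hom).map (homOf W f φ) ≫ canHom W f M₂ q f₁ f₂ hf₁ hf₂ =
      canHom W f M₁ q f₁ f₂ hf₁ hf₂ ≫ (ModuleCat.extendScalars (W.map f₂.unop).hom).map (homOf W f φ) :=
  φ.comm q f₁ f₂ hf₁ hf₂

theorem comm_canHom_apply {M₁ M₂ : ModuleCat.{u} (W.obj S.unop)}
    (φ : ((PFof W).toDescentData f).obj M₁ ⟶ ((PFof W).toDescentData f).obj M₂)
    {Y : CommRingCat.{u}ᵒᵖ} (q : Y ⟶ S) (f₁ f₂ : Y ⟶ X PUnit.unit)
    (hf₁ : f₁ ≫ f PUnit.unit = q) (hf₂ : f₂ ≫ f PUnit.unit = q)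
    (x : (ModuleCat.extendScalars (W.map f₁.unop).hom).obj
      ((ModuleCat.extendScalars (wf W f)).obj M₁)) :
    canHom W f M₂ q f₁ f₂ hf₁ hf₂
        ((ModuleCat.extendScalars (W.map f₁.unop).hom).map (homOf W f φ) x) =
      (ModuleCat.extendScalars (W.map f₂.unop).hom).map (homOf W f φ)
        (canHom W f M₁ q f₁ f₂ hf₁ hf₂ x) := by
  have h1 := comm_canHom W f φ q f₁ f₂ hf₁ hf₂
  exact congr($h1 x)

theorem canHom_one_homOf {M₁ M₂ : ModuleCat.{u} (W.obj S.unop)}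
    (φ : ((PFof W).toDescentData f).obj M₁ ⟶ ((PFof W).toDescentData f).obj M₂)
    {Y : CommRingCat.{u}ᵒᵖ} (q : Y ⟶ S) (f₁ f₂ : Y ⟶ X PUnit.unit)
    (hf₁ : f₁ ≫ f PUnit.unit = q) (hf₂ : f₂ ≫ f PUnit.unit = q) (m : M₁) :
    canHom W f M₂ q f₁ f₂ hf₁ hf₂
      (etmul (W.map f₁.unop).hom ((ModuleCat.extendScalars (wf W f)).obj M₂) 1
        (homOf W f φ (etmul (wf W f) M₁ 1 m))) =
    etmul (W.map f₂.unop).hom ((ModuleCat.extendScalars (wf W f)).obj M₂) 1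
        (homOf W f φ (etmul (wf W f) M₁ 1 m)) := by
  have h2 := comm_canHom_apply W f φ q f₁ f₂ hf₁ hf₂
    (etmul (W.map f₁.unop).hom ((ModuleCat.extendScalars (wf W f)).obj M₁) 1
      (etmul (wf W f) M₁ 1 m))
  rw [canHom_etmul_gen, map_one, mul_one, map_etmul, map_etmul] at h2
  exact h2

theorem wcomp_eq {Y : CommRingCat.{u}ᵒᵖ} (q : Y ⟶ S) (f₁ f₂ : Y ⟶ X PUnit.unit)
    (hf₁ : f₁ ≫ f PUnit.unit = q) (hf₂ : f₂ ≫ f PUnit.unit = q) :
    (W.map f₁.unop).hom.comp (wf W f) = (W.map f₂.unop).hom.comp (wf W f) := by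
  have h1 : (f PUnit.unit).unop ≫ f₁.unop = (f PUnit.unit).unop ≫ f₂.unop := by
    rw [← unop_comp, ← unop_comp, hf₁, hf₂]
  have h2 := congrArg (fun k => (W.map k).hom) h1
  simpa using h2

theorem compInv_canHom (M : ModuleCat.{u} (W.obj S.unop))
    {Y : CommRingCat.{u}ᵒᵖ} (q : Y ⟶ S) (f₁ f₂ : Y ⟶ X PUnit.unit)
    (hf₁ : f₁ ≫ f PUnit.unit = q) (hf₂ : f₂ ≫ f PUnit.unit = q)
    (y : (ModuleCat.extendScalars (wf W f)).obj M) :
    (ModuleCat.extendScalarsComp (wf W f) (W.map f₂.unop).hom).inv.app M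
      (canHom W f M q f₁ f₂ hf₁ hf₂ (etmul (W.map f₁.unop).hom _ 1 y)) =
    P1 (wf W f) (W.map f₁.unop).hom (W.map f₂.unop).hom (wcomp_eq W f q f₁ f₂ hf₁ hf₂) M y := by
  induction y using etmul_induction with
  | h0 => rw [etmul_zero_right, map_zero, map_zero, map_zero]
  | h1 s m =>
    rw [canHom_etmul_gen, one_mul, comp_inv_etmul, map_one, mul_one, P1_etmul]
  | h2 x y hx hy => rw [etmul_add_right, map_add, map_add, hx, hy, map_add]

theorem P1_eq_P2_homOf {M₁ M₂ : ModuleCat.{u} (W.obj S.unop)}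
    (φ : ((PFof W).toDescentData f).obj M₁ ⟶ ((PFof W).toDescentData f).obj M₂)
    {Y : CommRingCat.{u}ᵒᵖ} (q : Y ⟶ S) (f₁ f₂ : Y ⟶ X PUnit.unit)
    (hf₁ : f₁ ≫ f PUnit.unit = q) (hf₂ : f₂ ≫ f PUnit.unit = q) (m : M₁) :
    P1 (wf W f) (W.map f₁.unop).hom (W.map f₂.unop).hom (wcomp_eq W f q f₁ f₂ hf₁ hf₂) M₂
        (homOf W f φ (etmul (wf W f) M₁ 1 m)) =
      P2 (wf W f) (W.map f₂.unop).hom M₂ (homOf W f φ (etmul (wf W f) M₁ 1 m)) := by
  rw [← compInv_canHom W f M₂ q f₁ f₂ hf₁ hf₂, canHom_one_homOf, compInv_etmul_one]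

section Bij

variable {Y₀ : CommRingCat.{u}ᵒᵖ} (q₀ : Y₀ ⟶ S) (f₁ f₂ : Y₀ ⟶ X PUnit.unit)
  (hf₁ : f₁ ≫ f PUnit.unit = q₀) (hf₂ : f₂ ≫ f PUnit.unit = q₀)
  (hinj : Function.Injective (wf W f))
  (hex : ∀ b, (W.map f₁.unop).hom b = (W.map f₂.unop).hom b → ∃ a, wf W f a = b)
  {M N : ModuleCat.{u} (W.obj S.unop)} [Module.Flat (W.obj S.unop) N]

include hinj in
theorem etmul_one_inj (x x' : N)
    (hx : etmul (wf W f) N 1 x = etmul (wf W f) N 1 x') : x = x' := by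
  have : etmul (wf W f) N 1 (x - x') = 0 := by
    rw [sub_eq_add_neg, etmul_add_right, hx, ← etmul_add_right, add_neg_cancel, etmul_zero_right]
  exact sub_eq_zero.mp (etmul_one_eq_zero (wf W f) N hinj _ this)

include hinj in
theorem map_injective (v w : M ⟶ N)
    (hvw : ((PFof W).toDescentData f).map v = ((PFof W).toDescentData f).map w) : v = w := by
  have h1 : (ModuleCat.extendScalars (wf W f)).map v = (ModuleCat.extendScalars (wf W f)).map w := by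
    rw [← homOf_map, ← homOf_map, hvw]
  ext m
  have h2 := congr($h1 (etmul (wf W f) M 1 m))
  rw [map_etmul, map_etmul] at h2
  exact etmul_one_inj W f hinj _ _ h2

include hex hf₁ hf₂ in
theorem exists_pre (φ : ((PFof W).toDescentData f).obj M ⟶ ((PFof W).toDescentData f).obj N)
    (m : M) : ∃ m' : N, homOf W f φ (etmul (wf W f) M 1 m) = etmul (wf W f) N 1 m' :=
  exists_of_P1_eq_P2 (wf W f) (W.map f₁.unop).hom (W.map f₂.unop).hom
    (wcomp_eq W f q₀ f₁ f₂ hf₁ hf₂) N hex _ (P1_eq_P2_homOf W f φ q₀ f₁ f₂ hf₁ hf₂ m)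

/-- the descended map on elements -/
noncomputable def preFun
    (φ : ((PFof W).toDescentData f).obj M ⟶ ((PFof W).toDescentData f).obj N) (m : M) : N :=
  (exists_pre W f q₀ f₁ f₂ hf₁ hf₂ hex φ m).choose

theorem preFun_spec
    (φ : ((PFof W).toDescentData f).obj M ⟶ ((PFof W).toDescentData f).obj N) (m : M) :
    homOf W f φ (etmul (wf W f) M 1 m) =
      etmul (wf W f) N 1 (preFun W f q₀ f₁ f₂ hf₁ hf₂ hex φ m) :=
  (exists_pre W f q₀ f₁ f₂ hf₁ hf₂ hex φ m).choose_spec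

/-- the descended linear map -/
noncomputable def preLin (hinj : Function.Injective (wf W f))
    (φ : ((PFof W).toDescentData f).obj M ⟶ ((PFof W).toDescentData f).obj N) :
    M →ₗ[W.obj S.unop] N where
  toFun := preFun W f q₀ f₁ f₂ hf₁ hf₂ hex φ
  map_add' m m' := by
    apply etmul_one_inj W f hinj
    rw [etmul_add_right, ← preFun_spec, ← preFun_spec, ← preFun_spec, etmul_add_right, map_add]
  map_smul' r m := by
    apply etmul_one_inj W f hinj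
    rw [RingHom.id_apply, ← preFun_spec, ← etmul_smul, mul_one, ← etmul_smul, mul_one,
      etmul_eq_smul_one _ _ (wf W f r) m, map_smul, preFun_spec, smul_etmul, mul_one]

include hinj hex hf₁ hf₂ in
theorem map_surjective
    (φ : ((PFof W).toDescentData f).obj M ⟶ ((PFof W).toDescentData f).obj N) :
    ∃ v : M ⟶ N, ((PFof W).toDescentData f).map v = φ := by
  refine ⟨ModuleCat.ofHom (preLin W f q₀ f₁ f₂ hf₁ hf₂ hex hinj φ), ?_⟩
  ext i
  cases i
  show (ModuleCat.extendScalars (wf W f)).map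
    (ModuleCat.ofHom (preLin W f q₀ f₁ f₂ hf₁ hf₂ hex hinj φ)) = homOf W f φ
  apply ModuleCat.ExtendScalars.hom_ext
  intro m
  show (ModuleCat.extendScalars (wf W f)).map _ (etmul (wf W f) _ 1 m) =
    homOf W f φ (etmul (wf W f) _ 1 m)
  rw [map_etmul, preFun_spec W f q₀ f₁ f₂ hf₁ hf₂ hex]
  rfl

include hinj hex hf₁ hf₂ in
theorem map_bijective :
    Function.Bijective (fun v : M ⟶ N => ((PFof W).toDescentData f).map v) :=
  ⟨fun v w hvw => map_injective W f hinj v w hvw,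
    fun φ => map_surjective W f q₀ f₁ f₂ hf₁ hf₂ hinj hex φ⟩

end Bij

end DD2

end Groth.Agent.Lib27.FunDesc
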