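import Groth.Agent.Lib27.Alg.FunD
set_option autoImplicit false
set_option maxHeartbeats 4000000
set_option synthInstance.maxHeartbeats 400000
universe u
open CategoryTheory CategoryTheory.Limits Opposite TensorProduct ChangeOfRings

namespace Groth.Agent.Lib27.FunDesc

open Groth.Agent.Lib27.ModDesc

variable (W : CommRingCat.{u} ⥤ CommRingCat.{u})

section D3

variable {S : CommRingCat.{u}ᵒᵖ} {X : PUnit.{u + 1} → CommRingCat.{u}ᵒᵖ} {f : ∀ i, X i ⟶ S}
  (D : (PFof W).DescentData f)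

theorem exists_kappa_of_iso (P : ModuleCat.{u} (W.obj S.unop))
    (e : ((PFof W).toDescentData f).obj P ≅ D) :
    ∃ κ : (ModuleCat.extendScalars (wf W f)).obj P ≅ dObj W D,
      ∀ {Y : CommRingCat.{u}ᵒᵖ} (q : Y ⟶ S) (f₁ f₂ : Y ⟶ X PUnit.unit)
      (hf₁ : f₁ ≫ f PUnit.unit = q) (hf₂ : f₂ ≫ f PUnit.unit = q),
      (ModuleCat.extendScalars (W.map f₁.unop).hom).map κ.hom ≫ dH W D q f₁ f₂ hf₁ hf₂ =
      cH W (f := f) P q f₁ f₂ hf₁ hf₂ ≫
        (ModuleCat.extendScalars (W.map f₂.unop).hom).map κ.hom := by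
  refine ⟨⟨e.hom.hom PUnit.unit, e.inv.hom PUnit.unit, ?_, ?_⟩, ?_⟩
  · have := congrArg (fun φ => Pseudofunctor.DescentData.Hom.hom φ PUnit.unit) e.hom_inv_id
    exact this
  · have := congrArg (fun φ => Pseudofunctor.DescentData.Hom.hom φ PUnit.unit) e.inv_hom_id
    exact this
  · intro Y q f₁ f₂ hf₁ hf₂
    rw [dH_def, cH_def]
    exact e.hom.comm q f₁ f₂ hf₁ hf₂

end D3

end Groth.Agent.Lib27.FunDesc
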