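import Groth.Agent.Lib27.Alg.FunPush3
set_option autoImplicit false
set_option maxHeartbeats 4000000
set_option synthInstance.maxHeartbeats 400000
universe u
open CategoryTheory CategoryTheory.Limits Opposite TensorProduct ChangeOfRings

namespace Groth.Agent.Lib27.FunDesc

open Groth.Agent.Lib27.ModDesc

section SemiLin

variable {A B : Type u} [CommRing A] [CommRing B] (φ : A →+* B)
  {J : Type u} [AddCommGroup J] [Module A J] {J' : Type u} [AddCommGroup J'] [Module B J']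
  {E : Type u} [AddCommGroup E] [Module A E] {E' : Type u} [AddCommGroup E'] [Module B E']

/-- `y ⊗ e ↦ j y ⊗ k e` for semilinear maps -/
noncomputable def stMap (j : J →+ J') (k : E →+ E') (hj : ∀ a y, j (a • y) = φ a • j y)
    (hk : ∀ a e, k (a • e) = φ a • k e) : J ⊗[A] E →+ J' ⊗[B] E' :=
  TensorProduct.liftAddHom
    (AddMonoidHom.mk' (fun y => AddMonoidHom.mk' (fun e => j y ⊗ₜ[B] k e)
      (by intro e e'; rw [map_add, tmul_add]))
      (by
        intro y y'
        ext e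
        simp [map_add, add_tmul]))
    (by
      intro a y e
      show j (a • y) ⊗ₜ[B] k e = j y ⊗ₜ[B] k (a • e)
      rw [hj, hk, TensorProduct.smul_tmul])

@[simp] theorem stMap_tmul (j : J →+ J') (k : E →+ E') (hj : ∀ a y, j (a • y) = φ a • j y)
    (hk : ∀ a e, k (a • e) = φ a • k e) (y : J) (e : E) :
    stMap φ j k hj hk (y ⊗ₜ[A] e) = j y ⊗ₜ[B] k e := rfl

end SemiLin

section Incl

variable {A : Type u} [CommRing A] (I : Ideal A) (E : ModuleCat.{u} A)

/-- `y ⊗ e ↦ y • e` -/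
noncomputable def inclI : ↥I ⊗[A] E →ₗ[A] E :=
  (TensorProduct.lid A E).toLinearMap ∘ₗ (Submodule.subtype I).rTensor E

@[simp] theorem inclI_tmul (y : I) (e : E) : inclI I E (y ⊗ₜ[A] e) = (y : A) • e := by
  simp [inclI]

theorem inclI_injective [Module.Flat A E] : Function.Injective (inclI I E) := by
  have h1 : Function.Injective ((Submodule.subtype I).rTensor E) :=
    Module.Flat.rTensor_preserves_injective_linearMap _ (Submodule.injective_subtype I)
  exact (TensorProduct.lid A E).injective.comp h1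

end Incl

/-- a natural family of ideals -/
structure IdFam (W : CommRingCat.{u} ⥤ CommRingCat.{u}) where
  /-- the ideals -/
  I : ∀ T : CommRingCat.{u}, Ideal (W.obj T)
  nat : ∀ {T T' : CommRingCat.{u}} (h : T ⟶ T') (x : W.obj T), x ∈ I T → (W.map h).hom x ∈ I T'

namespace IdFam

variable {W : CommRingCat.{u} ⥤ CommRingCat.{u}} (J : IdFam W)

/-- transition maps -/
noncomputable def map {T T' : CommRingCat.{u}} (h : T ⟶ T') : ↥(J.I T) →+ ↥(J.I T') where
  toFun y := ⟨(W.map h).hom y, J.nat h y y.2⟩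
  map_zero' := Subtype.ext (map_zero _)
  map_add' y y' := Subtype.ext (map_add _ _ _)

@[simp] theorem coe_map {T T' : CommRingCat.{u}} (h : T ⟶ T') (y : J.I T) :
    ((J.map h y : J.I T') : W.obj T') = (W.map h).hom y := rfl

theorem map_smul {T T' : CommRingCat.{u}} (h : T ⟶ T') (a : W.obj T) (y : J.I T) :
    J.map h (a • y) = (W.map h).hom a • J.map h y :=
  Subtype.ext (map_mul _ _ _)

end IdFam

variable {W : CommRingCat.{u} ⥤ CommRingCat.{u}}

section JE

variable (J : IdFam W) {Xu : CommRingCat.{u}ᵒᵖ} (N : ModuleCat.{u} (W.obj Xu.unop))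

/-- `J(Y) ⊗ (W(Y) ⊗ N)` -/
abbrev JE {Y : CommRingCat.{u}ᵒᵖ} (a : Y ⟶ Xu) : Type u :=
  ↥(J.I Y.unop) ⊗[W.obj Y.unop] ((ModuleCat.extendScalars (W.map a.unop).hom).obj N)

/-- base change on `J ⊗ E` -/
noncomputable def bcJ {Y Y' : CommRingCat.{u}ᵒᵖ} (a : Y ⟶ Xu) (g : Y' ⟶ Y) (ga : Y' ⟶ Xu)
    (h : g ≫ a = ga) : JE J N a →+ JE J N ga :=
  stMap (W.map g.unop).hom (J.map g.unop) (bc W N a g ga h) (J.map_smul g.unop)
    (bc_smul W N a g ga h)

@[simp] theorem bcJ_tmul {Y Y' : CommRingCat.{u}ᵒᵖ} (a : Y ⟶ Xu) (g : Y' ⟶ Y) (ga : Y' ⟶ Xu)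
    (h : g ≫ a = ga) (y : J.I Y.unop) (e : (ModuleCat.extendScalars (W.map a.unop).hom).obj N) :
    bcJ J N a g ga h (y ⊗ₜ e) = J.map g.unop y ⊗ₜ bc W N a g ga h e := rfl

/-- unit map on `J ⊗ N` -/
noncomputable def uJ {Y : CommRingCat.{u}ᵒᵖ} (a : Y ⟶ Xu) :
    ↥(J.I Xu.unop) ⊗[W.obj Xu.unop] N →+ JE J N a :=
  stMap (W.map a.unop).hom (J.map a.unop) (etmulAdd (W.map a.unop).hom N 1) (J.map_smul a.unop)
    (fun s n => etmul_one_smul (W.map a.unop).hom N s n)

@[simp] theorem uJ_tmul {Y : CommRingCat.{u}ᵒᵖ} (a : Y ⟶ Xu) (y : J.I Xu.unop) (n : N) :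
    uJ J N a (y ⊗ₜ n) = J.map a.unop y ⊗ₜ etmul (W.map a.unop).hom N 1 n := rfl

/-- inclusion `J ⊗ E → E` -/
noncomputable def inclJ {Y : CommRingCat.{u}ᵒᵖ} (a : Y ⟶ Xu) :
    JE J N a →ₗ[W.obj Y.unop] (ModuleCat.extendScalars (W.map a.unop).hom).obj N :=
  inclI (J.I Y.unop) _

theorem inclJ_bcJ {Y Y' : CommRingCat.{u}ᵒᵖ} (a : Y ⟶ Xu) (g : Y' ⟶ Y) (ga : Y' ⟶ Xu)
    (h : g ≫ a = ga) (z : JE J N a) :
    inclJ J N ga (bcJ J N a g ga h z) = bc W N a g ga h (inclJ J N a z) := by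
  induction z using TensorProduct.induction_on with
  | zero => simp
  | tmul y e =>
    rw [bcJ_tmul, inclJ, inclJ, inclI_tmul, inclI_tmul, bc_smul]
    rfl
  | add x y hx hy => rw [map_add, map_add, hx, hy, map_add, map_add]

theorem inclJ_uJ {Y : CommRingCat.{u}ᵒᵖ} (a : Y ⟶ Xu) (z : ↥(J.I Xu.unop) ⊗[W.obj Xu.unop] N) :
    inclJ J N a (uJ J N a z) = etmul (W.map a.unop).hom N 1 (inclI (J.I Xu.unop) N z) := by
  induction z using TensorProduct.induction_on with
  | zero => simp [etmul_zero_right]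
  | tmul y n =>
    rw [uJ_tmul, inclJ, inclI_tmul, inclI_tmul, etmul_one_smul]
    rfl
  | add x y hx hy => rw [map_add, map_add, hx, hy, map_add, etmul_add_right]

theorem inclJ_lTensor {Y : CommRingCat.{u}ᵒᵖ} (a₁ a₂ : Y ⟶ Xu)
    (φ : (ModuleCat.extendScalars (W.map a₁.unop).hom).obj N ⟶
      (ModuleCat.extendScalars (W.map a₂.unop).hom).obj N) (z : JE J N a₁) :
    inclJ J N a₂ (LinearMap.lTensor _ φ.hom z) = φ (inclJ J N a₁ z) := by
  induction z using TensorProduct.induction_on with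
  | zero => simp
  | tmul y e =>
    rw [LinearMap.lTensor_tmul, inclJ, inclJ, inclI_tmul, inclI_tmul, map_smul]
  | add x y hx hy => rw [map_add, map_add, hx, hy, map_add, map_add]

end JE

end Groth.Agent.Lib27.FunDesc
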