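import Groth.Agent.Lib27.Alg.FunLift
set_option autoImplicit false
set_option maxHeartbeats 4000000
set_option synthInstance.maxHeartbeats 400000
universe u
open CategoryTheory CategoryTheory.Limits Opposite TensorProduct ChangeOfRings

namespace Groth.Agent.Lib27.FunDesc

open Groth.Agent.Lib27.ModDesc

/-- the double and triple "intersections" of a one-element cover -/
structure Cov {S : CommRingCat.{u}ᵒᵖ} {X : PUnit.{u + 1} → CommRingCat.{u}ᵒᵖ}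
    (f : ∀ i, X i ⟶ S) where
  Y₀ : CommRingCat.{u}ᵒᵖ
  q₀ : Y₀ ⟶ S
  i₁ : Y₀ ⟶ X PUnit.unit
  i₂ : Y₀ ⟶ X PUnit.unit
  hi₁ : i₁ ≫ f PUnit.unit = q₀
  hi₂ : i₂ ≫ f PUnit.unit = q₀
  Z₀ : CommRingCat.{u}ᵒᵖ
  r₀ : Z₀ ⟶ S
  j₁ : Z₀ ⟶ X PUnit.unit
  j₂ : Z₀ ⟶ X PUnit.unit
  j₃ : Z₀ ⟶ X PUnit.unit
  hj₁ : j₁ ≫ f PUnit.unit = r₀
  hj₂ : j₂ ≫ f PUnit.unit = r₀
  hj₃ : j₃ ≫ f PUnit.unit = r₀
  p₁₂ : Z₀ ⟶ Y₀
  p₁₃ : Z₀ ⟶ Y₀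
  p₂₃ : Z₀ ⟶ Y₀
  h121 : p₁₂ ≫ i₁ = j₁
  h122 : p₁₂ ≫ i₂ = j₂
  h131 : p₁₃ ≫ i₁ = j₁
  h133 : p₁₃ ≫ i₂ = j₃
  h232 : p₂₃ ≫ i₁ = j₂
  h233 : p₂₃ ≫ i₂ = j₃
  univ : ∀ {Y : CommRingCat.{u}ᵒᵖ} (f₁ f₂ : Y ⟶ X PUnit.unit),
      f₁ ≫ f PUnit.unit = f₂ ≫ f PUnit.unit → ∃ g : Y ⟶ Y₀, g ≫ i₁ = f₁ ∧ g ≫ i₂ = f₂

namespace Cov

variable {S : CommRingCat.{u}ᵒᵖ} {X : PUnit.{u + 1} → CommRingCat.{u}ᵒᵖ} {f : ∀ i, X i ⟶ S}
  (C : Cov f)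

theorem hq12 : C.p₁₂ ≫ C.q₀ = C.r₀ := by
  rw [← C.hi₁, ← Category.assoc, C.h121, C.hj₁]

theorem hq13 : C.p₁₃ ≫ C.q₀ = C.r₀ := by
  rw [← C.hi₁, ← Category.assoc, C.h131, C.hj₁]

theorem hq23 : C.p₂₃ ≫ C.q₀ = C.r₀ := by
  rw [← C.hi₁, ← Category.assoc, C.h232, C.hj₂]

end Cov

variable (W : CommRingCat.{u} ⥤ CommRingCat.{u})

section Cx

variable {S : CommRingCat.{u}ᵒᵖ} {X : PUnit.{u + 1} → CommRingCat.{u}ᵒᵖ} {f : ∀ i, X i ⟶ S}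
  (D : (PFof W).DescentData f) (C : Cov f)

/-- the first differential of the twisted complex -/
noncomputable def delta : dObj W D →+ (ModuleCat.extendScalars (W.map C.i₂.unop).hom).obj (dObj W D) :=
  (dH W D C.q₀ C.i₁ C.i₂ C.hi₁ C.hi₂).hom.toAddMonoidHom.comp
      (etmulAdd (W.map C.i₁.unop).hom (dObj W D) 1) -
    etmulAdd (W.map C.i₂.unop).hom (dObj W D) 1

theorem delta_apply (m : dObj W D) :
    delta W D C m = dH W D C.q₀ C.i₁ C.i₂ C.hi₁ C.hi₂ (etmul (W.map C.i₁.unop).hom (dObj W D) 1 m) -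
      etmul (W.map C.i₂.unop).hom (dObj W D) 1 m := rfl

/-- the second differential of the twisted complex -/
noncomputable def bdry : (ModuleCat.extendScalars (W.map C.i₂.unop).hom).obj (dObj W D) →+
    (ModuleCat.extendScalars (W.map C.j₃.unop).hom).obj (dObj W D) :=
  (dH W D C.r₀ C.j₂ C.j₃ C.hj₂ C.hj₃).hom.toAddMonoidHom.comp
      (bc W (dObj W D) C.i₂ C.p₁₂ C.j₂ C.h122) -
    bc W (dObj W D) C.i₂ C.p₁₃ C.j₃ C.h133 + bc W (dObj W D) C.i₂ C.p₂₃ C.j₃ C.h233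

theorem bdry_apply (e : (ModuleCat.extendScalars (W.map C.i₂.unop).hom).obj (dObj W D)) :
    bdry W D C e = dH W D C.r₀ C.j₂ C.j₃ C.hj₂ C.hj₃ (bc W (dObj W D) C.i₂ C.p₁₂ C.j₂ C.h122 e) -
      bc W (dObj W D) C.i₂ C.p₁₃ C.j₃ C.h133 e + bc W (dObj W D) C.i₂ C.p₂₃ C.j₃ C.h233 e := rfl

theorem bdry_delta (m : dObj W D) : bdry W D C (delta W D C m) = 0 := by
  have e12 : bc W (dObj W D) C.i₂ C.p₁₂ C.j₂ C.h122 (delta W D C m) =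
      dH W D C.r₀ C.j₁ C.j₂ C.hj₁ C.hj₂ (etmul (W.map C.j₁.unop).hom (dObj W D) 1 m) -
        etmul (W.map C.j₂.unop).hom (dObj W D) 1 m := by
    rw [delta_apply, map_sub,
      ← dH_bc W D C.p₁₂ C.q₀ C.r₀ C.hq12 C.i₁ C.i₂ C.hi₁ C.hi₂ C.j₁ C.j₂ C.h121 C.h122 C.hj₁ C.hj₂,
      bc_etmul, bc_etmul, map_one]
  have e13 : bc W (dObj W D) C.i₂ C.p₁₃ C.j₃ C.h133 (delta W D C m) =
      dH W D C.r₀ C.j₁ C.j₃ C.hj₁ C.hj₃ (etmul (W.map C.j₁.unop).hom (dObj W D) 1 m) -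
        etmul (W.map C.j₃.unop).hom (dObj W D) 1 m := by
    rw [delta_apply, map_sub,
      ← dH_bc W D C.p₁₃ C.q₀ C.r₀ C.hq13 C.i₁ C.i₂ C.hi₁ C.hi₂ C.j₁ C.j₃ C.h131 C.h133 C.hj₁ C.hj₃,
      bc_etmul, bc_etmul, map_one]
  have e23 : bc W (dObj W D) C.i₂ C.p₂₃ C.j₃ C.h233 (delta W D C m) =
      dH W D C.r₀ C.j₂ C.j₃ C.hj₂ C.hj₃ (etmul (W.map C.j₂.unop).hom (dObj W D) 1 m) -
        etmul (W.map C.j₃.unop).hom (dObj W D) 1 m := by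
    rw [delta_apply, map_sub,
      ← dH_bc W D C.p₂₃ C.q₀ C.r₀ C.hq23 C.i₁ C.i₂ C.hi₁ C.hi₂ C.j₂ C.j₃ C.h232 C.h233 C.hj₂ C.hj₃,
      bc_etmul, bc_etmul, map_one]
  rw [bdry_apply, e12, e13, e23, map_sub, dH_comp_apply]
  abel

/-- vanishing of the first cohomology of the twisted complex -/
def H1van : Prop :=
  ∀ e : (ModuleCat.extendScalars (W.map C.i₂.unop).hom).obj (dObj W D),
    bdry W D C e = 0 → ∃ m : dObj W D, delta W D C m = e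

theorem isInv_of_delta (m : dObj W D) (h : delta W D C m = 0) : IsInv W D m :=
  isInv_of_universal W D C.q₀ C.i₁ C.i₂ C.hi₁ C.hi₂ C.univ m
    (sub_eq_zero.mp ((delta_apply W D C m).symm.trans h))

theorem delta_of_isInv (m : dObj W D) (h : IsInv W D m) : delta W D C m = 0 := by
  rw [delta_apply, h C.q₀ C.i₁ C.i₂ C.hi₁ C.hi₂, sub_self]

variable (J : IdFam W)

/-- `delta` with coefficients in `J` -/
noncomputable def deltaJ :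
    ↥(J.I (X PUnit.unit).unop) ⊗[W.obj (X PUnit.unit).unop] (dObj W D) →+ JE J (dObj W D) C.i₂ :=
  (LinearMap.lTensor _ (dH W D C.q₀ C.i₁ C.i₂ C.hi₁ C.hi₂).hom).toAddMonoidHom.comp
      (uJ J (dObj W D) C.i₁) - uJ J (dObj W D) C.i₂

/-- `bdry` with coefficients in `J` -/
noncomputable def bdryJ : JE J (dObj W D) C.i₂ →+ JE J (dObj W D) C.j₃ :=
  (LinearMap.lTensor _ (dH W D C.r₀ C.j₂ C.j₃ C.hj₂ C.hj₃).hom).toAddMonoidHom.comp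
      (bcJ J (dObj W D) C.i₂ C.p₁₂ C.j₂ C.h122) -
    bcJ J (dObj W D) C.i₂ C.p₁₃ C.j₃ C.h133 + bcJ J (dObj W D) C.i₂ C.p₂₃ C.j₃ C.h233

theorem inclJ_deltaJ (z : ↥(J.I (X PUnit.unit).unop) ⊗[W.obj (X PUnit.unit).unop] (dObj W D)) :
    inclJ J (dObj W D) C.i₂ (deltaJ W D C J z) =
      delta W D C (inclI (J.I (X PUnit.unit).unop) (dObj W D) z) := by
  have h1 : deltaJ W D C J z =
      LinearMap.lTensor _ (dH W D C.q₀ C.i₁ C.i₂ C.hi₁ C.hi₂).hom (uJ J (dObj W D) C.i₁ z) -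
        uJ J (dObj W D) C.i₂ z := rfl
  rw [h1, map_sub, inclJ_lTensor, inclJ_uJ, inclJ_uJ, delta_apply]

theorem inclJ_bdryJ (z : JE J (dObj W D) C.i₂) :
    inclJ J (dObj W D) C.j₃ (bdryJ W D C J z) = bdry W D C (inclJ J (dObj W D) C.i₂ z) := by
  have h1 : bdryJ W D C J z =
      LinearMap.lTensor _ (dH W D C.r₀ C.j₂ C.j₃ C.hj₂ C.hj₃).hom
        (bcJ J (dObj W D) C.i₂ C.p₁₂ C.j₂ C.h122 z) -
      bcJ J (dObj W D) C.i₂ C.p₁₃ C.j₃ C.h133 z + bcJ J (dObj W D) C.i₂ C.p₂₃ C.j₃ C.h233 z := rfl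
  rw [h1, map_add, map_sub, inclJ_lTensor, inclJ_bcJ, inclJ_bcJ, inclJ_bcJ, bdry_apply]

end Cx

end Groth.Agent.Lib27.FunDesc
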