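import Groth.Agent.Lib27.Alg.FunD
set_option autoImplicit false
set_option maxHeartbeats 4000000
set_option synthInstance.maxHeartbeats 400000
universe u
open CategoryTheory CategoryTheory.Limits Opposite TensorProduct ChangeOfRings

namespace Groth.Agent.Lib27.FunDesc

open Groth.Agent.Lib27.ModDesc

theorem hom_ext2 {A B C : Type u} [CommRing A] [CommRing B] [CommRing C] (g₁ : A →+* B)
    (g₂ : B →+* C) {M : ModuleCat.{u} A} {Q : ModuleCat.{u} C}
    (α β : (ModuleCat.extendScalars g₂).obj ((ModuleCat.extendScalars g₁).obj M) ⟶ Q)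
    (h : ∀ m : M, α (etmul g₂ _ 1 (etmul g₁ M 1 m)) = β (etmul g₂ _ 1 (etmul g₁ M 1 m))) :
    α = β := by
  apply ModuleCat.ExtendScalars.hom_ext
  intro x
  change α (etmul g₂ _ 1 x) = β (etmul g₂ _ 1 x)
  induction x using etmul_induction with
  | h0 => rw [etmul_zero_right, map_zero, map_zero]
  | h1 s m =>
    rw [etmul_eq_smul_one g₁ M s m, etmul_one_smul, map_smul, map_smul, h]
  | h2 x y hx hy => rw [etmul_add_right, map_add, map_add, hx, hy]

/-- iso version of `m2Hom` -/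
noncomputable def m2Iso {A B : CommRingCat.{u}} (a b : A ⟶ B) (h : a = b) (N : ModuleCat.{u} A) :
    (ModuleCat.extendScalars a.hom).obj N ≅ (ModuleCat.extendScalars b.hom).obj N where
  hom := m2Hom a b h N
  inv := m2Hom b a h.symm N
  hom_inv_id := by
    subst h
    simp [m2Hom]
    exact Category.id_comp _
  inv_hom_id := by
    subst h
    simp [m2Hom]
    exact Category.id_comp _

variable {W Wb : CommRingCat.{u} ⥤ CommRingCat.{u}} (τ : W ⟶ Wb)

/-- the components of `τ` as ring maps -/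
noncomputable abbrev tauR (T : CommRingCat.{u}) : W.obj T →+* Wb.obj T := (τ.app T).hom

theorem tau_nat {T T' : CommRingCat.{u}} (h : T ⟶ T') (x : W.obj T) :
    tauR τ T' ((W.map h).hom x) = (Wb.map h).hom (tauR τ T x) := by
  have := τ.naturality h
  exact congr($this x)

section Push

variable {Xu : CommRingCat.{u}ᵒᵖ} (M : ModuleCat.{u} (W.obj Xu.unop))

/-- the pushed-forward module -/
noncomputable abbrev pushObj : ModuleCat.{u} (Wb.obj Xu.unop) :=
  (ModuleCat.extendScalars (tauR τ Xu.unop)).obj M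

/-- `t ⊗ m ↦ τ t ⊗ (1 ⊗ m)` -/
noncomputable def tstar {Y : CommRingCat.{u}ᵒᵖ} (a : Y ⟶ Xu) :
    (ModuleCat.extendScalars (W.map a.unop).hom).obj M →+
      (ModuleCat.extendScalars (Wb.map a.unop).hom).obj (pushObj τ M) :=
  elift (AddMonoidHom.mk' (fun t : W.obj Y.unop =>
      (etmulAdd (Wb.map a.unop).hom (pushObj τ M) (tauR τ Y.unop t)).comp
        (etmulAdd (tauR τ Xu.unop) M 1))
    (by
      intro t t'
      ext m
      simp [etmul_add_left]))
    (by
      intro s t m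
      show etmul (Wb.map a.unop).hom (pushObj τ M) (tauR τ Y.unop ((W.map a.unop).hom s * t))
          (etmul (tauR τ Xu.unop) M 1 m) =
        etmul (Wb.map a.unop).hom (pushObj τ M) (tauR τ Y.unop t)
          (etmul (tauR τ Xu.unop) M 1 (s • m))
      rw [map_mul, tau_nat, etmul_smul, smul_etmul, mul_one, ← etmul_smul (g := tauR τ Xu.unop),
        mul_one])

theorem tstar_etmul {Y : CommRingCat.{u}ᵒᵖ} (a : Y ⟶ Xu) (t : W.obj Y.unop) (m : M) :
    tstar τ M a (etmul (W.map a.unop).hom M t m) =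
      etmul (Wb.map a.unop).hom (pushObj τ M) (tauR τ Y.unop t)
        (etmul (tauR τ Xu.unop) M 1 m) := rfl

theorem tstar_smul {Y : CommRingCat.{u}ᵒᵖ} (a : Y ⟶ Xu) (t : W.obj Y.unop)
    (y : (ModuleCat.extendScalars (W.map a.unop).hom).obj M) :
    tstar τ M a (t • y) = tauR τ Y.unop t • tstar τ M a y := by
  induction y using etmul_induction with
  | h0 => rw [smul_zero, map_zero, smul_zero]
  | h1 s m => rw [smul_etmul, tstar_etmul, tstar_etmul, smul_etmul, map_mul]
  | h2 x y hx hy => rw [smul_add, map_add, hx, hy, map_add, smul_add]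

theorem tstar_bc {Y Y' : CommRingCat.{u}ᵒᵖ} (a : Y ⟶ Xu) (g : Y' ⟶ Y) (ga : Y' ⟶ Xu)
    (h : g ≫ a = ga) (y : (ModuleCat.extendScalars (W.map a.unop).hom).obj M) :
    tstar τ M ga (bc W M a g ga h y) = bc Wb (pushObj τ M) a g ga h (tstar τ M a y) := by
  induction y using etmul_induction with
  | h0 => rw [map_zero, map_zero, map_zero, map_zero]
  | h1 s m => rw [bc_etmul, tstar_etmul, tstar_etmul, bc_etmul, tau_nat]
  | h2 x y hx hy => rw [map_add, map_add, hx, hy, map_add, map_add]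

/-- the canonical isomorphism `Wb(Y) ⊗ (Wb(X) ⊗ M) ≅ Wb(Y) ⊗ (W(Y) ⊗ M)` -/
noncomputable def swapIso {Y : CommRingCat.{u}ᵒᵖ} (a : Y ⟶ Xu) :
    (ModuleCat.extendScalars (Wb.map a.unop).hom).obj (pushObj τ M) ≅
      (ModuleCat.extendScalars (tauR τ Y.unop)).obj
        ((ModuleCat.extendScalars (W.map a.unop).hom).obj M) :=
  ((ModuleCat.extendScalarsComp (tauR τ Xu.unop) (Wb.map a.unop).hom).app M).symm ≪≫
    m2Iso (τ.app Xu.unop ≫ Wb.map a.unop) (W.map a.unop ≫ τ.app Y.unop)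
      (τ.naturality a.unop).symm M ≪≫
    (ModuleCat.extendScalarsComp (W.map a.unop).hom (tauR τ Y.unop)).app M

theorem swapIso_hom_etmul {Y : CommRingCat.{u}ᵒᵖ} (a : Y ⟶ Xu) (c : Wb.obj Y.unop)
    (s : Wb.obj Xu.unop) (m : M) :
    (swapIso τ M a).hom (etmul (Wb.map a.unop).hom (pushObj τ M) c
        (etmul (tauR τ Xu.unop) M s m)) =
      etmul (tauR τ Y.unop) _ (c * (Wb.map a.unop).hom s) (etmul (W.map a.unop).hom M 1 m) := by
  have e1 := comp_inv_etmul (tauR τ Xu.unop) (Wb.map a.unop).hom M c s m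
  have e2 := m2Hom_etmul (τ.app Xu.unop ≫ Wb.map a.unop) (W.map a.unop ≫ τ.app Y.unop)
      (τ.naturality a.unop).symm M (c * (Wb.map a.unop).hom s) m
  have e3 := comp_hom_etmul (W.map a.unop).hom (tauR τ Y.unop) M (c * (Wb.map a.unop).hom s) m
  simp only [swapIso, Iso.trans_hom, Iso.symm_hom, Iso.app_inv, Iso.app_hom, m2Iso]
  refine (ConcreteCategory.comp_apply _ _ _).trans ?_
  refine (ConcreteCategory.comp_apply _ _ _).trans ?_
  rw [e1]
  exact (congrArg _ e2).trans e3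

theorem swapIso_hom_tstar {Y : CommRingCat.{u}ᵒᵖ} (a : Y ⟶ Xu)
    (y : (ModuleCat.extendScalars (W.map a.unop).hom).obj M) :
    (swapIso τ M a).hom (tstar τ M a y) = etmul (tauR τ Y.unop) _ 1 y := by
  induction y using etmul_induction with
  | h0 => rw [map_zero, map_zero, etmul_zero_right]
  | h1 t m =>
    rw [tstar_etmul, swapIso_hom_etmul, map_one, mul_one, etmul_eq_smul_one (W.map a.unop).hom M t m,
      etmul_one_smul, smul_etmul, mul_one]
  | h2 x y hx hy => rw [map_add, map_add, hx, hy, etmul_add_right]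

theorem swapIso_inv_one {Y : CommRingCat.{u}ᵒᵖ} (a : Y ⟶ Xu)
    (y : (ModuleCat.extendScalars (W.map a.unop).hom).obj M) :
    (swapIso τ M a).inv (etmul (tauR τ Y.unop) _ 1 y) = tstar τ M a y := by
  rw [← swapIso_hom_tstar]
  exact congr($((swapIso τ M a).hom_inv_id) _)

/-- push a linear map forward along `τ` -/
noncomputable def pushMap {Y : CommRingCat.{u}ᵒᵖ} (a₁ a₂ : Y ⟶ Xu)
    (φ : (ModuleCat.extendScalars (W.map a₁.unop).hom).obj M ⟶
      (ModuleCat.extendScalars (W.map a₂.unop).hom).obj M) :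
    (ModuleCat.extendScalars (Wb.map a₁.unop).hom).obj (pushObj τ M) ⟶
      (ModuleCat.extendScalars (Wb.map a₂.unop).hom).obj (pushObj τ M) :=
  (swapIso τ M a₁).hom ≫ (ModuleCat.extendScalars (tauR τ Y.unop)).map φ ≫ (swapIso τ M a₂).inv

theorem pushMap_id {Y : CommRingCat.{u}ᵒᵖ} (a : Y ⟶ Xu) : pushMap τ M a a (𝟙 _) = 𝟙 _ := by
  simp [pushMap]

theorem pushMap_comp {Y : CommRingCat.{u}ᵒᵖ} (a₁ a₂ a₃ : Y ⟶ Xu)
    (φ : (ModuleCat.extendScalars (W.map a₁.unop).hom).obj M ⟶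
      (ModuleCat.extendScalars (W.map a₂.unop).hom).obj M)
    (ψ : (ModuleCat.extendScalars (W.map a₂.unop).hom).obj M ⟶
      (ModuleCat.extendScalars (W.map a₃.unop).hom).obj M) :
    pushMap τ M a₁ a₂ φ ≫ pushMap τ M a₂ a₃ ψ = pushMap τ M a₁ a₃ (φ ≫ ψ) := by
  simp [pushMap]

theorem pushMap_tstar {Y : CommRingCat.{u}ᵒᵖ} (a₁ a₂ : Y ⟶ Xu)
    (φ : (ModuleCat.extendScalars (W.map a₁.unop).hom).obj M ⟶
      (ModuleCat.extendScalars (W.map a₂.unop).hom).obj M)
    (y : (ModuleCat.extendScalars (W.map a₁.unop).hom).obj M) :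
    pushMap τ M a₁ a₂ φ (tstar τ M a₁ y) = tstar τ M a₂ (φ y) := by
  unfold pushMap
  refine (ConcreteCategory.comp_apply _ _ _).trans ?_
  refine (ConcreteCategory.comp_apply _ _ _).trans ?_
  rw [swapIso_hom_tstar, map_etmul, swapIso_inv_one]

theorem tstar_one_one {Y : CommRingCat.{u}ᵒᵖ} (a : Y ⟶ Xu) (m : M) :
    etmul (Wb.map a.unop).hom (pushObj τ M) 1 (etmul (tauR τ Xu.unop) M 1 m) =
      tstar τ M a (etmul (W.map a.unop).hom M 1 m) := by
  rw [tstar_etmul, map_one]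

end Push

end Groth.Agent.Lib27.FunDesc
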