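import Groth.Agent.Lib27.Alg.FunPush
set_option autoImplicit false
set_option maxHeartbeats 4000000
set_option synthInstance.maxHeartbeats 400000
universe u
open CategoryTheory CategoryTheory.Limits Opposite TensorProduct ChangeOfRings

namespace Groth.Agent.Lib27.FunDesc

open Groth.Agent.Lib27.ModDesc

variable {W Wb : CommRingCat.{u} ⥤ CommRingCat.{u}} (τ : W ⟶ Wb)

section PushD

variable {S : CommRingCat.{u}ᵒᵖ} {X : PUnit.{u + 1} → CommRingCat.{u}ᵒᵖ} {f : ∀ i, X i ⟶ S}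
  (D : (PFof W).DescentData f)

theorem push_pull {Y' Y : CommRingCat.{u}ᵒᵖ} (g : Y' ⟶ Y) (q : Y ⟶ S) (q' : Y' ⟶ S)
    (hq : g ≫ q = q') (f₁ f₂ : Y ⟶ X PUnit.unit)
    (hf₁ : f₁ ≫ f PUnit.unit = q) (hf₂ : f₂ ≫ f PUnit.unit = q)
    (gf₁ gf₂ : Y' ⟶ X PUnit.unit) (hgf₁ : g ≫ f₁ = gf₁) (hgf₂ : g ≫ f₂ = gf₂)
    (hgf₁' : gf₁ ≫ f PUnit.unit = q') (hgf₂' : gf₂ ≫ f PUnit.unit = q') :
    mH Wb (pushObj τ (dObj W D)) f₁ g gf₁ hgf₁ ≫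
      (ModuleCat.extendScalars (Wb.map g.unop).hom).map
        (pushMap τ (dObj W D) f₁ f₂ (dH W D q f₁ f₂ hf₁ hf₂)) ≫
      mI Wb (pushObj τ (dObj W D)) f₂ g gf₂ hgf₂ =
    pushMap τ (dObj W D) gf₁ gf₂ (dH W D q' gf₁ gf₂ hgf₁' hgf₂') := by
  apply hom_ext2 (tauR τ (X PUnit.unit).unop) (Wb.map gf₁.unop).hom
  intro m
  refine (ConcreteCategory.comp_apply _ _ _).trans ?_
  refine (ConcreteCategory.comp_apply _ _ _).trans ?_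
  rw [mH_etmul, map_etmul, tstar_one_one, pushMap_tstar, ← bc_apply, ← tstar_bc,
    ← dH_bc W D g q q' hq f₁ f₂ hf₁ hf₂ gf₁ gf₂ hgf₁ hgf₂ hgf₁' hgf₂', bc_etmul, map_one,
    tstar_one_one, pushMap_tstar]

theorem push_self {Y : CommRingCat.{u}ᵒᵖ} (q : Y ⟶ S) (g : Y ⟶ X PUnit.unit)
    (hg : g ≫ f PUnit.unit = q) :
    pushMap τ (dObj W D) g g (dH W D q g g hg hg) = 𝟙 _ := by
  rw [dH_self, pushMap_id]

theorem push_comp {Y : CommRingCat.{u}ᵒᵖ} (q : Y ⟶ S) (f₁ f₂ f₃ : Y ⟶ X PUnit.unit)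
    (hf₁ : f₁ ≫ f PUnit.unit = q) (hf₂ : f₂ ≫ f PUnit.unit = q) (hf₃ : f₃ ≫ f PUnit.unit = q) :
    pushMap τ (dObj W D) f₁ f₂ (dH W D q f₁ f₂ hf₁ hf₂) ≫
      pushMap τ (dObj W D) f₂ f₃ (dH W D q f₂ f₃ hf₂ hf₃) =
    pushMap τ (dObj W D) f₁ f₃ (dH W D q f₁ f₃ hf₁ hf₃) := by
  rw [pushMap_comp, dH_comp]

/-- the pushed-forward descent datum -/
noncomputable def pushD : (PFof Wb).DescentData f where
  obj _ := pushObj τ (dObj W D)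
  hom Y q i₁ i₂ f₁ f₂ hf₁ hf₂ := pushMap τ (dObj W D) f₁ f₂ (dH W D q f₁ f₂ hf₁ hf₂)
  pullHom_hom Y' Y g q q' hq i₁ i₂ f₁ f₂ hf₁ hf₂ gf₁ gf₂ hgf₁ hgf₂ := by
    have h := push_pull τ D g q q' hq f₁ f₂ hf₁ hf₂ gf₁ gf₂ hgf₁ hgf₂
      (by rw [← hgf₁, Category.assoc, hf₁, hq]) (by rw [← hgf₂, Category.assoc, hf₂, hq])
    rw [mH_def, mI_def] at h
    exact h
  hom_self Y q i g hg := push_self τ D q g hg
  hom_comp Y q i₁ i₂ i₃ f₁ f₂ f₃ hf₁ hf₂ hf₃ := push_comp τ D q f₁ f₂ f₃ hf₁ hf₂ hf₃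

end PushD

end Groth.Agent.Lib27.FunDesc
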