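import Groth.Agent.Lib27.Alg.FunPush2
set_option autoImplicit false
set_option maxHeartbeats 4000000
set_option synthInstance.maxHeartbeats 400000
universe u
open CategoryTheory CategoryTheory.Limits Opposite TensorProduct ChangeOfRings

namespace Groth.Agent.Lib27.FunDesc

open Groth.Agent.Lib27.ModDesc

variable {W Wb : CommRingCat.{u} ⥤ CommRingCat.{u}} (τ : W ⟶ Wb)

section PushD

variable {S : CommRingCat.{u}ᵒᵖ} {X : PUnit.{u + 1} → CommRingCat.{u}ᵒᵖ} {f : ∀ i, X i ⟶ S}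
  (D : (PFof W).DescentData f)

/-- `Db` is a push-forward of `D` along `τ` -/
structure PushRel (Db : (PFof Wb).DescentData f) where
  /-- the identification of underlying modules -/
  iota : pushObj τ (dObj W D) ≅ dObj Wb Db
  spec : ∀ {Y : CommRingCat.{u}ᵒᵖ} (q : Y ⟶ S) (f₁ f₂ : Y ⟶ X PUnit.unit)
    (hf₁ : f₁ ≫ f PUnit.unit = q) (hf₂ : f₂ ≫ f PUnit.unit = q)
    (y : (ModuleCat.extendScalars (W.map f₁.unop).hom).obj (dObj W D)),
    dH Wb Db q f₁ f₂ hf₁ hf₂ ((ModuleCat.extendScalars (Wb.map f₁.unop).hom).map iota.hom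
      (tstar τ (dObj W D) f₁ y)) =
    (ModuleCat.extendScalars (Wb.map f₂.unop).hom).map iota.hom
      (tstar τ (dObj W D) f₂ (dH W D q f₁ f₂ hf₁ hf₂ y))

theorem dH_pushD {Y : CommRingCat.{u}ᵒᵖ} (q : Y ⟶ S) (f₁ f₂ : Y ⟶ X PUnit.unit)
    (hf₁ : f₁ ≫ f PUnit.unit = q) (hf₂ : f₂ ≫ f PUnit.unit = q) :
    dH Wb (pushD τ D) q f₁ f₂ hf₁ hf₂ =
      pushMap τ (dObj W D) f₁ f₂ (dH W D q f₁ f₂ hf₁ hf₂) := by
  rw [dH_def (D := pushD τ D)]
  rfl

theorem map_refl_apply {A B : Type u} [CommRing A] [CommRing B] (g : A →+* B)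
    (N : ModuleCat.{u} A) (z : (ModuleCat.extendScalars g).obj N) :
    (ModuleCat.extendScalars g).map (Iso.refl N).hom z = z := by
  rw [Iso.refl_hom, CategoryTheory.Functor.map_id]
  rfl

set_option maxRecDepth 8000 in
/-- the canonical push-forward relation -/
noncomputable def pushRel : PushRel τ D (pushD τ D) where
  iota := Iso.refl _
  spec {Y} q f₁ f₂ hf₁ hf₂ y := by
    rw [dH_pushD]
    have e1 := map_refl_apply (Wb.map f₁.unop).hom (pushObj τ (dObj W D))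
      (tstar τ (dObj W D) f₁ y)
    have e2 := map_refl_apply (Wb.map f₂.unop).hom (pushObj τ (dObj W D))
      (tstar τ (dObj W D) f₂ (dH W D q f₁ f₂ hf₁ hf₂ y))
    have e3 := pushMap_tstar τ (dObj W D) f₁ f₂ (dH W D q f₁ f₂ hf₁ hf₂) y
    exact ((congrArg (fun z => pushMap τ (dObj W D) f₁ f₂ (dH W D q f₁ f₂ hf₁ hf₂) z) e1).trans
      e3).trans e2.symm

end PushD

end Groth.Agent.Lib27.FunDesc
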