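import Groth.Agent.Lib27.Alg.FunLift3
import Groth.Agent.Lib27.Alg.FunPush3
set_option autoImplicit false
set_option maxHeartbeats 4000000
set_option synthInstance.maxHeartbeats 400000
universe u
open CategoryTheory CategoryTheory.Limits Opposite TensorProduct ChangeOfRings

namespace Groth.Agent.Lib27.FunDesc

open Groth.Agent.Lib27.ModDesc

/-- a tower of symbols -/
structure Tower (W Wb : CommRingCat.{u} ⥤ CommRingCat.{u}) (n : ℕ) where
  /-- the ghost maps -/
  τ : ∀ k, k < n → (W ⟶ Wb)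
  /-- the filtration -/
  J : ℕ → IdFam W
  /-- the symbols -/
  sg : ∀ k (hk : k < n), Symb (τ k hk) (J k) (J (k + 1))
  bot : ∀ T : CommRingCat.{u}, (J n).I T = ⊥

variable {W Wb : CommRingCat.{u} ⥤ CommRingCat.{u}} {n : ℕ} (Tw : Tower W Wb n)

theorem Tower.le (k0 k : ℕ) (h : k0 ≤ k) (hk : k ≤ n) (T : CommRingCat.{u}) :
    (Tw.J k).I T ≤ (Tw.J k0).I T := by
  induction k with
  | zero =>
    have : k0 = 0 := by omega
    subst this
    exact le_rfl
  | succ k ih =>
    by_cases h' : k0 = k + 1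
    · subst h'
      exact le_rfl
    · exact ((Tw.sg k (by omega)).le T).trans (ih (by omega) (by omega))

section Iter

variable {S : CommRingCat.{u}ᵒᵖ} {X : PUnit.{u + 1} → CommRingCat.{u}ᵒᵖ} {f : ∀ i, X i ⟶ S}
  (D : (PFof W).DescentData f) (C : Cov f)

theorem inclI_inclusion {A : Type u} [CommRing A] (I I' : Ideal A) (h : I' ≤ I) (E : ModuleCat.{u} A)
    (z : ↥I' ⊗[A] E) :
    inclI I E ((Submodule.inclusion h).rTensor E z) = inclI I' E z := by
  induction z using TensorProduct.induction_on with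
  | zero => simp
  | tmul y e =>
    rw [LinearMap.rTensor_tmul, inclI_tmul, inclI_tmul]
    rfl
  | add x y hx hy => rw [map_add, map_add, hx, hy, map_add]

theorem inclJ_bot (J : IdFam W) {Y : CommRingCat.{u}ᵒᵖ} (a : Y ⟶ X PUnit.unit)
    (hJ : J.I Y.unop = ⊥) (z : JE J (dObj W D) a) : inclJ J (dObj W D) a z = 0 := by
  induction z using TensorProduct.induction_on with
  | zero => simp
  | tmul y e =>
    rw [inclJ, inclI_tmul]
    have : (y : W.obj Y.unop) = 0 := by
      have h1 : (y : W.obj Y.unop) ∈ (⊥ : Ideal (W.obj Y.unop)) := hJ ▸ y.2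
      exact h1
    rw [this, zero_smul]
  | add x y hx hy => rw [map_add, hx, hy, add_zero]

include Tw in
theorem tower_iter
    (hH1 : ∀ k (hk : k < n), H1van Wb (pushD (Tw.τ k hk) D) C)
    (hflat : Module.Flat (W.obj C.Z₀.unop)
      ((ModuleCat.extendScalars (W.map C.j₃.unop).hom).obj (dObj W D)))
    (k0 : ℕ) (k : ℕ) (hk0 : k0 ≤ k) (hk : k ≤ n) (m : dObj W D)
    (z : JE (Tw.J k0) (dObj W D) C.i₂)
    (hz : inclJ (Tw.J k0) (dObj W D) C.i₂ z = delta W D C m) :
    ∃ (ν : ↥((Tw.J k0).I (X PUnit.unit).unop) ⊗[W.obj (X PUnit.unit).unop] (dObj W D))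
      (z' : JE (Tw.J k) (dObj W D) C.i₂),
      inclJ (Tw.J k) (dObj W D) C.i₂ z' =
        delta W D C (m - inclI ((Tw.J k0).I (X PUnit.unit).unop) (dObj W D) ν) := by
  induction k with
  | zero =>
    have : k0 = 0 := by omega
    subst this
    exact ⟨0, z, by rw [map_zero, sub_zero, hz]⟩
  | succ k ih =>
    by_cases h' : k0 = k + 1
    · subst h'
      exact ⟨0, z, by rw [map_zero, sub_zero, hz]⟩
    · obtain ⟨ν, z', hz'⟩ := ih (by omega) (by omega)
      have hkn : k < n := by omega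
      obtain ⟨ν', z'', hz''⟩ := lift_step (Tw.τ k hkn) (pushRel (Tw.τ k hkn) D) (Tw.sg k hkn) C
        (inclI_injective _ _) (hH1 k hkn) _ z' hz'
      refine ⟨ν + (Submodule.inclusion (Tw.le k0 k (by omega) (by omega) _)).rTensor _ ν', z'', ?_⟩
      rw [hz'', map_add, inclI_inclusion, sub_sub]

include Tw in
theorem tower_final
    (hH1 : ∀ k (hk : k < n), H1van Wb (pushD (Tw.τ k hk) D) C)
    (hflat : Module.Flat (W.obj C.Z₀.unop)
      ((ModuleCat.extendScalars (W.map C.j₃.unop).hom).obj (dObj W D)))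
    (k0 : ℕ) (hk0 : k0 ≤ n) (m : dObj W D)
    (z : JE (Tw.J k0) (dObj W D) C.i₂)
    (hz : inclJ (Tw.J k0) (dObj W D) C.i₂ z = delta W D C m) :
    ∃ (ν : ↥((Tw.J k0).I (X PUnit.unit).unop) ⊗[W.obj (X PUnit.unit).unop] (dObj W D)),
        delta W D C (m - inclI ((Tw.J k0).I (X PUnit.unit).unop) (dObj W D) ν) = 0 := by
  obtain ⟨ν, z', hz'⟩ := tower_iter Tw D C hH1 hflat k0 n hk0 le_rfl m z hz
  exact ⟨ν, by rw [← hz', inclJ_bot D (Tw.J n) C.i₂ (Tw.bot _)]⟩

end Iter

end Groth.Agent.Lib27.FunDesc
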