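import Groth.Agent.Lib27.Alg.FunTower
set_option autoImplicit false
set_option maxHeartbeats 4000000
set_option synthInstance.maxHeartbeats 400000
universe u
open CategoryTheory CategoryTheory.Limits Opposite TensorProduct ChangeOfRings

namespace Groth.Agent.Lib27.FunDesc

open Groth.Agent.Lib27.ModDesc

variable {W Wb : CommRingCat.{u} ⥤ CommRingCat.{u}} {n : ℕ} (Tw : Tower W Wb n)

section Zero

variable {S : CommRingCat.{u}ᵒᵖ} {X : PUnit.{u + 1} → CommRingCat.{u}ᵒᵖ} {f : ∀ i, X i ⟶ S}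
  (D : (PFof W).DescentData f) (C : Cov f) (h0 : 0 < n)

/-- reduction along the zeroth ghost map -/
noncomputable def tmap : dObj W D →+ dObj Wb (pushD (Tw.τ 0 h0) D) :=
  (pushRel (Tw.τ 0 h0) D).iota.hom.hom.toAddMonoidHom.comp
    (etmulAdd (tauR (Tw.τ 0 h0) (X PUnit.unit).unop) (dObj W D) 1)

theorem tmap_apply (m : dObj W D) :
    tmap Tw D h0 m = (pushRel (Tw.τ 0 h0) D).iota.hom
      (etmul (tauR (Tw.τ 0 h0) (X PUnit.unit).unop) (dObj W D) 1 m) := rfl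

theorem tmap_smul (a : W.obj (X PUnit.unit).unop) (m : dObj W D) :
    tmap Tw D h0 (a • m) = tauR (Tw.τ 0 h0) (X PUnit.unit).unop a • tmap Tw D h0 m := by
  rw [tmap_apply, tmap_apply, ← etmul_smul, mul_one, etmul_eq_smul_one, map_smul]

theorem zero_step
    (z₀ : ↥((Tw.J 0).I (X PUnit.unit).unop) ⊗[W.obj (X PUnit.unit).unop] (dObj W D))
    (h : delta Wb (pushD (Tw.τ 0 h0) D) C
      (SymX (Tw.τ 0 h0) (pushRel (Tw.τ 0 h0) D) (Tw.sg 0 h0) z₀) = 0) :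
    ∃ z' : JE (Tw.J (0 + 1)) (dObj W D) C.i₂, inclJ (Tw.J (0 + 1)) (dObj W D) C.i₂ z' =
      delta W D C (inclI ((Tw.J 0).I (X PUnit.unit).unop) (dObj W D) z₀) := by
  have h1 : Sym (Tw.τ 0 h0) (pushRel (Tw.τ 0 h0) D) (Tw.sg 0 h0) C.i₂
      (deltaJ W D C (Tw.J 0) z₀) = 0 := by
    rw [Sym_deltaJ, h]
  obtain ⟨z', hz'⟩ := Sym_ker (Tw.τ 0 h0) (pushRel (Tw.τ 0 h0) D) (Tw.sg 0 h0) C.i₂ _ h1
  refine ⟨z', ?_⟩
  rw [← inclJ_inclusion (Tw.τ 0 h0) (Tw.sg 0 h0), hz', inclJ_deltaJ]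

variable (hsig0 : ∀ (T : CommRingCat.{u}) (y : (Tw.J 0).I T),
  sigV (Tw.τ 0 h0) (Tw.sg 0 h0) T y = tauR (Tw.τ 0 h0) T y.1)

include hsig0 in
theorem tmap_inclI_zero
    (z₀ : ↥((Tw.J 0).I (X PUnit.unit).unop) ⊗[W.obj (X PUnit.unit).unop] (dObj W D)) :
    tmap Tw D h0 (inclI ((Tw.J 0).I (X PUnit.unit).unop) (dObj W D) z₀) =
      SymX (Tw.τ 0 h0) (pushRel (Tw.τ 0 h0) D) (Tw.sg 0 h0) z₀ := by
  induction z₀ using TensorProduct.induction_on with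
  | zero => simp
  | tmul y m =>
    rw [inclI_tmul, tmap_smul, SymX_tmul, hsig0, tmap_apply]
  | add x y hx hy => rw [map_add, map_add, hx, hy, map_add]

include hsig0 in
theorem tau_zero_of_mem (T : CommRingCat.{u}) (y : (Tw.J (0 + 1)).I T) :
    tauR (Tw.τ 0 h0) T y.1 = 0 := by
  have h1 := ((Tw.sg 0 h0).exact T (Submodule.inclusion ((Tw.sg 0 h0).le T) y)).mpr ⟨y, rfl⟩
  have h2 := hsig0 T (Submodule.inclusion ((Tw.sg 0 h0).le T) y)
  refine h2.symm.trans ?_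
  show resOf _ _ ((Tw.sg 0 h0).σ T _) = 0
  rw [h1, map_zero]

include hsig0 in
theorem tmap_inclI_one
    (ν : ↥((Tw.J (0 + 1)).I (X PUnit.unit).unop) ⊗[W.obj (X PUnit.unit).unop] (dObj W D)) :
    tmap Tw D h0 (inclI ((Tw.J (0 + 1)).I (X PUnit.unit).unop) (dObj W D) ν) = 0 := by
  induction ν using TensorProduct.induction_on with
  | zero => simp
  | tmul y m =>
    rw [inclI_tmul, tmap_smul, tau_zero_of_mem Tw h0 hsig0, zero_smul]
  | add x y hx hy => rw [map_add, map_add, hx, hy, add_zero]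

include hsig0 in
theorem exists_inv_lift
    (hH1 : ∀ k (hk : k < n), H1van Wb (pushD (Tw.τ k hk) D) C)
    (hflat : Module.Flat (W.obj C.Z₀.unop)
      ((ModuleCat.extendScalars (W.map C.j₃.unop).hom).obj (dObj W D)))
    (m₀ : dObj Wb (pushD (Tw.τ 0 h0) D)) (hm₀ : delta Wb (pushD (Tw.τ 0 h0) D) C m₀ = 0) :
    ∃ m : dObj W D, delta W D C m = 0 ∧ tmap Tw D h0 m = m₀ := by
  obtain ⟨z₀, hz₀⟩ := SymX_surjective (Tw.τ 0 h0) (pushRel (Tw.τ 0 h0) D) (Tw.sg 0 h0) m₀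
  obtain ⟨z', hz'⟩ := zero_step Tw D C h0 z₀ (by rw [hz₀, hm₀])
  obtain ⟨ν, hν⟩ := tower_final Tw D C hH1 hflat (0 + 1) (by omega) _ z' hz'
  refine ⟨_, hν, ?_⟩
  rw [map_sub, tmap_inclI_zero Tw D h0 hsig0, tmap_inclI_one Tw D h0 hsig0, sub_zero, hz₀]

end Zero

end Groth.Agent.Lib27.FunDesc
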