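import Mathlib
import Groth.Agent.Lib27.Alg.ExtBridge
set_option autoImplicit false
universe u
open CategoryTheory CategoryTheory.Limits Opposite TensorProduct ChangeOfRings

namespace Groth.Agent.Lib27.ExtBridge

open Groth.Agent.Lib27.ModDesc Groth.Agent.Lib27.PureDesc2

section Crit0

variable {A : Type u} [CommRing A] (I : Ideal A) (hj : I ≤ Ideal.jacobson ⊥)
  {Q M : Type u} [AddCommGroup Q] [Module A Q] [AddCommGroup M] [Module A M]
  [Module.Finite A Q] [Module.Finite A M] [Module.Projective A M] (φ : Q →ₗ[A] M)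

include hj in
theorem bijective_of_mod (hs : ∀ m : M, ∃ q : Q, m - φ q ∈ I • (⊤ : Submodule A M))
    (hi : ∀ q : Q, φ q ∈ I • (⊤ : Submodule A M) → q ∈ I • (⊤ : Submodule A Q)) :
    Function.Bijective φ := by
  have hsurj : Function.Surjective φ := by
    rw [← LinearMap.range_eq_top, ← top_le_iff]
    apply Submodule.le_of_le_smul_of_le_jacobson_bot (Module.finite_def.mp ‹_›) hj
    intro m _
    obtain ⟨q, hq⟩ := hs m
    have : m = φ q + (m - φ q) := by abel
    rw [this]
    exact Submodule.add_mem_sup (LinearMap.mem_range_self φ q) hq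
  refine ⟨?_, hsurj⟩
  obtain ⟨s, hs'⟩ := Module.projective_lifting_property φ LinearMap.id hsurj
  -- projection onto the kernel
  let π : Q →ₗ[A] Q := LinearMap.id - s ∘ₗ φ
  have hπK : ∀ q, φ (π q) = 0 := by
    intro q
    have h1 : φ (s (φ q)) = φ q := congr($hs' (φ q))
    simp only [π, LinearMap.sub_apply, LinearMap.id_apply, LinearMap.comp_apply, map_sub, h1,
      sub_self]
  have hπid : ∀ q, φ q = 0 → π q = q := by
    intro q hq
    simp only [π, LinearMap.sub_apply, LinearMap.id_apply, LinearMap.comp_apply, hq, map_zero,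
      sub_zero]
  have hK : LinearMap.ker φ = ⊥ := by
    apply Submodule.eq_bot_of_le_smul_of_le_jacobson_bot I _ ?_ ?_ hj
    · have : LinearMap.ker φ = LinearMap.range π := by
        ext q
        constructor
        · intro hq
          exact ⟨q, hπid q hq⟩
        · rintro ⟨q', rfl⟩
          exact hπK q'
      rw [this, LinearMap.range_eq_map]
      exact (Module.finite_def.mp ‹Module.Finite A Q›).map π
    · intro q hq
      have hq0 : φ q = 0 := hq
      have h1 : q ∈ I • (⊤ : Submodule A Q) := hi q (by rw [hq0]; exact Submodule.zero_mem _)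
      rw [← hπid q hq0]
      have h2 : (I • (⊤ : Submodule A Q)).map π ≤ I • LinearMap.ker φ := by
        rw [Submodule.map_smul'']
        apply Submodule.smul_mono le_rfl
        rintro _ ⟨q', _, rfl⟩
        exact hπK q'
      exact h2 ⟨q, h1, rfl⟩
  exact LinearMap.ker_eq_bot.mp hK

end Crit0

section Crit

variable {A A₀ : Type u} [CommRing A] [CommRing A₀] [Algebra A A₀]

theorem ker_mk_of_surjective (hs : Function.Surjective (algebraMap A A₀)) (Q : Type u)
    [AddCommGroup Q] [Module A Q] :
    LinearMap.ker (TensorProduct.mk A A₀ Q 1) =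
      (RingHom.ker (algebraMap A A₀)) • (⊤ : Submodule A Q) := by
  let f : A →ₐ[A] A₀ := Algebra.ofId A A₀
  have hf : Function.Surjective f := hs
  let e : (A ⧸ RingHom.ker f) ≃ₐ[A] A₀ := Ideal.quotientKerAlgEquivOfSurjective hf
  have h1 : TensorProduct.mk A A₀ Q 1 =
      (TensorProduct.congr e.toLinearEquiv (LinearEquiv.refl A Q)).toLinearMap ∘ₗ
        TensorProduct.mk A (A ⧸ RingHom.ker f) Q 1 := by
    ext q
    simp
  rw [h1, LinearEquiv.ker_comp, LinearMap.ker_tensorProductMk]
  rfl

theorem etmul_one_eq_zero_iff (hs : Function.Surjective (algebraMap A A₀)) (N : ModuleCat.{u} A)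
    (n : N) : etmul (algebraMap A A₀) N 1 n = 0 ↔
      n ∈ (RingHom.ker (algebraMap A A₀)) • (⊤ : Submodule A N) := by
  rw [← ker_mk_of_surjective hs, LinearMap.mem_ker]
  constructor
  · intro h
    have := congrArg (toTL (S := A₀) N) h
    rwa [toTL_etmul, map_zero] at this
  · intro h
    apply (toTL (S := A₀) N).injective
    rw [toTL_etmul, map_zero]
    exact h

theorem exists_etmul_one (hs : Function.Surjective (algebraMap A A₀)) (N : ModuleCat.{u} A)
    (z : (ModuleCat.extendScalars (algebraMap A A₀)).obj N) :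
    ∃ n : N, z = etmul (algebraMap A A₀) N 1 n := by
  induction z using etmul_induction with
  | h0 => exact ⟨0, (etmul_zero_right _).symm⟩
  | h1 c n =>
    obtain ⟨a, rfl⟩ := hs c
    refine ⟨a • n, ?_⟩
    rw [← etmul_smul, mul_one]
  | h2 x y hx hy =>
    obtain ⟨n, rfl⟩ := hx
    obtain ⟨n', rfl⟩ := hy
    exact ⟨n + n', (etmul_add_right _ _ _).symm⟩

theorem bijective_of_ext_bijective_alg (hs : Function.Surjective (algebraMap A A₀))
    (hj : RingHom.ker (algebraMap A A₀) ≤ Ideal.jacobson ⊥) {Q M : ModuleCat.{u} A}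
    [Module.Finite A Q] [Module.Finite A M] [Module.Projective A M] (φ : Q ⟶ M)
    (h : Function.Bijective ((ModuleCat.extendScalars (algebraMap A A₀)).map φ)) :
    Function.Bijective φ := by
  apply bijective_of_mod (RingHom.ker (algebraMap A A₀)) hj φ.hom
  · intro m
    obtain ⟨z, hz⟩ := h.2 (etmul (algebraMap A A₀) M 1 m)
    obtain ⟨q, rfl⟩ := exists_etmul_one hs Q z
    refine ⟨q, ?_⟩
    rw [← etmul_one_eq_zero_iff hs]
    rw [map_etmul] at hz
    have : etmul (algebraMap A A₀) M 1 (m - φ q) =
        etmul (algebraMap A A₀) M 1 m - etmul (algebraMap A A₀) M 1 (φ q) := by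
      rw [sub_eq_add_neg, etmul_add_right, sub_eq_add_neg]
      congr 1
      have h0 : etmul (algebraMap A A₀) M 1 (φ q) + etmul (algebraMap A A₀) M 1 (-(φ q)) = 0 := by
        rw [← etmul_add_right, add_neg_cancel, etmul_zero_right]
      exact (neg_eq_of_add_eq_zero_right h0).symm
    rw [this, hz, sub_self]
  · intro q hq
    rw [← etmul_one_eq_zero_iff hs] at hq ⊢
    apply h.1
    rw [map_etmul, map_zero]
    exact hq

end Crit

theorem bijective_of_ext_bijective {A A₀ : Type u} [CommRing A] [CommRing A₀] (τ : A →+* A₀)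
    (hs : Function.Surjective τ)
    (hj : RingHom.ker τ ≤ Ideal.jacobson ⊥) {Q M : ModuleCat.{u} A}
    [Module.Finite A Q] [Module.Finite A M] [Module.Projective A M] (φ : Q ⟶ M)
    (h : Function.Bijective ((ModuleCat.extendScalars τ).map φ)) :
    Function.Bijective φ := by
  letI := τ.toAlgebra
  exact bijective_of_ext_bijective_alg (A₀ := A₀) hs hj φ h

end Groth.Agent.Lib27.ExtBridge
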