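import Groth.Agent.Lib27.Alg.FunTower2
import Groth.Agent.Lib27.Alg.FunCan2
import Groth.Agent.Lib27.Alg.FunD2
import Groth.Agent.Lib27.Alg.ProjCrit
set_option autoImplicit false
set_option maxHeartbeats 4000000
set_option synthInstance.maxHeartbeats 400000
universe u
open CategoryTheory CategoryTheory.Limits Opposite TensorProduct ChangeOfRings

namespace Groth.Agent.Lib27.FunDesc

open Groth.Agent.Lib27.ModDesc

theorem lift_of_mem_range {A : Type u} [CommRing A] {P M N : Type u} [AddCommGroup P]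
    [AddCommGroup M] [AddCommGroup N] [Module A P] [Module A M] [Module A N]
    [Module.Projective A P] (t : M →ₗ[A] N) (v₀ : P →ₗ[A] N)
    (h : ∀ x, v₀ x ∈ LinearMap.range t) : ∃ v : P →ₗ[A] M, ∀ x, t (v x) = v₀ x := by
  obtain ⟨v, hv⟩ := Module.projective_lifting_property t.rangeRestrict
    (v₀.codRestrict (LinearMap.range t) h) t.surjective_rangeRestrict
  refine ⟨v, fun x => ?_⟩
  have := congr($hv x)
  exact congrArg Subtype.val this

/-- the other adjoint -/
noncomputable def toRes {A B : Type u} [CommRing A] [CommRing B] (g : A →+* B)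
    {P : ModuleCat.{u} A} {M : ModuleCat.{u} B}
    (φ : (ModuleCat.extendScalars g).obj P ⟶ M) : P ⟶ (ModuleCat.restrictScalars g).obj M :=
  ModuleCat.ExtendRestrictScalarsAdj.HomEquiv.toRestrictScalars g φ

theorem toRes_apply {A B : Type u} [CommRing A] [CommRing B] (g : A →+* B)
    {P : ModuleCat.{u} A} {M : ModuleCat.{u} B}
    (φ : (ModuleCat.extendScalars g).obj P ⟶ M) (x : P) :
    resOf g M (toRes g φ x) = φ (etmul g P 1 x) := rfl

variable (W : CommRingCat.{u} ⥤ CommRingCat.{u})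

section Inv

variable {S : CommRingCat.{u}ᵒᵖ} {X : PUnit.{u + 1} → CommRingCat.{u}ᵒᵖ} {f : ∀ i, X i ⟶ S}
  (D : (PFof W).DescentData f) (C : Cov f)

theorem delta_smul_wf (a : W.obj S.unop) (m : dObj W D) :
    delta W D C (wf W f a • m) = (W.map C.q₀.unop).hom a • delta W D C m := by
  rw [delta_apply, delta_apply, smul_sub, ← etmul_smul, ← etmul_smul, mul_one, mul_one,
    W_comp_apply W (f PUnit.unit) C.i₁ C.q₀ C.hi₁ a, W_comp_apply W (f PUnit.unit) C.i₂ C.q₀ C.hi₂ a,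
    etmul_eq_smul_one, map_smul, ← etmul_eq_smul_one]

/-- the invariants, as a submodule over the base -/
noncomputable def InvSub : Submodule (W.obj S.unop)
    ((ModuleCat.restrictScalars (wf W f)).obj (dObj W D)) where
  carrier := {m | delta W D C (resOf (wf W f) (dObj W D) m) = 0}
  add_mem' := by
    intro a b ha hb
    show delta W D C (resOf _ _ (a + b)) = 0
    rw [map_add, map_add, ha, hb, add_zero]
  zero_mem' := by
    show delta W D C (resOf _ _ 0) = 0
    rw [map_zero, map_zero]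
  smul_mem' := by
    intro a m hm
    show delta W D C (resOf _ _ (a • m)) = 0
    rw [resOf_smul, delta_smul_wf, hm, smul_zero]

theorem mem_InvSub (m : (ModuleCat.restrictScalars (wf W f)).obj (dObj W D)) :
    m ∈ InvSub W D C ↔ delta W D C (resOf (wf W f) (dObj W D) m) = 0 := Iff.rfl

end Inv

section Main

variable {W} {Wb : CommRingCat.{u} ⥤ CommRingCat.{u}} {n : ℕ} (Tw : Tower W Wb n)
  {S : CommRingCat.{u}ᵒᵖ} {X : PUnit.{u + 1} → CommRingCat.{u}ᵒᵖ} {f : ∀ i, X i ⟶ S}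
  (D : (PFof W).DescentData f) (C : Cov f) (h0 : 0 < n)

/-- `tmap` as a linear map over the base -/
noncomputable def tLin : (ModuleCat.restrictScalars (wf W f)).obj (dObj W D) →ₗ[W.obj S.unop]
    (ModuleCat.restrictScalars (tauR (Tw.τ 0 h0) S.unop)).obj
      ((ModuleCat.restrictScalars (wf Wb f)).obj (dObj Wb (pushD (Tw.τ 0 h0) D))) where
  toFun m := resTo (tauR (Tw.τ 0 h0) S.unop) _ (resTo (wf Wb f) _
    (tmap Tw D h0 (resOf (wf W f) (dObj W D) m)))
  map_add' a b := by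
    rw [map_add, map_add, map_add, map_add]
  map_smul' a m := by
    rw [resOf_smul, tmap_smul, tau_nat, resTo_smul, resTo_smul]
    rfl

theorem tLin_apply (m : (ModuleCat.restrictScalars (wf W f)).obj (dObj W D)) :
    resOf (wf Wb f) _ (resOf (tauR (Tw.τ 0 h0) S.unop) _ (tLin Tw D h0 m)) =
      tmap Tw D h0 (resOf (wf W f) (dObj W D) m) := rfl

variable (P : ModuleCat.{u} (W.obj S.unop)) (N₀ : ModuleCat.{u} (Wb.obj S.unop))
  (ε : pushObj (Tw.τ 0 h0) (Xu := S) P ≅ N₀)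
  (κ₀ : (ModuleCat.extendScalars (wf Wb f)).obj N₀ ≅ dObj Wb (pushD (Tw.τ 0 h0) D))

/-- the reduction of the map to be constructed -/
noncomputable def v0Lin : P →ₗ[W.obj S.unop]
    (ModuleCat.restrictScalars (tauR (Tw.τ 0 h0) S.unop)).obj
      ((ModuleCat.restrictScalars (wf Wb f)).obj (dObj Wb (pushD (Tw.τ 0 h0) D))) where
  toFun x := resTo (tauR (Tw.τ 0 h0) S.unop) _ (resTo (wf Wb f) _
    (κ₀.hom (etmul (wf Wb f) N₀ 1 (ε.hom (etmul (tauR (Tw.τ 0 h0) S.unop) P 1 x)))))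
  map_add' a b := by
    rw [etmul_add_right, map_add, etmul_add_right, map_add, map_add, map_add]
  map_smul' a x := by
    have h1 : etmul (tauR (Tw.τ 0 h0) S.unop) P 1 (a • x) =
        tauR (Tw.τ 0 h0) S.unop a • etmul (tauR (Tw.τ 0 h0) S.unop) P 1 x := by
      rw [← etmul_smul, mul_one, etmul_eq_smul_one]
    have h3 : ∀ (c : Wb.obj S.unop) (y : N₀), etmul (wf Wb f) N₀ 1 (c • y) =
        wf Wb f c • etmul (wf Wb f) N₀ 1 y := by
      intro c y
      rw [← etmul_smul, mul_one, etmul_eq_smul_one]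
    rw [h1, map_smul, h3, map_smul, resTo_smul, resTo_smul]
    rfl

theorem v0Lin_apply (x : P) :
    resOf (wf Wb f) _ (resOf (tauR (Tw.τ 0 h0) S.unop) _ (v0Lin Tw D h0 P N₀ ε κ₀ x)) =
      κ₀.hom (etmul (wf Wb f) N₀ 1 (ε.hom (etmul (tauR (Tw.τ 0 h0) S.unop) P 1 x))) := rfl

section K

variable (hκ₀ : ∀ {Y : CommRingCat.{u}ᵒᵖ} (q : Y ⟶ S) (f₁ f₂ : Y ⟶ X PUnit.unit)
      (hf₁ : f₁ ≫ f PUnit.unit = q) (hf₂ : f₂ ≫ f PUnit.unit = q),
      (ModuleCat.extendScalars (Wb.map f₁.unop).hom).map κ₀.hom ≫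
        dH Wb (pushD (Tw.τ 0 h0) D) q f₁ f₂ hf₁ hf₂ =
      cH Wb (f := f) N₀ q f₁ f₂ hf₁ hf₂ ≫
        (ModuleCat.extendScalars (Wb.map f₂.unop).hom).map κ₀.hom)

include hκ₀ in
theorem v0_inv (n₀ : N₀) :
    delta Wb (pushD (Tw.τ 0 h0) D) C (κ₀.hom (etmul (wf Wb f) N₀ 1 n₀)) = 0 := by
  rw [← kappa_deltaC Wb _ C N₀ κ₀ hκ₀]
  have : deltaC Wb C N₀ (etmul (wf Wb f) N₀ 1 n₀) = 0 := by
    show cH Wb (f := f) N₀ C.q₀ C.i₁ C.i₂ C.hi₁ C.hi₂
        (etmul (Wb.map C.i₁.unop).hom _ 1 (etmul (wf Wb f) N₀ 1 n₀)) -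
      etmul (Wb.map C.i₂.unop).hom _ 1 (etmul (wf Wb f) N₀ 1 n₀) = 0
    rw [cH_etmul, map_one, mul_one, sub_self]
  rw [this, map_zero]

include hκ₀ ε in
theorem exists_iso_of_tower [Module.Projective (W.obj S.unop) P] [Module.Finite (W.obj S.unop) P]
    [Module.Finite (W.obj (X PUnit.unit).unop) (dObj W D)]
    [Module.Projective (W.obj (X PUnit.unit).unop) (dObj W D)]
    (hsig0 : ∀ (T : CommRingCat.{u}) (y : (Tw.J 0).I T),
      sigV (Tw.τ 0 h0) (Tw.sg 0 h0) T y = tauR (Tw.τ 0 h0) T y.1)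
    (hH1 : ∀ k (hk : k < n), H1van Wb (pushD (Tw.τ k hk) D) C)
    (hflat : Module.Flat (W.obj C.Z₀.unop)
      ((ModuleCat.extendScalars (W.map C.j₃.unop).hom).obj (dObj W D)))
    (hs : Function.Surjective (tauR (Tw.τ 0 h0) (X PUnit.unit).unop))
    (hj : RingHom.ker (tauR (Tw.τ 0 h0) (X PUnit.unit).unop) ≤ Ideal.jacobson ⊥) :
    Nonempty (((PFof W).toDescentData f).obj P ≅ D) := by
  have hrange : ∀ x, v0Lin Tw D h0 P N₀ ε κ₀ x ∈
      LinearMap.range ((tLin Tw D h0) ∘ₗ (InvSub W D C).subtype) := by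
    intro x
    obtain ⟨m, hm1, hm2⟩ := exists_inv_lift Tw D C h0 hsig0 hH1 hflat _
      (v0_inv Tw D C h0 N₀ κ₀ hκ₀ (ε.hom (etmul (tauR (Tw.τ 0 h0) S.unop) P 1 x)))
    refine ⟨⟨resTo (wf W f) (dObj W D) m, hm1⟩, ?_⟩
    exact congrArg (fun z => resTo (tauR (Tw.τ 0 h0) S.unop) _ (resTo (wf Wb f) _ z)) hm2
  obtain ⟨v', hv'⟩ := lift_of_mem_range _ _ hrange
  let v : P ⟶ (ModuleCat.restrictScalars (wf W f)).obj (dObj W D) :=
    ModuleCat.ofHom (X := P) (Y := (ModuleCat.restrictScalars (wf W f)).obj (dObj W D))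
      ((InvSub W D C).subtype ∘ₗ v')
  have hv : ∀ x : P, IsInv W D (resOf (wf W f) (dObj W D) (v x)) := by
    intro x
    exact isInv_of_delta W D C (resOf (wf W f) (dObj W D) (v x)) (v' x).2
  have hvt : ∀ x : P, tmap Tw D h0 (resOf (wf W f) (dObj W D) (v x)) =
      κ₀.hom (etmul (wf Wb f) N₀ 1 (ε.hom (etmul (tauR (Tw.τ 0 h0) S.unop) P 1 x))) := by
    intro x
    have := hv' x
    exact congrArg (fun z => resOf (wf Wb f) _ (resOf (tauR (Tw.τ 0 h0) S.unop) _ z)) this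
  have hb : Function.Bijective
      ((ModuleCat.extendScalars (tauR (Tw.τ 0 h0) (X PUnit.unit).unop)).map
        (fromExt (wf W f) v)) := by
    have key : (ModuleCat.extendScalars (tauR (Tw.τ 0 h0) (X PUnit.unit).unop)).map
        (fromExt (wf W f) v) =
        (swapIso (Tw.τ 0 h0) P (f PUnit.unit)).inv ≫
          (ModuleCat.extendScalars (wf Wb f)).map ε.hom ≫ κ₀.hom ≫
            (pushRel (Tw.τ 0 h0) D).iota.inv := by
      apply hom_ext2
      intro x
      rw [map_etmul, fromExt_etmul, one_smul]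
      refine Eq.trans ?_ (ConcreteCategory.comp_apply _ _ _).symm
      rw [swapIso_inv_one, tstar_etmul, map_one]
      refine Eq.trans ?_ (ConcreteCategory.comp_apply _ _ _).symm
      rw [map_etmul]
      refine Eq.trans ?_ (ConcreteCategory.comp_apply _ _ _).symm
      rw [← hvt x, tmap_apply]
      exact (congr($((pushRel (Tw.τ 0 h0) D).iota.hom_inv_id) _)).symm
    rw [key]
    exact ConcreteCategory.bijective_of_isIso _
  haveI : Module.Finite (W.obj (X PUnit.unit).unop) ((ModuleCat.extendScalars (wf W f)).obj P) :=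
    ExtBridge.ext_finite (wf W f) P
  have hbij := ExtBridge.bijective_of_ext_bijective
    (tauR (Tw.τ 0 h0) (X PUnit.unit).unop) hs hj (fromExt (wf W f) v) hb
  haveI : IsIso (fromExt (wf W f) v) := (ConcreteCategory.isIso_iff_bijective _).mpr hbij
  exact exists_iso_of W D P (asIso (fromExt (wf W f) v)) (comm_of_inv W D P v hv)

end K

end Main

end Groth.Agent.Lib27.FunDesc
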