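import Mathlib

/-!
# Kummer theory over a local ring: algebraic core (helper27)
-/

open scoped TensorProduct
universe u

namespace Groth.Agent.Lib27.KummerLocal

section roots

variable {A : Type u} [CommRing A] [IsLocalRing A] {n : ℕ}

/-- Reduction modulo the maximal ideal is injective on `n`-th roots of unity, `n` invertible. -/
lemma eq_one_of_sub_one_mem (hn : IsUnit ((n : ℕ) : A)) (g : Aˣ) (hg : g ^ n = 1)
    (h : (g : A) - 1 ∈ IsLocalRing.maximalIdeal A) : g = 1 := by
  have hres : IsLocalRing.residue A (g : A) = 1 := by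
    have := (IsLocalRing.residue_eq_zero_iff ((g : A) - 1)).2 h
    rwa [map_sub, map_one, sub_eq_zero] at this
  have hS : IsUnit (∑ i ∈ Finset.range n, (g : A) ^ i) := by
    rw [← IsLocalRing.notMem_maximalIdeal, ← IsLocalRing.residue_eq_zero_iff, map_sum]
    simp only [map_pow, hres, one_pow, Finset.sum_const, Finset.card_range, nsmul_eq_mul, mul_one]
    have h1 : IsUnit (IsLocalRing.residue A ((n : ℕ) : A)) := hn.map _
    rw [map_natCast] at h1
    exact h1.ne_zero
  have h0 : ((g : A) - 1) * ∑ i ∈ Finset.range n, (g : A) ^ i = 0 := by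
    rw [mul_geom_sum]
    have : ((g ^ n : Aˣ) : A) = 1 := by rw [hg]; rfl
    rw [Units.val_pow_eq_pow_val] at this
    rw [this, sub_self]
  have h2 : (g : A) - 1 = 0 := (hS.mul_left_eq_zero).1 h0
  exact Units.ext (sub_eq_zero.1 h2)

lemma isUnit_one_sub (hn : IsUnit ((n : ℕ) : A)) (g : rootsOfUnity n A) (hg : g ≠ 1) :
    IsUnit (1 - ((g : Aˣ) : A)) := by
  rw [← IsLocalRing.notMem_maximalIdeal]
  intro h
  apply hg
  have h' : ((g : Aˣ) : A) - 1 ∈ IsLocalRing.maximalIdeal A := by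
    have := (IsLocalRing.maximalIdeal A).neg_mem h
    simpa using this
  exact Subtype.ext (eq_one_of_sub_one_mem hn (g : Aˣ) ((mem_rootsOfUnity _ _).1 g.2) h')

lemma finite_roots (hn1 : 1 ≤ n) (hn : IsUnit ((n : ℕ) : A)) : Finite (rootsOfUnity n A) := by
  haveI : NeZero n := ⟨by omega⟩
  let f := restrictRootsOfUnity (IsLocalRing.residue A) n
  have hf : Function.Injective f := by
    rw [injective_iff_map_eq_one]
    intro g hg
    have h1 : IsLocalRing.residue A ((g : Aˣ) : A) = 1 := by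
      have := congrArg (fun x : rootsOfUnity n (IsLocalRing.ResidueField A) =>
        (((x : (IsLocalRing.ResidueField A)ˣ)) : IsLocalRing.ResidueField A)) hg
      simpa [f, restrictRootsOfUnity_coe_apply] using this
    have h2 : ((g : Aˣ) : A) - 1 ∈ IsLocalRing.maximalIdeal A := by
      rw [← IsLocalRing.residue_eq_zero_iff, map_sub, h1, map_one, sub_self]
    exact Subtype.ext (eq_one_of_sub_one_mem hn (g : Aˣ) ((mem_rootsOfUnity _ _).1 g.2) h2)
  exact Finite.of_injective f hf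

end roots

section core

variable {A : Type u} [CommRing A] [IsLocalRing A] {n : ℕ}
  {B : Type u} [CommRing B] [Algebra A B] [Fintype (rootsOfUnity n A)]

/-- The scalar in `A` of a root of unity. -/
def sc (g : rootsOfUnity n A) : A := ((g : Aˣ) : A)

omit [IsLocalRing A] [Fintype (rootsOfUnity n A)] in
@[simp] lemma sc_one : sc (1 : rootsOfUnity n A) = 1 := rfl

omit [IsLocalRing A] [Fintype (rootsOfUnity n A)] in
lemma sc_mul (g h : rootsOfUnity n A) : sc (g * h) = sc g * sc h := rfl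

omit [IsLocalRing A] [Fintype (rootsOfUnity n A)] in
lemma sc_mul_inv (g : rootsOfUnity n A) : sc g * sc g⁻¹ = 1 := by
  rw [← sc_mul, mul_inv_cancel, sc_one]

omit [IsLocalRing A] [Fintype (rootsOfUnity n A)] in
lemma sc_inv_mul (g : rootsOfUnity n A) : sc g⁻¹ * sc g = 1 := by
  rw [← sc_mul, inv_mul_cancel, sc_one]

omit [IsLocalRing A] [Fintype (rootsOfUnity n A)] in
lemma sc_pow_n (g : rootsOfUnity n A) : sc g ^ n = 1 := by
  have h := (mem_rootsOfUnity _ _).1 g.2
  have : (((g : Aˣ) ^ n : Aˣ) : A) = 1 := by rw [h]; rfl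
  simpa [sc, Units.val_pow_eq_pow_val] using this

omit [IsLocalRing A] [Fintype (rootsOfUnity n A)] in
lemma sc_injective : Function.Injective (sc : rootsOfUnity n A → A) := by
  intro g h hgh
  exact Subtype.ext (Units.ext hgh)

variable (hn : IsUnit ((n : ℕ) : A))
  (σ : rootsOfUnity n A → (B →ₐ[A] B)) (hσ1 : σ 1 = AlgHom.id A B)
  (hσmul : ∀ g h, σ (g * h) = (σ g).comp (σ h))

/-- The projector onto the `j`-th eigenspace. -/
noncomputable def E (j : ℕ) (b : B) : B :=
  ((↑(hn.unit⁻¹) : A)) • ∑ g : rootsOfUnity n A, (sc g⁻¹ ^ j) • σ g b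

omit [IsLocalRing A] in
include hσmul in
lemma sigma_E (h : rootsOfUnity n A) (j : ℕ) (b : B) :
    σ h (E hn σ j b) = (sc h ^ j) • E hn σ j b := by
  unfold E
  rw [map_smul, map_sum, smul_comm (sc h ^ j) (↑(hn.unit⁻¹) : A)]
  congr 1
  rw [Finset.smul_sum]
  refine Fintype.sum_equiv (Equiv.mulLeft h)
    (fun g => σ h ((sc g⁻¹ ^ j) • σ g b)) (fun g => (sc h ^ j) • (sc g⁻¹ ^ j) • σ g b) fun g => ?_
  simp only [Equiv.coe_mulLeft, map_smul]
  rw [show σ h (σ g b) = σ (h * g) b by rw [hσmul]; rfl, smul_smul]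
  congr 1
  rw [mul_inv_rev, sc_mul, mul_pow, ← mul_assoc, mul_comm (sc h ^ j), mul_assoc, ← mul_pow,
    mul_comm (sc h), sc_inv_mul, one_pow, mul_one]

omit [IsLocalRing A] in
lemma E_add (j : ℕ) (b c : B) : E hn σ j (b + c) = E hn σ j b + E hn σ j c := by
  unfold E
  simp only [map_add, smul_add, Finset.sum_add_distrib]

omit [IsLocalRing A] in
lemma E_zero (j : ℕ) : E hn σ j (0 : B) = 0 := by
  unfold E
  simp

omit [IsLocalRing A] in
lemma E_sum {ι : Type*} (s : Finset ι) (f : ι → B) (j : ℕ) :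
    E hn σ j (∑ i ∈ s, f i) = ∑ i ∈ s, E hn σ j (f i) := by
  classical
  induction s using Finset.induction_on with
  | empty => simp [E_zero]
  | insert a s ha ih => rw [Finset.sum_insert ha, Finset.sum_insert ha, E_add, ih]

include hσ1 in
lemma sum_E (b : B) : ∑ j ∈ Finset.range n, E hn σ j b = b := by
  classical
  unfold E
  rw [← Finset.smul_sum, Finset.sum_comm]
  have key : ∀ g : rootsOfUnity n A,
      ∑ j ∈ Finset.range n, (sc g⁻¹ ^ j) • σ g b = if g = 1 then ((n : ℕ) : A) • b else 0 := by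
    intro g
    rw [← Finset.sum_smul]
    split_ifs with hg
    · subst hg
      simp [hσ1]
    · have hg' : g⁻¹ ≠ 1 := fun h => hg (inv_eq_one.1 h)
      have hu := isUnit_one_sub hn g⁻¹ hg'
      have h0 : (sc g⁻¹ - 1) * ∑ j ∈ Finset.range n, sc g⁻¹ ^ j = 0 := by
        rw [mul_geom_sum, sc_pow_n, sub_self]
      have hu' : IsUnit (sc g⁻¹ - 1) := by
        have : sc g⁻¹ - 1 = -(1 - sc g⁻¹) := by ring
        rw [this]; exact hu.neg
      rw [(hu'.mul_right_eq_zero).1 h0, zero_smul]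
  simp only [key, Finset.sum_ite_eq', Finset.mem_univ, if_true]
  rw [smul_smul]
  have : (↑(hn.unit⁻¹) : A) * ((n : ℕ) : A) = 1 := by
    calc (↑(hn.unit⁻¹) : A) * ((n : ℕ) : A) = ↑(hn.unit⁻¹) * ↑hn.unit := by rw [hn.unit_spec]
      _ = 1 := hn.unit.inv_mul
  rw [this, one_smul]

/-- `v` is an eigenvector of weight `i`. -/
def IsEig (i : ℕ) (v : B) : Prop := ∀ g : rootsOfUnity n A, σ g v = (sc g ^ i) • v

omit [IsLocalRing A] [Fintype (rootsOfUnity n A)] in
lemma IsEig.pow {v : B} (hv : IsEig σ 1 v) (j : ℕ) : IsEig σ j (v ^ j) := by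
  intro g
  rw [map_pow, hv g, pow_one, smul_pow]

omit [IsLocalRing A] [Fintype (rootsOfUnity n A)] in
lemma IsEig.smul {i : ℕ} {v : B} (hv : IsEig σ i v) (a : A) : IsEig σ i (a • v) := by
  intro g
  rw [map_smul, hv g, smul_comm]

omit [IsLocalRing A] in
include hσmul in
lemma isEig_E (j : ℕ) (b : B) : IsEig σ j (E hn σ j b) := fun g => sigma_E hn σ hσmul g j b

lemma E_eig_ne (ζ : rootsOfUnity n A) (hζ : IsPrimitiveRoot (sc ζ) n) {i j : ℕ} (hi : i < n)
    (hj : j < n) (hij : i ≠ j) {v : B} (hv : IsEig σ i v) : E hn σ j v = 0 := by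
  unfold E
  have h1 : ∑ g : rootsOfUnity n A, (sc g⁻¹ ^ j) • σ g v =
      (∑ g : rootsOfUnity n A, sc g⁻¹ ^ j * sc g ^ i) • v := by
    rw [Finset.sum_smul]
    refine Finset.sum_congr rfl fun g _ => ?_
    rw [hv g, smul_smul]
  rw [h1]
  set f : rootsOfUnity n A → A := fun g => sc g⁻¹ ^ j * sc g ^ i with hf
  set w : rootsOfUnity n A := ζ⁻¹ ^ j * ζ ^ i with hw
  have hw1 : w ≠ 1 := by
    intro h
    have h2 : ζ ^ i = ζ ^ j := by
      have := congrArg (fun x => ζ ^ j * x) h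
      simp only [hw, mul_one, ← mul_assoc, ← mul_pow, mul_inv_cancel, one_pow, one_mul] at this
      exact this
    have h3 : sc ζ ^ i = sc ζ ^ j := by
      have := congrArg sc h2
      simpa [sc] using this
    exact hij (hζ.pow_inj hi hj h3)
  have hfw : ∀ g, f (ζ * g) = sc w * f g := by
    intro g
    simp only [hf, hw, mul_inv_rev, sc_mul]
    have e1 : sc (ζ⁻¹ ^ j) = sc ζ⁻¹ ^ j := by simp [sc]
    have e2 : sc (ζ ^ i) = sc ζ ^ i := by simp [sc]
    rw [e1, e2]
    ring
  have hsum : ∑ g, f g = sc w * ∑ g, f g := by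
    rw [Finset.mul_sum]
    calc ∑ g, f g = ∑ g, f (ζ * g) :=
          (Fintype.sum_equiv (Equiv.mulLeft ζ) (fun g => f (ζ * g)) f (fun g => rfl)).symm
      _ = ∑ g, sc w * f g := Finset.sum_congr rfl fun g _ => hfw g
  have hu := isUnit_one_sub hn w hw1
  have h0 : (1 - sc w) * ∑ g, f g = 0 := by
    rw [sub_mul, one_mul, ← hsum, sub_self]
  have hS : ∑ g, f g = 0 := (hu.mul_right_eq_zero).1 h0
  show (↑(hn.unit⁻¹) : A) • (∑ g, f g) • v = 0
  rw [hS, zero_smul, smul_zero]

include hσ1 in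
lemma E_eig_self (ζ : rootsOfUnity n A) (hζ : IsPrimitiveRoot (sc ζ) n) {j : ℕ} (hj : j < n)
    {v : B} (hv : IsEig σ j v) : E hn σ j v = v := by
  have h := sum_E hn σ hσ1 v
  rw [Finset.sum_eq_single j (fun i hi hij => E_eig_ne hn σ ζ hζ hj (Finset.mem_range.1 hi)
    (Ne.symm hij) hv) (fun h' => absurd (Finset.mem_range.2 hj) h')] at h
  exact h

include hn hσ1 in
lemma eig_unique (ζ : rootsOfUnity n A) (hζ : IsPrimitiveRoot (sc ζ) n) (v : ℕ → B)
    (hv : ∀ i < n, IsEig σ i (v i)) (hsum : ∑ i ∈ Finset.range n, v i = 0) :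
    ∀ j < n, v j = 0 := by
  intro j hj
  have h1 : E hn σ j (∑ i ∈ Finset.range n, v i) = 0 := by rw [hsum, E_zero]
  rw [E_sum, Finset.sum_eq_single j (fun i hi hij => E_eig_ne hn σ ζ hζ (Finset.mem_range.1 hi) hj
    hij (hv i (Finset.mem_range.1 hi))) (fun h' => absurd (Finset.mem_range.2 hj) h'),
    E_eig_self hn σ hσ1 ζ hζ hj (hv j hj)] at h1
  exact h1

end core

section points

variable {A : Type u} [CommRing A] [IsLocalRing A] {n : ℕ}
  {B : Type u} [CommRing B] [Algebra A B] [Fintype (rootsOfUnity n A)]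
  (hn : IsUnit ((n : ℕ) : A))
  (σ : rootsOfUnity n A → (B →ₐ[A] B)) (hσ1 : σ 1 = AlgHom.id A B)
  (hσmul : ∀ g h, σ (g * h) = (σ g).comp (σ h))
  (Ω : Type u) [Field Ω] [IsAlgClosed Ω] [Algebra A Ω]
  (hT : ∀ χ χ' : B →ₐ[A] Ω, ∃! g : rootsOfUnity n A, χ.comp (σ g) = χ')

omit [IsLocalRing A] [IsAlgClosed Ω] in
include hn hσmul hT in
/-- Dedekind independence gives an eigenvector of weight one not killed by `χ₀`. -/
lemma exists_eig_one (χ₀ : B →ₐ[A] Ω) : ∃ t : B, IsEig σ 1 t ∧ χ₀ t ≠ 0 := by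
  classical
  by_contra hcon
  push_neg at hcon
  let v : rootsOfUnity n A → (B →* Ω) := fun g => ((χ₀.comp (σ g) : B →ₐ[A] Ω) : B →* Ω)
  have hvinj : Function.Injective v := by
    intro g h hgh
    have h1 : χ₀.comp (σ g) = χ₀.comp (σ h) := by
      ext b
      exact DFunLike.congr_fun hgh b
    exact (hT χ₀ (χ₀.comp (σ h))).unique h1 rfl
  have hli := (linearIndependent_monoidHom B Ω).comp v hvinj
  rw [Fintype.linearIndependent_iff] at hli
  have hc := hli (fun g => algebraMap A Ω (sc g⁻¹)) (by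
    funext b
    have h0 := hcon (E hn σ 1 b) (isEig_E hn σ hσmul 1 b)
    unfold E at h0
    rw [map_smul, map_sum, Algebra.smul_def, mul_eq_zero] at h0
    rcases h0 with h0 | h0
    · exfalso
      have hu : IsUnit (algebraMap A Ω (↑(hn.unit⁻¹) : A)) := (hn.unit⁻¹).isUnit.map _
      exact hu.ne_zero h0
    · simp only [Finset.sum_apply, Pi.smul_apply, Function.comp_apply, smul_eq_mul,
        Pi.zero_apply]
      rw [← h0]
      refine Finset.sum_congr rfl fun g _ => ?_
      rw [map_smul, Algebra.smul_def, pow_one]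
      rfl) 1
  have hu : IsUnit (algebraMap A Ω (sc (1 : rootsOfUnity n A)⁻¹)) := by
    rw [inv_one, sc_one, map_one]; exact isUnit_one
  exact hu.ne_zero hc

omit [IsLocalRing A] [Fintype (rootsOfUnity n A)] in
/-- Separation of points of the geometric fibre. -/
lemma eq_zero_of_forall_algHom [Algebra.Etale A B] (x : Ω ⊗[A] B)
    (h : ∀ π : (Ω ⊗[A] B) →ₐ[Ω] Ω, π x = 0) : x = 0 := by
  let e := Algebra.FormallyEtale.equivPiOfIsSepClosed Ω (Ω ⊗[A] B)
  apply e.injective
  rw [map_zero]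
  funext p
  exact h ((Pi.evalAlgHom Ω (fun _ => Ω) p).comp e.toAlgHom)

omit [Fintype (rootsOfUnity n A)] in
lemma exists_point [Algebra.Etale A B] [Module.Finite A B] [Nontrivial B] :
    Nonempty (B →ₐ[A] Ω) := by
  haveI : Module.Free A B := Module.free_of_flat_of_isLocalRing
  let b := Module.Free.chooseBasis A B
  haveI : Nonempty (Module.Free.ChooseBasisIndex A B) := b.index_nonempty
  let bΩ := b.baseChange Ω
  haveI : Nontrivial (Ω ⊗[A] B) := ⟨⟨bΩ (Classical.arbitrary _), 0, bΩ.ne_zero _⟩⟩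
  let e := Algebra.FormallyEtale.equivPiOfIsSepClosed Ω (Ω ⊗[A] B)
  obtain ⟨p⟩ : Nonempty (PrimeSpectrum (Ω ⊗[A] B)) := inferInstance
  let π : (Ω ⊗[A] B) →ₐ[Ω] Ω := (Pi.evalAlgHom Ω (fun _ => Ω) p).comp e.toAlgHom
  exact ⟨(π.restrictScalars A).comp Algebra.TensorProduct.includeRight⟩

omit [IsLocalRing A] in
/-- The projector as a linear map. -/
noncomputable def Elin (j : ℕ) : B →ₗ[A] B where
  toFun := E hn σ j
  map_add' := E_add hn σ j
  map_smul' a b := by
    simp only [RingHom.id_apply]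
    unfold E
    simp only [map_smul, Finset.smul_sum]
    refine Finset.sum_congr rfl fun g _ => ?_
    rw [smul_comm (sc g⁻¹ ^ j) a, smul_comm (↑(hn.unit⁻¹) : A) a]

/-- The submodule of invariants. -/
def Cinv : Submodule A B where
  carrier := {c | ∀ g : rootsOfUnity n A, σ g c = c}
  add_mem' {a b} ha hb g := by rw [map_add, ha g, hb g]
  zero_mem' g := map_zero _
  smul_mem' a b hb g := by rw [map_smul, hb g]

include hn hσ1 hσmul hT in
/-- Invariants are scalars. -/
theorem invariants_eq [Algebra.Etale A B] [Module.Finite A B] [Nontrivial B] (hn1 : 1 ≤ n)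
    (hker : ∀ a ∈ IsLocalRing.maximalIdeal A, algebraMap A Ω a = 0)
    (ζ : rootsOfUnity n A) (hζ : IsPrimitiveRoot (sc ζ) n) (c : B)
    (hc : ∀ g : rootsOfUnity n A, σ g c = c) : ∃ a : A, algebraMap A B a = c := by
  classical
  have h0n : 0 < n := hn1
  set C := Cinv (A := A) (B := B) σ with hC
  have hE0mem : ∀ b, E hn σ 0 b ∈ C := by
    intro b g
    have := sigma_E hn σ hσmul g 0 b
    simpa using this
  let E0 : B →ₗ[A] C := (Elin hn σ 0).codRestrict C hE0mem
  have hsplit : E0 ∘ₗ C.subtype = LinearMap.id := by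
    ext x
    show E hn σ 0 (x : B) = x
    exact E_eig_self hn σ hσ1 ζ hζ h0n (fun g => by simpa using x.2 g)
  haveI : Module.Free A B := Module.free_of_flat_of_isLocalRing
  haveI : Module.Projective A C := Module.Projective.of_split C.subtype E0 hsplit
  haveI : Module.Finite A C := Module.Finite.of_surjective E0 (fun x =>
    ⟨x, LinearMap.congr_fun hsplit x⟩)
  haveI : Module.Free A C := Module.free_of_flat_of_isLocalRing
  obtain ⟨χ₀⟩ := exists_point (A := A) (B := B) Ω
  let Φ : Ω ⊗[A] C →ₗ[Ω] Ω ⊗[A] B := C.subtype.baseChange Ω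
  have hΦinj : Function.Injective Φ := by
    have hl : (E0.baseChange Ω) ∘ₗ Φ = LinearMap.id := by
      rw [← LinearMap.baseChange_comp, hsplit, LinearMap.baseChange_id]
    exact Function.LeftInverse.injective (g := E0.baseChange Ω) (fun x => LinearMap.congr_fun hl x)
  let oneC : C := ⟨1, fun g => map_one _⟩
  have hgen : ∀ w : Ω ⊗[A] C, ∃ ω : Ω, ω • ((1 : Ω) ⊗ₜ[A] oneC) = w := by
    intro w
    induction w using TensorProduct.induction_on with
    | zero => exact ⟨0, zero_smul _ _⟩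
    | tmul ω x =>
      refine ⟨ω * χ₀ (x : B), hΦinj ?_⟩
      rw [map_smul]
      show (ω * χ₀ (x : B)) • ((1 : Ω) ⊗ₜ[A] (1 : B)) = ω ⊗ₜ[A] (x : B)
      rw [← sub_eq_zero]
      apply eq_zero_of_forall_algHom Ω
      intro π
      rw [map_sub, map_smul, sub_eq_zero]
      have h1 : π ((1 : Ω) ⊗ₜ[A] (1 : B)) = 1 := map_one π
      have h2 : ω ⊗ₜ[A] (x : B) = ω • ((1 : Ω) ⊗ₜ[A] (x : B)) := by
        rw [TensorProduct.smul_tmul', smul_eq_mul, mul_one]
      rw [h1, h2, map_smul, smul_eq_mul, smul_eq_mul, mul_one]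
      congr 1
      let χ : B →ₐ[A] Ω := (π.restrictScalars A).comp Algebra.TensorProduct.includeRight
      obtain ⟨g, hg, -⟩ := hT χ₀ χ
      have h3 : χ (x : B) = χ₀ (σ g (x : B)) := by rw [← hg]; rfl
      rw [x.2 g] at h3
      exact h3.symm
    | add w₁ w₂ h₁ h₂ =>
      obtain ⟨ω₁, h₁⟩ := h₁
      obtain ⟨ω₂, h₂⟩ := h₂
      exact ⟨ω₁ + ω₂, by rw [add_smul, h₁, h₂]⟩
  have hrank : Module.finrank A C ≤ 1 := by
    rw [← Module.finrank_baseChange (R := Ω) (S := A) (M' := C)]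
    exact finrank_le_one _ hgen
  let bC := Module.Free.chooseBasis A C
  have hcard : Fintype.card (Module.Free.ChooseBasisIndex A C) ≤ 1 := by
    rw [← Module.finrank_eq_card_chooseBasisIndex]; exact hrank
  haveI : Subsingleton (Module.Free.ChooseBasisIndex A C) :=
    Fintype.card_le_one_iff_subsingleton.1 hcard
  haveI : Nontrivial C := ⟨⟨oneC, 0, fun h => one_ne_zero (congrArg Subtype.val h)⟩⟩
  obtain ⟨i₀⟩ : Nonempty (Module.Free.ChooseBasisIndex A C) := bC.index_nonempty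
  have hrepr : ∀ x : C, x = (bC.repr x i₀) • bC i₀ := by
    intro x
    conv_lhs => rw [← bC.sum_repr x]
    rw [Fintype.sum_subsingleton _ i₀]
  obtain ⟨r₁, h1u⟩ : ∃ r : A, oneC = r • bC i₀ := ⟨_, hrepr oneC⟩
  have hunit : IsUnit r₁ := by
    rw [← IsLocalRing.notMem_maximalIdeal]
    intro hm
    have h2 : χ₀ ((oneC : C) : B) = 0 := by
      rw [h1u]
      show χ₀ (r₁ • ((bC i₀ : C) : B)) = 0
      rw [map_smul, Algebra.smul_def, hker _ hm, zero_mul]
    have h3 : χ₀ ((oneC : C) : B) = 1 := map_one χ₀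
    rw [h3] at h2
    exact one_ne_zero h2
  obtain ⟨r, hx⟩ : ∃ r : A, (⟨c, hc⟩ : C) = r • bC i₀ := ⟨_, hrepr ⟨c, hc⟩⟩
  obtain ⟨s₁, hs₁⟩ := hunit.exists_left_inv
  refine ⟨r * s₁, ?_⟩
  have hu : bC i₀ = s₁ • oneC := by
    rw [h1u, smul_smul, hs₁, one_smul]
  have hfin : (⟨c, hc⟩ : C) = (r * s₁) • oneC := by
    rw [mul_smul, ← hu]; exact hx
  have := congrArg (fun y : C => (y : B)) hfin
  simp only [oneC, Submodule.coe_smul] at this
  rw [Algebra.algebraMap_eq_smul_one]
  exact this.symm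

include hn hσ1 hσmul hT in
/-- The structure theorem: a unit `t` of weight one with `tⁿ = a ∈ Aˣ` whose powers
`1, t, …, t^{n-1}` form a basis of `B`. -/
theorem main_alg [Algebra.Etale A B] [Module.Finite A B] [Nontrivial B] (hn1 : 1 ≤ n)
    (hker : ∀ a ∈ IsLocalRing.maximalIdeal A, algebraMap A Ω a = 0)
    (ζ : rootsOfUnity n A) (hζ : IsPrimitiveRoot (sc ζ) n) :
    ∃ (a : Aˣ) (t : B), t ^ n = algebraMap A B a ∧ IsEig σ 1 t ∧
      (∀ b : B, ∃ c : ℕ → A, b = ∑ j ∈ Finset.range n, c j • t ^ j) ∧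
      (∀ c : ℕ → A, ∑ j ∈ Finset.range n, c j • t ^ j = 0 → ∀ j < n, c j = 0) := by
  classical
  have hn0 : n ≠ 0 := by omega
  obtain ⟨χ₀⟩ := exists_point (A := A) (B := B) Ω
  obtain ⟨t, ht1, hχt⟩ := exists_eig_one hn σ hσmul Ω hT χ₀
  have hinv := invariants_eq hn σ hσ1 hσmul Ω hT hn1 hker ζ hζ
  -- `tⁿ` is invariant
  obtain ⟨a₀, ha₀⟩ := hinv (t ^ n) (fun g => by
    rw [(ht1.pow σ n) g, sc_pow_n, one_smul])
  have ha₀u : IsUnit a₀ := by
    rw [← IsLocalRing.notMem_maximalIdeal]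
    intro hm
    have h1 : χ₀ (t ^ n) = 0 := by rw [← ha₀, AlgHom.commutes, hker _ hm]
    rw [map_pow] at h1
    exact hχt (pow_eq_zero_iff hn0 |>.1 h1)
  obtain ⟨s₀, hs₀⟩ := ha₀u.exists_left_inv
  set tinv : B := s₀ • t ^ (n - 1) with htinv
  have htt : tinv * t = 1 := by
    rw [htinv, smul_mul_assoc, pow_sub_one_mul hn0, ← ha₀, Algebra.smul_def, ← map_mul, hs₀,
      map_one]
  have htinv_eig : ∀ g : rootsOfUnity n A, σ g tinv = (sc g ^ (n - 1)) • tinv := by
    intro g
    rw [htinv, map_smul, (ht1.pow σ (n - 1)) g, smul_comm]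
  have hinj : Function.Injective (algebraMap A B) := by
    haveI : Module.Free A B := Module.free_of_flat_of_isLocalRing
    exact FaithfulSMul.algebraMap_injective A B
  refine ⟨ha₀u.unit, t, by rw [ha₀u.unit_spec, ha₀], ht1, ?_, ?_⟩
  · intro b
    have hex : ∀ j : ℕ, ∃ c : A, E hn σ j b = c • t ^ j := by
      intro j
      obtain ⟨c, hc⟩ := hinv (E hn σ j b * tinv ^ j) (fun g => by
        rw [map_mul, map_pow, sigma_E hn σ hσmul g j b, htinv_eig g, smul_pow, smul_mul_smul_comm,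
          ← pow_mul, ← pow_add]
        have : j + (n - 1) * j = n * j := by
          have : n - 1 + 1 = n := Nat.sub_add_cancel hn1
          calc j + (n - 1) * j = (n - 1 + 1) * j := by ring
            _ = n * j := by rw [this]
        rw [this, pow_mul, sc_pow_n, one_pow, one_smul])
      refine ⟨c, ?_⟩
      rw [Algebra.smul_def, hc, mul_assoc, ← mul_pow, htt, one_pow, mul_one]
    choose c hc using hex
    refine ⟨c, ?_⟩
    conv_lhs => rw [← sum_E hn σ hσ1 b]
    exact Finset.sum_congr rfl fun j _ => hc j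
  · intro c hsum j hj
    have h1 := eig_unique hn σ hσ1 ζ hζ (fun j => c j • t ^ j)
      (fun i _ => (ht1.pow σ i).smul σ (c i)) hsum j hj
    have h2 : algebraMap A B (c j) = 0 := by
      have : c j • (t ^ j * tinv ^ j) = 0 := by
        rw [← smul_mul_assoc, h1, zero_mul]
      rw [← mul_pow, mul_comm, htt, one_pow, Algebra.smul_def, mul_one] at this
      exact this
    exact hinj (by rw [h2, map_zero])

end points

end Groth.Agent.Lib27.KummerLocal
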