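import Mathlib
import Groth.Prelude.Def_SGA1t
import Groth.Agent.Lib27.Alg.KummerLocal

/-!
# Kummer theory over a local ring: the Kummer algebra (helper27)
-/

open scoped TensorProduct
universe u

namespace Groth.Agent.Lib27.KummerLocal

section kummer

variable {A : Type u} [CommRing A] {n : ℕ} (a : A)

local notation "K" => SGA1t.kummer A (fun _ : Unit => a) (fun _ : Unit => n)

/-- The class of `T`. -/
noncomputable def TT : K := Ideal.Quotient.mk _ (MvPolynomial.X ())

lemma TT_pow_n : (TT (n := n) a) ^ n = algebraMap A K a := by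
  unfold TT
  rw [← map_pow, ← sub_eq_zero]
  have : algebraMap A K a = Ideal.Quotient.mk _ (MvPolynomial.C a) := rfl
  rw [this, ← map_sub, Ideal.Quotient.eq_zero_iff_mem]
  exact Ideal.subset_span ⟨(), rfl⟩

/-- The Kummer algebra is spanned by `1, T, …, T^{n-1}`. -/
lemma span_TT (hn1 : 1 ≤ n) (x : K) :
    ∃ c : Fin n → A, ∑ j : Fin n, c j • (TT (n := n) a) ^ (j : ℕ) = x := by
  rw [← Submodule.mem_span_range_iff_exists_fun A]
  set S : Submodule A K := Submodule.span A (Set.range fun j : Fin n => (TT (n := n) a) ^ (j : ℕ))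
    with hS
  have hT : ∀ y ∈ S, TT (n := n) a * y ∈ S := by
    intro y hy
    induction hy using Submodule.span_induction with
    | mem y hy =>
      obtain ⟨j, rfl⟩ := hy
      by_cases hj : (j : ℕ) + 1 < n
      · have : TT (n := n) a * TT (n := n) a ^ (j : ℕ) = TT (n := n) a ^ ((⟨j + 1, hj⟩ : Fin n) : ℕ) := by
          rw [← pow_succ']
        rw [this]
        exact Submodule.subset_span ⟨⟨j + 1, hj⟩, rfl⟩
      · have hjn : (j : ℕ) + 1 = n := by have := j.2; omega
        have : TT (n := n) a * TT (n := n) a ^ (j : ℕ) = a • TT (n := n) a ^ ((⟨0, hn1⟩ : Fin n) : ℕ) := by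
          rw [← pow_succ', hjn, TT_pow_n, pow_zero]
          exact Algebra.algebraMap_eq_smul_one a
        rw [this]
        exact S.smul_mem a (Submodule.subset_span ⟨⟨0, hn1⟩, rfl⟩)
    | zero => rw [mul_zero]; exact zero_mem _
    | add y z _ _ hy hz => rw [mul_add]; exact add_mem hy hz
    | smul r y _ hy => rw [mul_smul_comm]; exact S.smul_mem r hy
  have hall : ∀ p : MvPolynomial Unit A, ∀ y ∈ S, (Ideal.Quotient.mk _ p : K) * y ∈ S := by
    intro p
    induction p using MvPolynomial.induction_on with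
    | C r =>
      intro y hy
      have : (Ideal.Quotient.mk _ (MvPolynomial.C r) : K) * y = r • y :=
        (Algebra.smul_def r y).symm
      rw [this]; exact S.smul_mem r hy
    | add p q hp hq =>
      intro y hy
      rw [map_add, add_mul]; exact add_mem (hp y hy) (hq y hy)
    | mul_X p i hp =>
      intro y hy
      rw [map_mul, mul_assoc]
      exact hp _ (hT y hy)
  obtain ⟨p, rfl⟩ := Ideal.Quotient.mk_surjective x
  have h1 : (1 : K) ∈ S := by
    have : (1 : K) = TT (n := n) a ^ ((⟨0, hn1⟩ : Fin n) : ℕ) := by rw [pow_zero]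
    rw [this]; exact Submodule.subset_span ⟨⟨0, hn1⟩, rfl⟩
  have := hall p 1 h1
  rwa [mul_one] at this

end kummer

section final

variable (A : Type u) [CommRing A] [IsLocalRing A] (n : ℕ) (hn1 : 1 ≤ n)
  (hn : IsUnit ((n : ℕ) : A)) (ζ₀ : A) (hζ₀ : IsPrimitiveRoot ζ₀ n)
  (B : Type u) [CommRing B] [Algebra A B] [Algebra.Etale A B] [Module.Finite A B] [Nontrivial B]
  (σ : rootsOfUnity n A → (B →ₐ[A] B)) (hσ1 : σ 1 = AlgHom.id A B)
  (hσmul : ∀ g h, σ (g * h) = (σ g).comp (σ h))
  (Ω : Type u) [Field Ω] [IsAlgClosed Ω] [Algebra A Ω]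
  (hker : ∀ a ∈ IsLocalRing.maximalIdeal A, algebraMap A Ω a = 0)
  (hT : ∀ χ χ' : B →ₐ[A] Ω, ∃! g : rootsOfUnity n A, χ.comp (σ g) = χ')

include hn1 hn hζ₀ hσ1 hσmul hker hT in
theorem main_kummer :
    ∃ (a : Aˣ) (Ψ : SGA1t.kummer A (fun _ : Unit => (a : A)) (fun _ : Unit => n) →ₐ[A] B),
      Function.Bijective Ψ ∧ ∀ (g : rootsOfUnity n A)
        (x : SGA1t.kummer A (fun _ : Unit => (a : A)) (fun _ : Unit => n)),
        σ g (Ψ x) = Ψ (SGA1t.kummerTwist A (fun _ : Unit => (a : A)) (fun _ : Unit => n)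
          (fun _ => g) x) := by
  classical
  have hn0 : n ≠ 0 := by omega
  haveI : Finite (rootsOfUnity n A) := finite_roots hn1 hn
  letI : Fintype (rootsOfUnity n A) := Fintype.ofFinite _
  let ζ : rootsOfUnity n A := ⟨(hζ₀.isUnit hn0).unit, by
    rw [mem_rootsOfUnity]
    apply Units.ext
    rw [Units.val_pow_eq_pow_val, IsUnit.unit_spec, hζ₀.pow_eq_one]
    rfl⟩
  have hζ : IsPrimitiveRoot (sc ζ) n := by
    have : sc ζ = ζ₀ := (hζ₀.isUnit hn0).unit_spec
    rw [this]; exact hζ₀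
  obtain ⟨a, t, hta, ht1, hdec, huniq⟩ :=
    main_alg hn σ hσ1 hσmul Ω hT hn1 hker ζ hζ
  refine ⟨a, ?_⟩
  set I : Ideal (MvPolynomial Unit A) := Ideal.span (Set.range fun i : Unit =>
    (MvPolynomial.X i : MvPolynomial Unit A) ^ n - MvPolynomial.C (a : A)) with hI
  have hIker : ∀ p ∈ I, (MvPolynomial.aeval (fun _ : Unit => t) : MvPolynomial Unit A →ₐ[A] B) p
      = 0 := by
    have hle : I ≤ RingHom.ker
        (MvPolynomial.aeval (fun _ : Unit => t) : MvPolynomial Unit A →ₐ[A] B).toRingHom := by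
      rw [hI, Ideal.span_le]
      rintro _ ⟨i, rfl⟩
      rw [SetLike.mem_coe, RingHom.mem_ker]
      simp only [AlgHom.toRingHom_eq_coe, RingHom.coe_coe, map_sub, map_pow, MvPolynomial.aeval_X,
        MvPolynomial.aeval_C]
      rw [hta, sub_self]
    intro p hp
    exact hle hp
  let Ψ : SGA1t.kummer A (fun _ : Unit => (a : A)) (fun _ : Unit => n) →ₐ[A] B :=
    Ideal.Quotient.liftₐ I (MvPolynomial.aeval (fun _ : Unit => t)) hIker
  have hΨmk : ∀ p : MvPolynomial Unit A,
      Ψ (Ideal.Quotient.mk I p) = MvPolynomial.aeval (fun _ : Unit => t) p := fun p => rfl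
  have hΨT : Ψ (TT (n := n) (a : A)) = t := by
    unfold TT
    rw [hΨmk, MvPolynomial.aeval_X]
  refine ⟨Ψ, ⟨?_, ?_⟩, ?_⟩
  · rw [injective_iff_map_eq_zero]
    intro x hx
    obtain ⟨c, rfl⟩ := span_TT (n := n) (a : A) hn1 x
    simp only [map_sum, map_smul, map_pow, hΨT] at hx
    let c' : ℕ → A := fun j => if h : j < n then c ⟨j, h⟩ else 0
    have h1 : ∑ j : Fin n, c j • t ^ (j : ℕ) = ∑ j ∈ Finset.range n, c' j • t ^ j := by
      rw [← Fin.sum_univ_eq_sum_range (fun j => c' j • t ^ j) n]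
      refine Finset.sum_congr rfl fun j _ => ?_
      simp only [c', j.2, dif_pos, Fin.eta]
    rw [h1] at hx
    have h2 := huniq c' hx
    refine Finset.sum_eq_zero fun j _ => ?_
    have h3 := h2 j j.2
    simp only [c', j.2, dif_pos, Fin.eta] at h3
    rw [h3, zero_smul]
  · intro b
    obtain ⟨c, hc⟩ := hdec b
    refine ⟨∑ j ∈ Finset.range n, c j • (TT (n := n) (a : A)) ^ j, ?_⟩
    simp only [map_sum, map_smul, map_pow, hΨT]
    exact hc.symm
  · intro g x
    have hpoly : (σ g).comp (MvPolynomial.aeval (fun _ : Unit => t) : MvPolynomial Unit A →ₐ[A] B)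
        = (MvPolynomial.aeval (fun _ : Unit => t) : MvPolynomial Unit A →ₐ[A] B).comp
          (MvPolynomial.aeval (R := A) (fun i : Unit =>
            MvPolynomial.C (((g : Aˣ) : A)) * (MvPolynomial.X i : MvPolynomial Unit A))) := by
      apply MvPolynomial.algHom_ext
      intro i
      rw [AlgHom.comp_apply, AlgHom.comp_apply, MvPolynomial.aeval_X, MvPolynomial.aeval_X,
        map_mul, MvPolynomial.aeval_X, MvPolynomial.aeval_C, ht1 g, pow_one, Algebra.smul_def]
      rfl
    obtain ⟨p, rfl⟩ := Ideal.Quotient.mk_surjective x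
    have h1 : SGA1t.kummerTwist A (fun _ : Unit => (a : A)) (fun _ : Unit => n) (fun _ => g)
        (Ideal.Quotient.mk _ p) = Ideal.Quotient.mk I
          ((MvPolynomial.aeval (R := A) (fun i : Unit =>
            MvPolynomial.C (((g : Aˣ) : A)) * (MvPolynomial.X i : MvPolynomial Unit A))) p) := rfl
    rw [h1, hΨmk, hΨmk]
    exact AlgHom.congr_fun hpoly p

end final

end Groth.Agent.Lib27.KummerLocal
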