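import Groth.Statements.S8358

/-! Lie algebra of a diagonalisable group: `Lie(D(M))(B) ≃ Hom(M, B)` (for S8358). -/

set_option autoImplicit false
universe u
open CategoryTheory MonObj AlgebraicGeometry
open LieS

namespace Groth.Agent.Lib27.LieDiag


variable (R : Type u) [CommRing R] (M : Type) [AddCommGroup M]
    (B : Type u) [CommRing B] [Algebra R B]

/-- points of the dual-number scheme ≃* algebra homs with convolution. -/
noncomputable def Ψ : (dpt B (Spec.map (CommRingCat.ofHom (algebraMap R B))) ⟶ Red.diag R M) ≃*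
    WithConv (MonoidAlgebra R (Multiplicative M) →ₐ[R] DualNumber B) :=
  MulEquiv.trans
    { toFun := fun v => (LieS.dptIso B).inv ≫ v
      invFun := fun w => (LieS.dptIso B).hom ≫ w
      left_inv := fun v => by simp
      right_inv := fun w => by simp
      map_mul' := fun v w => MonObj.comp_mul _ _ _ }
    Spec.mapMulEquiv.symm

theorem Ψ_apply (v : dpt B (Spec.map (CommRingCat.ofHom (algebraMap R B))) ⟶ Red.diag R M) :
    Ψ R M B v = Spec.mapMulEquiv.symm ((LieS.dptIso B).inv ≫ v) := rfl

variable {R M B}

theorem left_eq (v : dpt B (Spec.map (CommRingCat.ofHom (algebraMap R B))) ⟶ Red.diag R M) :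
    v.left = Spec.map (CommRingCat.ofHom ((Ψ R M B v).ofConv).toRingHom) := by
  have h : Spec.mapMulEquiv (Ψ R M B v) = (LieS.dptIso B).inv ≫ v := by
    rw [Ψ_apply, MulEquiv.apply_symm_apply]
  have h2 : (Spec.mapMulEquiv (Ψ R M B v)).left = (LieS.dptIso (R := R) B).inv.left ≫ v.left := by
    rw [h]; rfl
  have h3 : (LieS.dptIso (R := R) B).inv.left ≫ v.left = v.left := Category.id_comp _
  rw [h3] at h2
  rw [← h2]
  rfl

theorem one_left :
    (1 : pt B (Spec.map (CommRingCat.ofHom (algebraMap R B))) ⟶ Red.diag R M).left =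
      Spec.map (CommRingCat.ofHom ((Algebra.ofId R B).comp
        (Bialgebra.counitAlgHom R (MonoidAlgebra R (Multiplicative M)))).toRingHom) := by
  rw [Hom.one_def, Over.comp_left, one_spec_asOver_spec_left]
  have h : (CartesianMonoidalCategory.toUnit (pt B (Spec.map (CommRingCat.ofHom (algebraMap R B))))).left
      = Spec.map (CommRingCat.ofHom (algebraMap R B)) := by
    simp
  rw [h]
  exact (Spec.map_comp (CommRingCat.ofHom (Bialgebra.counitAlgHom R (MonoidAlgebra R (Multiplicative M))).toRingHom)
    (CommRingCat.ofHom (algebraMap R B))).symm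

theorem mem_Lie_iff' (v : dpt B (Spec.map (CommRingCat.ofHom (algebraMap R B))) ⟶ Red.diag R M) :
    v ∈ LieS.LieR (Red.diag R M) B ↔
      ∀ m : Multiplicative M,
        TrivSqZeroExt.fst ((Ψ R M B v).ofConv (MonoidAlgebra.single m 1)) = 1 := by
  rw [LieS.mem_Lie_iff]
  have key : (zeroSec B (Spec.map (CommRingCat.ofHom (algebraMap R B))) ≫ v = 1) ↔
      ((TrivSqZeroExt.fstHom B B B).toRingHom.comp ((Ψ R M B v).ofConv).toRingHom =
        ((Algebra.ofId R B).comp
          (Bialgebra.counitAlgHom R (MonoidAlgebra R (Multiplicative M)))).toRingHom) := by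
    constructor
    · intro h
      have h2 := congrArg (fun w => w.left) h
      simp only [Over.comp_left] at h2
      rw [one_left, left_eq v] at h2
      have h3 : (zeroSec B (Spec.map (CommRingCat.ofHom (algebraMap R B)))).left =
        Spec.map (CommRingCat.ofHom (TrivSqZeroExt.fstHom B B B).toRingHom) := rfl
      rw [h3] at h2
      have h2' : Spec.map (CommRingCat.ofHom (TrivSqZeroExt.fstHom B B B).toRingHom) ≫
          Spec.map (CommRingCat.ofHom ((Ψ R M B v).ofConv).toRingHom) =
          Spec.map (CommRingCat.ofHom ((Algebra.ofId R B).comp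
          (Bialgebra.counitAlgHom R (MonoidAlgebra R (Multiplicative M)))).toRingHom) := h2
      rw [LieS.specMap_comp] at h2'
      have h4 := Spec.map_injective h2'
      exact congrArg CommRingCat.Hom.hom h4
    · intro h
      apply Over.OverMorphism.ext
      rw [Over.comp_left, one_left, left_eq v]
      have h3 : (zeroSec B (Spec.map (CommRingCat.ofHom (algebraMap R B)))).left =
        Spec.map (CommRingCat.ofHom (TrivSqZeroExt.fstHom B B B).toRingHom) := rfl
      rw [h3]
      show Spec.map (CommRingCat.ofHom (TrivSqZeroExt.fstHom B B B).toRingHom) ≫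
          Spec.map (CommRingCat.ofHom ((Ψ R M B v).ofConv).toRingHom) =
          Spec.map (CommRingCat.ofHom ((Algebra.ofId R B).comp
          (Bialgebra.counitAlgHom R (MonoidAlgebra R (Multiplicative M)))).toRingHom)
      rw [LieS.specMap_comp, h]
  rw [key]
  constructor
  · intro h m
    have := congrArg (fun φ => φ (MonoidAlgebra.single m (1 : R))) h
    simpa using this
  · intro h
    have : ((TrivSqZeroExt.fstHom R B B).comp ((Ψ R M B v).ofConv)) =
        ((Algebra.ofId R B).comp
          (Bialgebra.counitAlgHom R (MonoidAlgebra R (Multiplicative M)))) := by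
      refine MonoidAlgebra.algHom_ext (fun m => ?_) (Subsingleton.elim _ _)
      simpa using h m
    exact congrArg AlgHom.toRingHom this


theorem convMul_single (φ ψ : WithConv (MonoidAlgebra R (Multiplicative M) →ₐ[R] DualNumber B))
    (m : Multiplicative M) :
    (φ * ψ).ofConv (MonoidAlgebra.single m 1) =
      φ.ofConv (MonoidAlgebra.single m 1) * ψ.ofConv (MonoidAlgebra.single m 1) := by
  have := AlgHom.convMul_apply φ ψ (MonoidAlgebra.single m 1)
  rw [MonoidAlgebra.comul_single] at this
  simpa using this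

theorem Ψ_scale (b : B) (v : dpt B (Spec.map (CommRingCat.ofHom (algebraMap R B))) ⟶ Red.diag R M)
    (x : MonoidAlgebra R (Multiplicative M)) :
    (Ψ R M B (scale B (Spec.map (CommRingCat.ofHom (algebraMap R B))) b ≫ v)).ofConv x =
      scaleHom b ((Ψ R M B v).ofConv x) := by
  have h1 := left_eq (scale B (Spec.map (CommRingCat.ofHom (algebraMap R B))) b ≫ v)
  have h2 : (scale B (Spec.map (CommRingCat.ofHom (algebraMap R B))) b ≫ v).left =
      Spec.map (CommRingCat.ofHom (scaleHom b)) ≫
        Spec.map (CommRingCat.ofHom ((Ψ R M B v).ofConv).toRingHom) := by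
    rw [Over.comp_left, left_eq v]; rfl
  rw [h1, LieS.specMap_comp] at h2
  have h3 := congrArg CommRingCat.Hom.hom (Spec.map_injective h2)
  exact congrArg (fun φ => φ x) h3

theorem fst_eq_one (v : LieS.LieR (Red.diag R M) B) (m : Multiplicative M) :
    TrivSqZeroExt.fst ((Ψ R M B v.1).ofConv (MonoidAlgebra.single m 1)) = 1 :=
  (mem_Lie_iff' v.1).1 v.2 m

/-- the `ε`-coefficient of a point of the Lie algebra, as an additive character. -/
noncomputable def coeff (v : LieS.LieR (Red.diag R M) B) : M →+ B where
  toFun m := TrivSqZeroExt.snd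
    ((Ψ R M B v.1).ofConv (MonoidAlgebra.single (Multiplicative.ofAdd m) 1))
  map_zero' := by
    have : (MonoidAlgebra.single (Multiplicative.ofAdd (0 : M)) (1 : R)) = 1 := rfl
    rw [this, map_one]
    simp
  map_add' m n := by
    have : (MonoidAlgebra.single (Multiplicative.ofAdd (m + n)) (1 : R)) =
        MonoidAlgebra.single (Multiplicative.ofAdd m) 1 *
          MonoidAlgebra.single (Multiplicative.ofAdd n) 1 := by
      rw [MonoidAlgebra.single_mul_single, ofAdd_add, _root_.mul_one]
    rw [this, map_mul, DualNumber.snd_mul, fst_eq_one, fst_eq_one]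
    ring

theorem coeff_apply (v : LieS.LieR (Red.diag R M) B) (m : M) :
    coeff v m = TrivSqZeroExt.snd
      ((Ψ R M B v.1).ofConv (MonoidAlgebra.single (Multiplicative.ofAdd m) 1)) := rfl

theorem coeff_mul (v w : LieS.LieR (Red.diag R M) B) : coeff (v * w) = coeff v + coeff w := by
  ext m
  rw [AddMonoidHom.add_apply, coeff_apply, coeff_apply, coeff_apply]
  have : ((v * w : LieS.LieR (Red.diag R M) B) : _ ⟶ _) = v.1 * w.1 := rfl
  rw [this, map_mul, convMul_single, DualNumber.snd_mul, fst_eq_one, fst_eq_one]
  ring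

/-- the character `m ↦ 1 + φ(m) ε`. -/
noncomputable def chi (φ : M →+ B) : Multiplicative M →* DualNumber B where
  toFun m := TrivSqZeroExt.inl 1 + TrivSqZeroExt.inr (φ (Multiplicative.toAdd m))
  map_one' := by
    ext <;> simp
  map_mul' m n := by
    ext <;> simp [add_comm]

theorem chi_fst (φ : M →+ B) (m : Multiplicative M) : TrivSqZeroExt.fst (chi φ m) = 1 := by
  simp [chi]

theorem chi_snd (φ : M →+ B) (m : Multiplicative M) :
    TrivSqZeroExt.snd (chi φ m) = φ (Multiplicative.toAdd m) := by
  simp [chi]

/-- the point of the Lie algebra attached to an additive character. -/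
noncomputable def ofChar (φ : M →+ B) : LieS.LieR (Red.diag R M) B :=
  ⟨(Ψ R M B).symm (WithConv.toConv (MonoidAlgebra.lift R (DualNumber B) (Multiplicative M) (chi φ))), by
    rw [mem_Lie_iff']
    intro m
    rw [MulEquiv.apply_symm_apply]
    simp [chi_fst]⟩

theorem coeff_ofChar (φ : M →+ B) : coeff (ofChar (R := R) φ) = φ := by
  ext m
  rw [coeff_apply]
  have : (Ψ R M B (ofChar (R := R) φ).1) =
    (WithConv.toConv (MonoidAlgebra.lift R (DualNumber B) (Multiplicative M) (chi φ))) :=
    MulEquiv.apply_symm_apply _ _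
  rw [this]
  simp [chi_snd]

theorem ofChar_coeff (v : LieS.LieR (Red.diag R M) B) : ofChar (coeff v) = v := by
  apply Subtype.ext
  show (Ψ R M B).symm _ = v.1
  rw [MulEquiv.symm_apply_eq]
  apply WithConv.ofConv_injective
  show MonoidAlgebra.lift R (DualNumber B) (Multiplicative M) (chi (coeff v)) = (Ψ R M B v.1).ofConv
  refine MonoidAlgebra.algHom_ext (fun m => ?_) (Subsingleton.elim _ _)
  rw [MonoidAlgebra.lift_single, one_smul]
  ext
  · rw [chi_fst, fst_eq_one]
  · rw [chi_snd, coeff_apply]; rfl

/-- The isomorphism `Lie(D(M))(B) ≃ Hom(M, B)`. -/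
noncomputable def e : LieS.LieR (Red.diag R M) B ≃* Multiplicative (M →+ B) where
  toFun v := Multiplicative.ofAdd (coeff v)
  invFun φ := ofChar (Multiplicative.toAdd φ)
  left_inv v := ofChar_coeff v
  right_inv φ := by
    show Multiplicative.ofAdd (coeff (ofChar (Multiplicative.toAdd φ))) = φ
    rw [coeff_ofChar]; rfl
  map_mul' v w := by
    show Multiplicative.ofAdd (coeff (v * w)) = Multiplicative.ofAdd (coeff v) * Multiplicative.ofAdd (coeff w)
    rw [coeff_mul]; rfl

theorem coeff_smul (b : B) (v : LieS.LieR (Red.diag R M) B) : coeff (b • v) = b • coeff v := by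
  ext m
  rw [coeff_apply, LieS.smul_val, Ψ_scale]
  simp [scaleHom, coeff_apply, TrivSqZeroExt.algebraMap_eq_inl', mul_comm]

end Groth.Agent.Lib27.LieDiag
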