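import Mathlib
set_option autoImplicit false
set_option maxHeartbeats 4000000
set_option synthInstance.maxHeartbeats 400000
universe u
open CategoryTheory CategoryTheory.Limits

namespace Groth.Agent.Lib27.PerfFP

/-- the property defining perfect `B`-algebras -/
abbrev PerfProp (p : ℕ) (B : CommRingCat.{u}) : ObjectProperty (Under B) :=
  fun Y : Under B => (p : Y.right) = 0 ∧ Function.Bijective fun y : Y.right => y ^ p

section Pcl

variable (p : ℕ) [Fact p.Prime] (B : Type u) {R : Type u} [CommRing B] [CommRing R] [Algebra B R]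
  [CharP R p]

/-- The perfect closure inside `R` of the subalgebra generated by `S`. -/
irreducible_def pcl (S : Set R) : Subalgebra B R :=
  { carrier := {x | ∃ n : ℕ, x ^ p ^ n ∈ Algebra.adjoin B S}
    mul_mem' := by
      rintro x y ⟨n, hn⟩ ⟨m, hm⟩
      refine ⟨n + m, ?_⟩
      rw [mul_pow, pow_add, pow_mul, mul_comm (p ^ n) (p ^ m), pow_mul y]
      exact Subalgebra.mul_mem _ (Subalgebra.pow_mem _ hn _) (Subalgebra.pow_mem _ hm _)
    add_mem' := by
      rintro x y ⟨n, hn⟩ ⟨m, hm⟩
      refine ⟨n + m, ?_⟩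
      rw [add_pow_char_pow, pow_add, pow_mul, mul_comm (p ^ n) (p ^ m), pow_mul y]
      exact Subalgebra.add_mem _ (Subalgebra.pow_mem _ hn _) (Subalgebra.pow_mem _ hm _)
    algebraMap_mem' := fun b => ⟨0, by
      rw [pow_zero, pow_one]
      exact Subalgebra.algebraMap_mem _ b⟩ }

variable {p B}

theorem mem_pcl {S : Set R} {x : R} :
    x ∈ pcl p B S ↔ ∃ n : ℕ, x ^ p ^ n ∈ Algebra.adjoin B S := by
  rw [pcl_def]
  rfl

theorem pcl_mono {S T : Set R} (h : S ⊆ T) : pcl p B S ≤ pcl p B T := by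
  intro x hx
  rw [mem_pcl] at hx ⊢
  obtain ⟨n, hn⟩ := hx
  exact ⟨n, Algebra.adjoin_mono h hn⟩

theorem self_mem_pcl (x : R) : x ∈ pcl p B ({x} : Set R) := by
  rw [mem_pcl]
  exact ⟨0, by rw [pow_zero, pow_one]; exact Algebra.subset_adjoin rfl⟩

theorem pcl_cast_eq_zero (S : Set R) : (p : pcl p B S) = 0 := by
  apply Subtype.ext
  simp

theorem pcl_bijective_pow [PerfectRing R p] (S : Set R) :
    Function.Bijective fun y : pcl p B S => y ^ p := by
  constructor
  · intro x y h
    apply Subtype.ext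
    have h' : (x : R) ^ p = (y : R) ^ p := congrArg Subtype.val h
    exact (bijective_frobenius R p).injective h'
  · intro x
    obtain ⟨y, hy⟩ := surjective_frobenius R p (x : R)
    obtain ⟨n, hn⟩ := mem_pcl.mp x.2
    refine ⟨⟨y, mem_pcl.mpr ⟨n + 1, ?_⟩⟩, Subtype.ext hy⟩
    rw [pow_succ', pow_mul]
    have : y ^ p = (x : R) := hy
    rw [this]
    exact hn

variable (p B)

/-- inclusion map -/
def incl {S T : Set R} (h : S ⊆ T) : pcl p B S →+* pcl p B T :=
  (Subalgebra.inclusion (pcl_mono h)).toRingHom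

variable {p B}

theorem incl_apply {S T : Set R} (h : S ⊆ T) (x : pcl p B S) : (incl p B h x : R) = x :=
  Subalgebra.coe_inclusion _ x

theorem incl_id (S : Set R) : incl p B (subset_refl S) = RingHom.id _ := by
  refine RingHom.ext fun x => Subtype.ext ?_
  rw [incl_apply]
  rfl

theorem incl_comp {S T U : Set R} (h : S ⊆ T) (h' : T ⊆ U) :
    (incl p B h').comp (incl p B h) = incl p B (h.trans h') := by
  refine RingHom.ext fun x => Subtype.ext ?_
  rw [RingHom.comp_apply, incl_apply, incl_apply, incl_apply]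

theorem incl_algebraMap {S T : Set R} (h : S ⊆ T) (b : B) :
    incl p B h (algebraMap B (pcl p B S) b) = algebraMap B (pcl p B T) b := by
  apply Subtype.ext
  rw [incl_apply]
  rfl

end Pcl

variable {p : ℕ} {B : CommRingCat.{u}}

theorem exists_section (A : (PerfProp p B).FullSubcategory) [IsFinitelyPresentable.{u} A]
    {J : Type u} [Preorder J] [IsDirected J (· ≤ ·)] [Nonempty J]
    (D₀ : J ⥤ CommRingCat.{u}) (s : (Functor.const J).obj B ⟶ D₀)
    (hperf : ∀ j, PerfProp p B (Under.mk (s.app j)))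
    (ι : ∀ j, D₀.obj j ⟶ A.obj.right)
    (hnat : ∀ {i j : J} (f : i ⟶ j), D₀.map f ≫ ι j = ι i)
    (hs : ∀ j, s.app j ≫ ι j = A.obj.hom)
    (hsurj : ∀ x : A.obj.right, ∃ (j : J) (y : D₀.obj j), ι j y = x)
    (hinj : ∀ j (x y : D₀.obj j), ι j x = ι j y →
      ∃ (k : J) (f : j ⟶ k), D₀.map f x = D₀.map f y) :
    ∃ (j : J) (σ : A.obj.right ⟶ D₀.obj j), A.obj.hom ≫ σ = s.app j ∧ σ ≫ ι j = 𝟙 _ := by
  let c₀ : Cocone D₀ :=
    { pt := A.obj.right
      ι := { app := ι, naturality := fun i j f => by simp [hnat f] } }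
  have hc₀ : IsColimit c₀ := by
    have : PreservesColimitsOfShape J (forget CommRingCat.{u}) :=
      PreservesFilteredColimitsOfSize.preserves_filtered_colimits J
    have : ReflectsColimit D₀ (forget CommRingCat.{u}) :=
      reflectsColimit_of_reflectsIsomorphisms _ _
    apply isColimitOfReflects (forget CommRingCat.{u})
    apply Types.FilteredColimit.isColimitOf'
    · intro x
      obtain ⟨j, y, h⟩ := hsurj x
      exact ⟨j, y, h.symm⟩
    · intro i x y h
      exact hinj i x y h
  let c₁ := Under.liftCocone D₀ s c₀ A.obj.hom hs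
  have hc₁ : IsColimit c₁ := Under.isColimitLiftCocone D₀ s c₀ A.obj.hom hs hc₀
  let D : J ⥤ (PerfProp p B).FullSubcategory := (PerfProp p B).lift (Under.lift D₀ s) hperf
  let c : Cocone D :=
    { pt := A
      ι := { app := fun j => ObjectProperty.homMk (c₁.ι.app j)
             naturality := fun i j f => by
              apply ObjectProperty.hom_ext
              exact c₁.ι.naturality f } }
  have hc : IsColimit c := isColimitOfReflects (PerfProp p B).ι hc₁
  obtain ⟨j, q, hq⟩ := IsFinitelyPresentable.exists_hom_of_isColimit hc (𝟙 A)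
  refine ⟨j, q.hom.right, ?_, ?_⟩
  · exact Under.w q.hom
  · have := congrArg (fun f => f.hom.right) hq
    exact this


section Step1

variable (p) [Fact p.Prime] (B) (R : CommRingCat.{u}) [Algebra B R] [CharP R p]

/-- the system of perfect closures of f.g. subalgebras -/
def D1 : Finset R ⥤ CommRingCat.{u} where
  obj S := CommRingCat.of (pcl p B (↑S : Set R))
  map {S T} f := CommRingCat.ofHom (incl p B (Finset.coe_subset.mpr (leOfHom f)))
  map_id S := by
    rw [← CommRingCat.ofHom_id]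
    exact congrArg CommRingCat.ofHom (incl_id _)
  map_comp f g := by
    rw [← CommRingCat.ofHom_comp]
    exact congrArg CommRingCat.ofHom (incl_comp _ _).symm

/-- structure maps -/
def s1 : (Functor.const (Finset R)).obj B ⟶ D1 p B R where
  app S := CommRingCat.ofHom (algebraMap B (pcl p B (↑S : Set R)))
  naturality S T f := by
    apply CommRingCat.hom_ext
    refine RingHom.ext fun (b : B) => ?_
    exact (incl_algebraMap (p := p) (B := B) (Finset.coe_subset.mpr (leOfHom f)) b).symm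

/-- maps to R -/
def i1 (S : Finset R) : (D1 p B R).obj S ⟶ R :=
  CommRingCat.ofHom (pcl p B (↑S : Set R)).val.toRingHom

theorem i1_apply (S : Finset R) (x : pcl p B (↑S : Set R)) : (i1 p B R S).hom x = (x : R) := rfl

theorem i1_nat {S T : Finset R} (f : S ⟶ T) : (D1 p B R).map f ≫ i1 p B R T = i1 p B R S := by
  apply CommRingCat.hom_ext
  refine RingHom.ext fun x => ?_
  exact incl_apply (p := p) (B := B) (Finset.coe_subset.mpr (leOfHom f)) x

theorem s1_i1 (S : Finset R) : (s1 p B R).app S ≫ i1 p B R S = CommRingCat.ofHom (algebraMap B R) := by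
  apply CommRingCat.hom_ext
  refine RingHom.ext fun x => ?_
  rfl

end Step1

theorem exists_finset_pcl_eq_top [Fact p.Prime] (A : (PerfProp p B).FullSubcategory)
    [IsFinitelyPresentable.{u} A] [CharP A.obj.right p] [PerfectRing A.obj.right p] :
    letI : Algebra B A.obj.right := A.obj.hom.hom.toAlgebra
    ∃ S : Finset A.obj.right, pcl p B (↑S : Set A.obj.right) = ⊤ := by
  letI : Algebra B A.obj.right := A.obj.hom.hom.toAlgebra
  obtain ⟨S, σ, h1, h2⟩ := exists_section A (D1 p B A.obj.right) (s1 p B A.obj.right)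
    (fun S => ⟨pcl_cast_eq_zero _, pcl_bijective_pow _⟩)
    (i1 p B A.obj.right)
    (fun f => i1_nat p B A.obj.right f)
    (fun S => s1_i1 p B A.obj.right S)
    (fun x => ⟨{x}, ⟨x, by rw [Finset.coe_singleton]; exact self_mem_pcl x⟩, rfl⟩)
    (fun S x y h => ⟨S, 𝟙 S, by
      have : x = y := Subtype.ext h
      rw [this]⟩)
  refine ⟨S, ?_⟩
  rw [eq_top_iff]
  intro x _
  have h3 : (σ ≫ i1 p B A.obj.right S) x = x := by
    rw [h2]; rfl
  rw [← h3]
  exact (σ x).2

section Sys

variable (p : ℕ) [Fact p.Prime] {B R : Type u} [CommRing B] [CommRing R] [Algebra B R]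
  [CharP B p] [CharP R p] [PerfectRing R p] {ι : Type u} (g : ι → R)

/-- the polynomial ring -/
abbrev T0 (B : Type u) [CommRing B] (ι : Type u) := MvPolynomial ι B

/-- evaluation -/
noncomputable abbrev kap : T0 B ι →ₐ[B] R := MvPolynomial.aeval g

/-- index: f.g. ideals inside the kernel -/
abbrev Idx := {F : Ideal (T0 B ι) // F.FG ∧ F ≤ RingHom.ker (kap (B := B) g)}

instance : Nonempty (Idx (B := B) g) := ⟨⟨⊥, Submodule.fg_bot, bot_le⟩⟩

instance : IsDirected (Idx (B := B) g) (· ≤ ·) :=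
  ⟨fun F G => ⟨⟨F.1 ⊔ G.1, Submodule.FG.sup F.2.1 G.2.1, sup_le F.2.2 G.2.2⟩,
    (le_sup_left : F.1 ≤ F.1 ⊔ G.1), (le_sup_right : G.1 ≤ F.1 ⊔ G.1)⟩⟩

variable {g}

instance charPQuot (F : Idx (B := B) g) : CharP (T0 B ι ⧸ F.1) p := by
  apply CharP.quotient' p
  intro x hx
  have h1 : (kap (B := B) g) (x : T0 B ι) = 0 := F.2.2 hx
  rw [map_natCast] at h1
  rw [CharP.cast_eq_zero_iff R p] at h1
  exact (CharP.cast_eq_zero_iff (T0 B ι) p x).mpr h1

/-- perfect closure of the quotient -/
abbrev PF (F : Idx (B := B) g) := PerfectClosure (T0 B ι ⧸ F.1) p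

/-- `of` -/
noncomputable abbrev ofF (F : Idx (B := B) g) : (T0 B ι ⧸ F.1) →+* PF p F := PerfectClosure.of _ p

/-- the map on the quotient -/
noncomputable def kapQ (F : Idx (B := B) g) : (T0 B ι ⧸ F.1) →+* R :=
  Ideal.Quotient.lift F.1 (kap (B := B) g).toRingHom (fun a ha => F.2.2 ha)

/-- the map from the perfect closure -/
noncomputable def piF (F : Idx (B := B) g) : PF p F →+* R :=
  PerfectRing.lift (ofF p F) (kapQ F) p

/-- transition -/
noncomputable def tr {F G : Idx (B := B) g} (h : F ≤ G) : PF p F →+* PF p G :=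
  PerfectRing.lift (ofF p F) ((ofF p G).comp (Ideal.Quotient.factor h)) p

/-- structure map -/
noncomputable def sB (F : Idx (B := B) g) : B →+* PF p F :=
  (ofF p F).comp (algebraMap B (T0 B ι ⧸ F.1))

@[simp] theorem piF_of (F : Idx (B := B) g) (a : T0 B ι ⧸ F.1) :
    piF p F (ofF p F a) = kapQ F a :=
  PerfectRing.lift_comp_apply _ _ _ _

theorem piF_comp_of (F : Idx (B := B) g) : (piF p F).comp (ofF p F) = kapQ F :=
  PerfectRing.lift_comp _ _ _

@[simp] theorem tr_of {F G : Idx (B := B) g} (h : F ≤ G) (a : T0 B ι ⧸ F.1) :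
    tr p h (ofF p F a) = ofF p G (Ideal.Quotient.factor h a) :=
  PerfectRing.lift_comp_apply _ _ _ _

theorem tr_comp_of {F G : Idx (B := B) g} (h : F ≤ G) :
    (tr p h).comp (ofF p F) = (ofF p G).comp (Ideal.Quotient.factor h) :=
  PerfectRing.lift_comp _ _ _

@[simp] theorem kapQ_mk (F : Idx (B := B) g) (a : T0 B ι) :
    kapQ F (Ideal.Quotient.mk F.1 a) = kap (B := B) g a := rfl

theorem kapQ_factor {F G : Idx (B := B) g} (h : F ≤ G) :
    (kapQ G).comp (Ideal.Quotient.factor h) = kapQ F := by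
  apply Ideal.Quotient.ringHom_ext
  ext a <;> rfl

theorem hom_ext_PF (F : Idx (B := B) g) {M : Type u} [CommRing M] [CharP M p] [PerfectRing M p]
    {f₁ f₂ : PF p F →+* M} (h : f₁.comp (ofF p F) = f₂.comp (ofF p F)) : f₁ = f₂ :=
  IsPRadical.injective_comp_of_perfect M (ofF p F) p h

theorem piF_tr {F G : Idx (B := B) g} (h : F ≤ G) :
    (piF p G).comp (tr p h) = piF p F := by
  apply hom_ext_PF
  rw [RingHom.comp_assoc, tr_comp_of, ← RingHom.comp_assoc, piF_comp_of, piF_comp_of, kapQ_factor]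

@[simp] theorem piF_tr_apply {F G : Idx (B := B) g} (h : F ≤ G) (x : PF p F) :
    piF p G (tr p h x) = piF p F x := congr($(piF_tr p h) x)

theorem tr_refl (F : Idx (B := B) g) : tr p (le_refl F) = RingHom.id _ := by
  apply hom_ext_PF
  rw [tr_comp_of]
  refine RingHom.ext fun a => ?_
  obtain ⟨a, rfl⟩ := Ideal.Quotient.mk_surjective a
  simp

theorem tr_trans {F G H : Idx (B := B) g} (h : F ≤ G) (h' : G ≤ H) :
    (tr p h').comp (tr p h) = tr p (h.trans h') := by
  apply hom_ext_PF
  rw [RingHom.comp_assoc, tr_comp_of, ← RingHom.comp_assoc, tr_comp_of, tr_comp_of,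
    RingHom.comp_assoc]
  congr 1
  apply Ideal.Quotient.ringHom_ext
  ext a <;> rfl

@[simp] theorem tr_trans_apply {F G H : Idx (B := B) g} (h : F ≤ G) (h' : G ≤ H) (x : PF p F) :
    tr p h' (tr p h x) = tr p (h.trans h') x := congr($(tr_trans p h h') x)

theorem tr_sB {F G : Idx (B := B) g} (h : F ≤ G) (b : B) : tr p h (sB p F b) = sB p G b := by
  simp only [sB, RingHom.comp_apply, tr_of]
  rfl

theorem piF_sB (F : Idx (B := B) g) (b : B) : piF p F (sB p F b) = algebraMap B R b := by
  simp only [sB, RingHom.comp_apply, piF_of]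
  change kapQ F (Ideal.Quotient.mk F.1 (MvPolynomial.C b)) = _
  rw [kapQ_mk]
  simp

theorem pow_inj_of_perfect {M : Type u} [CommRing M] [CharP M p] [PerfectRing M p] (n : ℕ)
    {x y : M} (h : x ^ p ^ n = y ^ p ^ n) : x = y := by
  apply (iterateFrobeniusEquiv M p n).injective
  rw [iterateFrobeniusEquiv_def, iterateFrobeniusEquiv_def]
  exact h

theorem piF_surj (hg : ∀ x : R, ∃ n : ℕ, x ^ p ^ n ∈ (kap (B := B) g).range) (x : R) :
    ∃ (F : Idx (B := B) g) (y : PF p F), piF p F y = x := by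
  obtain ⟨n, a, ha⟩ := hg x
  let F : Idx (B := B) g := ⟨⊥, Submodule.fg_bot, bot_le⟩
  refine ⟨F, (iterateFrobeniusEquiv (PF p F) p n).symm (ofF p F (Ideal.Quotient.mk F.1 a)), ?_⟩
  apply pow_inj_of_perfect p n
  rw [← map_pow, ← iterateFrobeniusEquiv_def, RingEquiv.apply_symm_apply, piF_of, kapQ_mk]
  exact ha

theorem exists_tr_eq {F : Idx (B := B) g} (u v : PF p F) (h : piF p F u = piF p F v) :
    ∃ (G : Idx (B := B) g) (hG : F ≤ G), tr p hG u = tr p hG v := by
  obtain ⟨n, a', ha'⟩ := IsPRadical.pow_mem (ofF p F) p u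
  obtain ⟨m, b', hb'⟩ := IsPRadical.pow_mem (ofF p F) p v
  have hu : ofF p F (a' ^ p ^ m) = u ^ p ^ (n + m) := by
    rw [map_pow, ha', ← pow_mul, ← pow_add]
  have hv : ofF p F (b' ^ p ^ n) = v ^ p ^ (n + m) := by
    rw [map_pow, hb', ← pow_mul, ← pow_add, add_comm]
  obtain ⟨α, hα⟩ := Ideal.Quotient.mk_surjective (a' ^ p ^ m)
  obtain ⟨β, hβ⟩ := Ideal.Quotient.mk_surjective (b' ^ p ^ n)
  rw [← hα] at hu
  rw [← hβ] at hv
  have hκ : kap (B := B) g α = kap (B := B) g β := by
    rw [← kapQ_mk F α, ← kapQ_mk F β, ← piF_of p, ← piF_of p, hu, hv, map_pow, map_pow, h]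
  have hmem : α - β ∈ RingHom.ker (kap (B := B) g) := by
    rw [RingHom.mem_ker, map_sub, hκ, sub_self]
  let G : Idx (B := B) g := ⟨F.1 ⊔ Ideal.span {α - β},
    Submodule.FG.sup F.2.1 (Submodule.fg_span_singleton _),
    sup_le F.2.2 ((Ideal.span_singleton_le_iff_mem _).mpr hmem)⟩
  have hG : F ≤ G := (le_sup_left : F.1 ≤ F.1 ⊔ Ideal.span {α - β})
  refine ⟨G, hG, ?_⟩
  apply pow_inj_of_perfect p (n + m)
  rw [← map_pow, ← map_pow, ← hu, ← hv, tr_of, tr_of]
  congr 1
  change Ideal.Quotient.mk G.1 α = Ideal.Quotient.mk G.1 β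
  rw [Ideal.Quotient.eq]
  exact Ideal.mem_sup_right (Ideal.subset_span rfl)

theorem exists_isPRadical [Finite ι]
    (hg : ∀ x : R, ∃ n : ℕ, x ^ p ^ n ∈ (kap (B := B) g).range)
    (F : Idx (B := B) g) (σ : R →+* PF p F) (hσB : ∀ b, σ (algebraMap B R b) = sB p F b)
    (hσ : ∀ x, piF p F (σ x) = x) :
    ∃ G : Idx (B := B) g, IsPRadical (kapQ G) p := by
  have h1 : ∀ i : ι, ∃ (G : Idx (B := B) g) (hG : F ≤ G), tr p hG (σ (g i)) =
      tr p hG (ofF p F (Ideal.Quotient.mk F.1 (MvPolynomial.X i))) := by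
    intro i
    apply exists_tr_eq
    rw [hσ, piF_of, kapQ_mk]
    simp
  choose G hFG hG using h1
  obtain ⟨G', hG'⟩ := Finite.exists_le G
  obtain ⟨G'', hF'', h2⟩ := exists_ge_ge F G'
  have hGi : ∀ i, G i ≤ G'' := fun i => (hG' i).trans h2
  have key : (tr p hF'').comp (σ.comp (piF p F)) = tr p hF'' := by
    apply hom_ext_PF
    apply Ideal.Quotient.ringHom_ext
    apply MvPolynomial.ringHom_ext
    · intro b
      simp only [RingHom.comp_apply]
      have e1 : ofF p F (Ideal.Quotient.mk F.1 (MvPolynomial.C b)) = sB p F b := rfl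
      rw [e1, piF_sB, hσB]
    · intro i
      simp only [RingHom.comp_apply]
      rw [piF_of, kapQ_mk]
      have e2 : kap (B := B) g (MvPolynomial.X i) = g i := by simp
      rw [e2, ← tr_trans_apply p (hFG i) (hGi i), hG i, tr_trans_apply]
  refine ⟨G'', ?_, ?_⟩
  · intro x
    obtain ⟨n, a, ha⟩ := hg x
    exact ⟨n, Ideal.Quotient.mk G''.1 a, ha⟩
  · intro a' ha'
    obtain ⟨α, rfl⟩ := Ideal.Quotient.mk_surjective a'
    have hα : kap (B := B) g α = 0 := ha'
    apply IsPRadical.ker_le (ofF p G'') p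
    rw [RingHom.mem_ker]
    have e3 : ofF p G'' (Ideal.Quotient.mk G''.1 α) =
        tr p hF'' (ofF p F (Ideal.Quotient.mk F.1 α)) := by
      rw [tr_of]; rfl
    rw [e3, ← key]
    simp only [RingHom.comp_apply]
    rw [piF_of, kapQ_mk, hα, map_zero, map_zero]


variable (B) (g)

/-- the system of perfect closures of f.p. quotients -/
noncomputable def D2 : Idx (B := B) g ⥤ CommRingCat.{u} where
  obj F := CommRingCat.of (PF p F)
  map {F G} f := CommRingCat.ofHom (tr p (leOfHom f))
  map_id F := by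
    rw [← CommRingCat.ofHom_id]
    exact congrArg CommRingCat.ofHom (tr_refl p F)
  map_comp {F G H} f f' := by
    rw [← CommRingCat.ofHom_comp]
    exact congrArg CommRingCat.ofHom (tr_trans p (leOfHom f) (leOfHom f')).symm

end Sys

section Step2

variable (p : ℕ) [Fact p.Prime] (B R : CommRingCat.{u}) [Algebra B R]
  [CharP B p] [CharP R p] [PerfectRing R p] {ι : Type u} (g : ι → R)

/-- structure maps -/
noncomputable def s2 : (Functor.const (Idx (B := B) g)).obj B ⟶ D2 p B g where
  app F := CommRingCat.ofHom (sB p F)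
  naturality F G f := by
    apply CommRingCat.hom_ext
    refine RingHom.ext fun (b : B) => ?_
    exact (tr_sB p (leOfHom f) b).symm

/-- maps to R -/
noncomputable def i2 (F : Idx (B := B) g) : (D2 p B g).obj F ⟶ R :=
  CommRingCat.ofHom (piF p F)

theorem i2_nat {F G : Idx (B := B) g} (f : F ⟶ G) :
    (D2 p B g).map f ≫ i2 p B R g G = i2 p B R g F := by
  apply CommRingCat.hom_ext
  exact piF_tr p (leOfHom f)

theorem s2_i2 (F : Idx (B := B) g) :
    (s2 p B R g).app F ≫ i2 p B R g F = CommRingCat.ofHom (algebraMap B R) := by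
  apply CommRingCat.hom_ext
  refine RingHom.ext fun (b : B) => ?_
  exact piF_sB p F b

end Step2

theorem exists_retraction [Fact p.Prime] [CharP B p] (A : (PerfProp p B).FullSubcategory)
    [IsFinitelyPresentable.{u} A] [CharP A.obj.right p] [PerfectRing A.obj.right p]
    {ι : Type u} (g : ι → A.obj.right) :
    letI : Algebra B A.obj.right := A.obj.hom.hom.toAlgebra
    (∀ x : A.obj.right, ∃ n : ℕ, x ^ p ^ n ∈ (kap (B := B) g).range) →
    ∃ (F : Idx (B := B) g) (σ : A.obj.right →+* PF p F),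
      (∀ b, σ (algebraMap B A.obj.right b) = sB p F b) ∧ (∀ x, piF p F (σ x) = x) := by
  letI : Algebra B A.obj.right := A.obj.hom.hom.toAlgebra
  intro hg
  obtain ⟨F, σ, h1, h2⟩ := exists_section A (D2 p B g) (s2 p B A.obj.right g)
    (fun F => ⟨CharP.cast_eq_zero (PF p F) p, bijective_frobenius (PF p F) p⟩)
    (i2 p B A.obj.right g)
    (fun {F G} f => i2_nat p B A.obj.right g f)
    (fun F => s2_i2 p B A.obj.right g F)
    (fun x => by
      obtain ⟨F, y, hy⟩ := piF_surj p hg x
      exact ⟨F, y, hy⟩)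
    (fun F x y h => by
      obtain ⟨G, hG, h'⟩ := exists_tr_eq p x y h
      exact ⟨G, homOfLE hG, h'⟩)
  refine ⟨F, σ.hom, ?_, ?_⟩
  · intro b
    exact congr($(h1) b)
  · intro x
    exact congr($(h2) x)

theorem main (p : ℕ) [Fact p.Prime] (B : CommRingCat.{u}) [CharP B p] [PerfectRing B p]
    (A : (PerfProp p B).FullSubcategory) [IsFinitelyPresentable.{u} A] :
    ∃ (A₀ : Type u) (_ : CommRing A₀) (_ : Algebra B A₀) (_ : Algebra.FinitePresentation B A₀)
      (k : A₀ →+* A.obj.right), k.comp (algebraMap B A₀) = A.obj.hom.hom ∧ IsPRadical k p := by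
  rcases subsingleton_or_nontrivial A.obj.right with hR | hR
  · haveI : Subsingleton (B ⧸ (⊤ : Ideal B)) := Ideal.Quotient.subsingleton_iff.mpr rfl
    refine ⟨B ⧸ (⊤ : Ideal B), inferInstance, inferInstance, ?_,
      Ideal.Quotient.lift ⊤ A.obj.hom.hom (fun a _ => Subsingleton.elim _ _), ?_, ?_⟩
    · exact Algebra.FinitePresentation.quotient ⟨{1}, by simp⟩
    · ext b
      exact Subsingleton.elim _ _
    · exact ⟨fun x => ⟨0, 0, Subsingleton.elim _ _⟩, fun a _ => by
        rw [Subsingleton.elim a 0]; exact zero_mem _⟩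
  · haveI : CharP A.obj.right p := by
      have h := CharP.ringChar_of_prime_eq_zero (R := A.obj.right) (Fact.out : p.Prime)
        A.property.1
      have h' := ringChar.charP A.obj.right
      rwa [h] at h'
    haveI : PerfectRing A.obj.right p := ⟨A.property.2⟩
    letI : Algebra B A.obj.right := A.obj.hom.hom.toAlgebra
    obtain ⟨S, hS⟩ := exists_finset_pcl_eq_top A
    let g : (↥S) → A.obj.right := fun s => (s : A.obj.right)
    have hg : ∀ x : A.obj.right, ∃ n : ℕ, x ^ p ^ n ∈ (kap (B := B) g).range := by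
      intro x
      have hx : x ∈ pcl p B (↑S : Set A.obj.right) := by rw [hS]; trivial
      obtain ⟨n, hn⟩ := mem_pcl.mp hx
      refine ⟨n, ?_⟩
      have e : (kap (B := B) g).range = Algebra.adjoin B (↑S : Set A.obj.right) := by
        rw [← Algebra.adjoin_range_eq_range_aeval]
        congr 1
        ext y
        simp [g]
      rw [e]
      exact hn
    obtain ⟨F, σ, hσB, hσ⟩ := exists_retraction A g hg
    obtain ⟨G, hG⟩ := exists_isPRadical p hg F σ hσB hσ
    refine ⟨T0 B ↥S ⧸ G.1, inferInstance, inferInstance, ?_, kapQ G, ?_, hG⟩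
    · exact Algebra.FinitePresentation.quotient G.2.1
    · ext b
      change kapQ G (Ideal.Quotient.mk G.1 (MvPolynomial.C b)) = _
      rw [kapQ_mk]
      simp
      rfl

end Groth.Agent.Lib27.PerfFP
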