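import Mathlib
set_option autoImplicit false
universe u
open TensorProduct

namespace Groth.Agent.Lib27.ProjDesc

variable {R S : Type u} [CommRing R] [CommRing S] [Algebra R S] [Module.FaithfullyFlat R S]

theorem finite_projective_of_faithfullyFlat (N : Type u) [AddCommGroup N] [Module R N]
    [Module.Finite S (S ⊗[R] N)] [Module.Projective S (S ⊗[R] N)] :
    Module.Finite R N ∧ Module.Projective R N := by
  haveI h1 : Module.Finite R N := Module.Finite.of_finite_tensorProduct_of_faithfullyFlat S
  haveI h2 : Module.Flat R N := Module.Flat.of_flat_tensorProduct R N S
  obtain ⟨k, f, hf⟩ := Module.Finite.exists_fin' R N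
  have hex : Function.Exact ((LinearMap.ker f).subtype.baseChange S) (f.baseChange S) := by
    intro x
    have := lTensor_exact S (LinearMap.exact_subtype_ker_map f) hf x
    simpa only [LinearMap.baseChange_eq_ltensor] using this
  have hinj : Function.Injective ((LinearMap.ker f).subtype.baseChange S) := by
    have := Module.Flat.lTensor_preserves_injective_linearMap (M := S) (LinearMap.ker f).subtype
      (Submodule.subtype_injective _)
    intro x y hxy
    apply this
    simpa only [LinearMap.baseChange_eq_ltensor] using hxy
  have hfs : Function.Surjective (f.baseChange S) := by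
    have := LinearMap.lTensor_surjective S hf
    intro y
    obtain ⟨x, hx⟩ := this y
    exact ⟨x, by simpa only [LinearMap.baseChange_eq_ltensor] using hx⟩
  haveI : Module.FinitePresentation S (S ⊗[R] N) := Module.finitePresentation_of_projective S _
  have hker : (LinearMap.ker (f.baseChange S)).FG := Module.FinitePresentation.fg_ker _ hfs
  have hrange : LinearMap.range ((LinearMap.ker f).subtype.baseChange S) =
      LinearMap.ker (f.baseChange S) := (LinearMap.exact_iff.mp hex).symm
  haveI : Module.Finite S (S ⊗[R] (LinearMap.ker f)) := by
    have e := LinearEquiv.ofInjective _ hinj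
    rw [hrange] at e
    haveI : Module.Finite S (LinearMap.ker (f.baseChange S)) := Module.Finite.iff_fg.mpr hker
    exact Module.Finite.equiv e.symm
  haveI : Module.Finite R (LinearMap.ker f) :=
    Module.Finite.of_finite_tensorProduct_of_faithfullyFlat S
  have hK : (LinearMap.ker f).FG := Module.Finite.iff_fg.mp inferInstance
  haveI : Module.FinitePresentation R N := Module.finitePresentation_of_free_of_surjective f hf hK
  exact ⟨h1, Module.Flat.projective_of_finitePresentation⟩

end Groth.Agent.Lib27.ProjDesc
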