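import Mathlib
import Groth.Agent.Lib27.Alg.ExtBridge
set_option autoImplicit false
universe u
open CategoryTheory TensorProduct

namespace Groth.Agent.Lib27.ProjLift

section Nil

variable {A : Type u} [CommRing A] {k : ℕ}

theorem matrix_pow_mem (I : Ideal A) (X : Matrix (Fin k) (Fin k) A) (hX : ∀ i j, X i j ∈ I)
    (m : ℕ) : ∀ i j, (X ^ m) i j ∈ I ^ m := by
  induction m with
  | zero => intro i j; rw [pow_zero, Ideal.one_eq_top]; trivial
  | succ m ih =>
    intro i j
    rw [pow_succ, pow_succ, Matrix.mul_apply]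
    exact Ideal.sum_mem _ fun l _ => Ideal.mul_mem_mul (ih i l) (hX l j)

theorem matrix_isNilpotent (I : Ideal A) (hI : ∀ x ∈ I, IsNilpotent x)
    (X : Matrix (Fin k) (Fin k) A) (hX : ∀ i j, X i j ∈ I) : IsNilpotent X := by
  let I' : Ideal A := Ideal.span (Set.range (fun ij : Fin k × Fin k => X ij.1 ij.2))
  have hfg : I'.FG := Submodule.fg_span (Set.finite_range _)
  have hle : I' ≤ nilradical A := by
    rw [Ideal.span_le]
    rintro _ ⟨ij, rfl⟩
    exact hI _ (hX _ _)
  obtain ⟨N, hN⟩ := hfg.isNilpotent_iff_le_nilradical.mpr hle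
  refine ⟨N, ?_⟩
  ext i j
  have h1 := matrix_pow_mem I' X (fun i j => Ideal.subset_span ⟨(i, j), rfl⟩) N i j
  rw [hN] at h1
  exact h1

variable {A₀ : Type u} [CommRing A₀] (τ : A →+* A₀)

theorem exists_lift_idempotent (hs : Function.Surjective τ)
    (hnil : ∀ x ∈ RingHom.ker τ, IsNilpotent x) (E₀ : Matrix (Fin k) (Fin k) A₀)
    (hE₀ : IsIdempotentElem E₀) :
    ∃ E : Matrix (Fin k) (Fin k) A, IsIdempotentElem E ∧ τ.mapMatrix E = E₀ := by
  apply exists_isIdempotentElem_eq_of_ker_isNilpotent (τ.mapMatrix (m := Fin k)) ?_ E₀ ?_ hE₀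
  · intro X hX
    apply matrix_isNilpotent (RingHom.ker τ) hnil
    intro i j
    rw [RingHom.mem_ker] at hX ⊢
    have := congrFun (congrFun hX i) j
    simpa using this
  · choose g hg using hs
    exact ⟨Matrix.of fun i j => g (E₀ i j), by ext i j; simp [hg]⟩

end Nil

section Retract

variable {B : Type u} [CommRing B] {X Y F G : Type u} [AddCommGroup X] [AddCommGroup Y]
  [AddCommGroup F] [AddCommGroup G] [Module B X] [Module B Y] [Module B F] [Module B G]

/-- equivalence of retracts -/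
noncomputable def retractEquiv (i : X →ₗ[B] F) (r : F →ₗ[B] X) (hri : ∀ x, r (i x) = x)
    (g : Y →ₗ[B] G) (f : G →ₗ[B] Y) (hfg : ∀ y, f (g y) = y) (Φ : F ≃ₗ[B] G)
    (hΦ : ∀ z, Φ (i (r z)) = g (f (Φ z))) : X ≃ₗ[B] Y :=
  LinearEquiv.ofLinearMap (f ∘ₗ Φ.toLinearMap ∘ₗ i) (r ∘ₗ Φ.symm.toLinearMap ∘ₗ g)
    (by
      ext y
      simp only [LinearMap.comp_apply, LinearEquiv.coe_coe, LinearMap.id_apply]
      rw [hΦ, LinearEquiv.apply_symm_apply, hfg, hfg])
    (by
      ext x
      simp only [LinearMap.comp_apply, LinearEquiv.coe_coe, LinearMap.id_apply]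
      rw [← hΦ, LinearEquiv.symm_apply_apply, hri, hri])

end Retract

section Lift

variable {A A₀ : Type u} [CommRing A] [CommRing A₀] [Algebra A A₀]

theorem piScalarRight_one (k : ℕ) (v : Fin k → A) :
    TensorProduct.piScalarRight A A₀ A₀ (Fin k) ((1 : A₀) ⊗ₜ[A] v) =
      fun j => algebraMap A A₀ (v j) := by
  ext j
  rw [TensorProduct.piScalarRight_apply, TensorProduct.piScalarRightHom_tmul,
    Algebra.algebraMap_eq_smul_one]

theorem exists_lift_alg (hs : Function.Surjective (algebraMap A A₀))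
    (hnil : ∀ x ∈ RingHom.ker (algebraMap A A₀), IsNilpotent x)
    (N₀ : Type u) [AddCommGroup N₀] [Module A₀ N₀] [Module.Finite A₀ N₀]
    [Module.Projective A₀ N₀] :
    ∃ (k : ℕ) (P : Submodule A (Fin k → A)), Module.Finite A P ∧ Module.Projective A P ∧
      Nonempty (A₀ ⊗[A] P ≃ₗ[A₀] N₀) := by
  obtain ⟨k, f₀, g₀, -, -, hfg⟩ := Module.Finite.exists_comp_eq_id_of_projective A₀ N₀
  have hfg' : ∀ y, f₀ (g₀ y) = y := fun y => congr($hfg y)
  let e₀ : (Fin k → A₀) →ₗ[A₀] (Fin k → A₀) := g₀ ∘ₗ f₀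
  let E₀ : Matrix (Fin k) (Fin k) A₀ := LinearMap.toMatrix' e₀
  have hE₀ : IsIdempotentElem E₀ := by
    show E₀ * E₀ = E₀
    rw [← LinearMap.toMatrix'_comp]
    congr 1
    apply LinearMap.ext
    intro y
    show g₀ (f₀ (g₀ (f₀ y))) = g₀ (f₀ y)
    rw [hfg']
  obtain ⟨E, hE, hEE₀⟩ := exists_lift_idempotent (algebraMap A A₀) hs hnil E₀ hE₀
  let e : (Fin k → A) →ₗ[A] (Fin k → A) := Matrix.toLin' E
  have hee : ∀ v, e (e v) = e v := by
    intro v
    have : e ∘ₗ e = e := by
      rw [← Matrix.toLin'_mul, hE.eq]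
    exact congr($this v)
  let P : Submodule A (Fin k → A) := LinearMap.range e
  let r : (Fin k → A) →ₗ[A] P := e.rangeRestrict
  have hri : ∀ x : P, r (P.subtype x) = x := by
    rintro ⟨x, v, rfl⟩
    apply Subtype.ext
    exact hee v
  have hir : ∀ v, P.subtype (r v) = e v := fun v => rfl
  refine ⟨k, P, Module.Finite.range e, Module.Projective.of_split P.subtype r ?_, ?_⟩
  · apply LinearMap.ext
    intro x
    exact hri x
  · let Φ : A₀ ⊗[A] (Fin k → A) ≃ₗ[A₀] (Fin k → A₀) := TensorProduct.piScalarRight A A₀ A₀ (Fin k)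
    have hΦ1 : ∀ v : Fin k → A, Φ (1 ⊗ₜ e v) = e₀ (Φ (1 ⊗ₜ v)) := by
      intro v
      rw [piScalarRight_one, piScalarRight_one]
      have h1 : e₀ = Matrix.toLin' E₀ := (Matrix.toLin'_toMatrix' e₀).symm
      rw [h1, Matrix.toLin'_apply, ← hEE₀]
      ext j
      rw [RingHom.mapMatrix_apply]
      rw [Matrix.toLin'_apply]
      exact RingHom.map_mulVec (algebraMap A A₀) E v j
    have hΦ : ∀ z, Φ ((P.subtype.baseChange A₀) ((r.baseChange A₀) z)) = g₀ (f₀ (Φ z)) := by
      intro z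
      induction z using TensorProduct.induction_on with
      | zero => simp
      | tmul c v =>
        rw [LinearMap.baseChange_tmul, LinearMap.baseChange_tmul, hir]
        have h2 : c ⊗ₜ[A] e v = c • ((1 : A₀) ⊗ₜ[A] e v) := by
          rw [TensorProduct.smul_tmul', smul_eq_mul, mul_one]
        have h3 : c ⊗ₜ[A] v = c • ((1 : A₀) ⊗ₜ[A] v) := by
          rw [TensorProduct.smul_tmul', smul_eq_mul, mul_one]
        rw [h2, h3, map_smul, map_smul, map_smul, map_smul, hΦ1]
        rfl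
      | add x y hx hy => simp only [map_add, hx, hy]
    exact ⟨retractEquiv (P.subtype.baseChange A₀) (r.baseChange A₀)
      (by
        intro z
        induction z using TensorProduct.induction_on with
        | zero => simp
        | tmul c x => rw [LinearMap.baseChange_tmul, LinearMap.baseChange_tmul, hri]
        | add x y hx hy => simp only [map_add, hx, hy])
      g₀ f₀ hfg' Φ hΦ⟩

end Lift

theorem exists_lift {A A₀ : Type u} [CommRing A] [CommRing A₀] (τ : A →+* A₀)
    (hs : Function.Surjective τ) (hnil : ∀ x ∈ RingHom.ker τ, IsNilpotent x)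
    (N₀ : ModuleCat.{u} A₀) [Module.Finite A₀ N₀] [Module.Projective A₀ N₀] :
    ∃ (P : ModuleCat.{u} A), Module.Finite A P ∧ Module.Projective A P ∧
      Nonempty ((ModuleCat.extendScalars τ).obj P ≅ N₀) := by
  letI := τ.toAlgebra
  obtain ⟨k, P, h1, h2, ⟨e⟩⟩ := exists_lift_alg (A := A) (A₀ := A₀) hs hnil N₀
  refine ⟨ModuleCat.of A P, h1, h2, ⟨?_⟩⟩
  exact ((ExtBridge.toTL (S := A₀) (ModuleCat.of A P)).trans e).toModuleIso

end Groth.Agent.Lib27.ProjLift
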