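import Mathlib

/-!
# Pure ideals and closed subsets stable under generalization

For a subset `Z` of `Spec A`, `pureI Z = ker (A → ∏_{p ∈ Z} A_p)`.  If `Z` is closed and stable
under generalization then `pureI Z` is a pure ideal (`A ⧸ pureI Z` is flat) with zero locus `Z`;
conversely if `A ⧸ I` is flat then `I = pureI (V(I))`.
-/

set_option autoImplicit false

namespace Groth.Agent.Lib27.PureIdeal

open PrimeSpectrum

variable {A : Type*} [CommRing A]

/-- `ker (A → ∏_{p ∈ Z} A_p)`. -/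
def pureI (Z : Set (PrimeSpectrum A)) : Ideal A where
  carrier := {a | ∀ p ∈ Z, ∃ s, s ∉ p.asIdeal ∧ s * a = 0}
  zero_mem' := fun p _ => ⟨1, p.asIdeal.one_notMem, by simp⟩
  add_mem' := by
    intro a b ha hb p hp
    obtain ⟨s, hs, hsa⟩ := ha p hp
    obtain ⟨t, ht, htb⟩ := hb p hp
    refine ⟨s * t, fun h => (p.isPrime.mem_or_mem h).elim hs ht, ?_⟩
    calc s * t * (a + b) = t * (s * a) + s * (t * b) := by ring
      _ = 0 := by rw [hsa, htb]; ring
  smul_mem' := by
    intro c a ha p hp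
    obtain ⟨s, hs, hsa⟩ := ha p hp
    refine ⟨s, hs, ?_⟩
    calc s * (c • a) = c * (s * a) := by rw [smul_eq_mul]; ring
      _ = 0 := by rw [hsa]; ring

lemma mem_pureI {Z : Set (PrimeSpectrum A)} {a : A} :
    a ∈ pureI Z ↔ ∀ p ∈ Z, ∃ s, s ∉ p.asIdeal ∧ s * a = 0 := Iff.rfl

lemma pureI_le_of_mem {Z : Set (PrimeSpectrum A)} {p : PrimeSpectrum A} (hp : p ∈ Z) :
    pureI Z ≤ p.asIdeal := by
  intro a ha
  obtain ⟨s, hs, hsa⟩ := ha p hp
  have : s * a ∈ p.asIdeal := by rw [hsa]; exact p.asIdeal.zero_mem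
  exact (p.isPrime.mem_or_mem this).resolve_left hs

lemma subset_zeroLocus_pureI (Z : Set (PrimeSpectrum A)) :
    Z ⊆ zeroLocus (pureI Z : Set A) := fun _ hp => pureI_le_of_mem hp

lemma pureI_zeroLocus_le (I : Ideal A) : pureI (zeroLocus (I : Set A)) ≤ I := by
  intro a ha
  -- `Ann a ⊔ I = ⊤`
  have h : (Ideal.span {a}).annihilator ⊔ I = ⊤ := by
    by_contra hne
    obtain ⟨m, hm, hle⟩ := Ideal.exists_le_maximal _ hne
    have hmI : (⟨m, hm.isPrime⟩ : PrimeSpectrum A) ∈ zeroLocus (I : Set A) := by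
      rw [mem_zeroLocus]
      exact fun x hx => hle (Ideal.mem_sup_right hx)
    obtain ⟨s, hs, hsa⟩ := ha _ hmI
    apply hs
    apply hle
    apply Ideal.mem_sup_left
    rw [Submodule.mem_annihilator_span_singleton]
    simpa using hsa
  obtain ⟨α, hα, i, hi, h1⟩ := Submodule.mem_sup.1 ((Ideal.eq_top_iff_one _).1 h)
  rw [Submodule.mem_annihilator_span_singleton] at hα
  have : a = i * a := by
    calc a = (α + i) * a := by rw [h1, one_mul]
      _ = α • a + i * a := by rw [smul_eq_mul]; ring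
      _ = i * a := by rw [hα, zero_add]
  rw [this]
  exact I.mul_mem_right _ hi

/-- purity from flatness. -/
lemma exists_mul_eq_self_of_flat (I : Ideal A) [Module.Flat A (A ⧸ I)] {a : A} (ha : a ∈ I) :
    ∃ b ∈ I, a * b = a := by
  have h0 : ∑ i : Fin 1, (fun _ => a) i • (fun _ => (1 : A ⧸ I)) i = 0 := by
    simp only [Finset.univ_unique, Finset.sum_singleton]
    rw [Algebra.smul_def, mul_one]
    exact Ideal.Quotient.eq_zero_iff_mem.2 ha
  obtain ⟨k, c, y, h1, h2⟩ := Module.Flat.isTrivialRelation_of_sum_smul_eq_zero h0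
  choose y' hy' using fun j => Ideal.Quotient.mk_surjective (y j)
  have h3 : (1 : A ⧸ I) = Ideal.Quotient.mk I (∑ j, c 0 j * y' j) := by
    have h10 : (1 : A ⧸ I) = ∑ j, c 0 j • y j := h1 0
    rw [h10, map_sum]
    refine Finset.sum_congr rfl fun j _ => ?_
    rw [map_mul, hy', Algebra.smul_def]
    rfl
  refine ⟨1 - ∑ j, c 0 j * y' j, ?_, ?_⟩
  · rw [← Ideal.Quotient.eq_zero_iff_mem, map_sub, map_one, ← h3, sub_self]
  · have h4 : a * ∑ j, c 0 j * y' j = 0 := by
      rw [Finset.mul_sum]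
      apply Finset.sum_eq_zero
      intro j _
      have := h2 j
      simp only [Finset.univ_unique, Finset.sum_singleton] at this
      rw [← mul_assoc, Fin.default_eq_zero] at *
      rw [this, zero_mul]
    rw [mul_sub, mul_one, h4, sub_zero]

lemma le_pureI_zeroLocus_of_pure (I : Ideal A) (h : ∀ a ∈ I, ∃ b ∈ I, a * b = a) :
    I ≤ pureI (zeroLocus (I : Set A)) := by
  intro a ha p hp
  obtain ⟨b, hb, hab⟩ := h a ha
  refine ⟨1 - b, fun h1 => ?_, ?_⟩
  · apply p.asIdeal.one_notMem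
    have : b ∈ p.asIdeal := hp hb
    have := p.asIdeal.add_mem h1 this
    simpa using this
  · rw [sub_mul, one_mul, mul_comm, hab, sub_self]

theorem eq_pureI_of_flat (I : Ideal A) [Module.Flat A (A ⧸ I)] :
    I = pureI (zeroLocus (I : Set A)) :=
  le_antisymm (le_pureI_zeroLocus_of_pure I fun _ ha => exists_mul_eq_self_of_flat I ha)
    (pureI_zeroLocus_le I)

/-- zero loci of pure ideals are stable under generalization. -/
lemma stableUnderGeneralization_zeroLocus_of_pure (I : Ideal A)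
    (h : ∀ a ∈ I, ∃ b ∈ I, a * b = a) :
    StableUnderGeneralization (zeroLocus (I : Set A)) := by
  intro p q hqp hp
  rw [← le_iff_specializes] at hqp
  rw [mem_zeroLocus] at hp ⊢
  intro a ha
  obtain ⟨b, hb, hab⟩ := h a ha
  have h1 : a * (1 - b) = 0 := by rw [mul_sub, mul_one, hab, sub_self]
  have h2 : a * (1 - b) ∈ q.asIdeal := by rw [h1]; exact q.asIdeal.zero_mem
  refine (q.isPrime.mem_or_mem h2).resolve_right fun h3 => ?_
  apply p.asIdeal.one_notMem
  have := p.asIdeal.add_mem (hqp h3) (hp hb)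
  simpa using this

lemma flat_quotient_of_pure (I : Ideal A) (h : ∀ a ∈ I, ∃ b ∈ I, a * b = a) :
    Module.Flat A (A ⧸ I) := by
  apply Module.Flat.of_forall_isTrivialRelation
  intro l f x hfx
  choose c hc using fun i => Ideal.Quotient.mk_surjective (x i)
  have ha : ∑ i, f i * c i ∈ I := by
    rw [← Ideal.Quotient.eq_zero_iff_mem, map_sum, ← hfx]
    refine Finset.sum_congr rfl fun i _ => ?_
    rw [map_mul, hc, Algebra.smul_def]
    rfl
  obtain ⟨b, hb, hab⟩ := h _ ha
  refine ⟨1, fun i _ => c i * (1 - b), fun _ => 1, fun i => ?_, fun j => ?_⟩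
  · simp only [Finset.univ_unique, Finset.sum_singleton]
    rw [Algebra.smul_def, mul_one]
    show x i = Ideal.Quotient.mk I (c i * (1 - b))
    rw [map_mul, hc, map_sub, map_one, Ideal.Quotient.eq_zero_iff_mem.2 hb, sub_zero, mul_one]
  · calc ∑ i, f i * (c i * (1 - b)) = (∑ i, f i * c i) * (1 - b) := by
          rw [Finset.sum_mul]; exact Finset.sum_congr rfl fun i _ => by ring
      _ = 0 := by rw [mul_sub, mul_one, hab, sub_self]



/-- the multiplicative set `{(1 + j') j^N}`. -/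
def T (J : Ideal A) (j : A) : Submonoid A where
  carrier := {t | ∃ j' ∈ J, ∃ N : ℕ, t = (1 + j') * j ^ N}
  one_mem' := ⟨0, J.zero_mem, 0, by simp⟩
  mul_mem' := by
    rintro _ _ ⟨j₁, h₁, N₁, rfl⟩ ⟨j₂, h₂, N₂, rfl⟩
    refine ⟨j₁ + j₂ + j₁ * j₂, J.add_mem (J.add_mem h₁ h₂) (J.mul_mem_left _ h₂), N₁ + N₂, ?_⟩
    rw [pow_add]; ring

lemma exists_mul_pow_eq_zero (J : Ideal A)
    (hZ : StableUnderGeneralization (zeroLocus (J : Set A))) {j : A} (hj : j ∈ J) :
    ∃ j' ∈ J, ∃ N : ℕ, (1 + j') * j ^ N = 0 := by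
  by_contra hcon
  have hdis : Disjoint ((⊥ : Ideal A) : Set A) (T J j : Set A) := by
    rw [Set.disjoint_left]
    rintro x hx ⟨j', hj', N, rfl⟩
    exact hcon ⟨j', hj', N, hx⟩
  obtain ⟨q, hq, -, hqT⟩ := Ideal.exists_le_prime_disjoint (⊥ : Ideal A) (T J j) hdis
  rw [Set.disjoint_left] at hqT
  have hjq : j ∉ q := fun h => hqT h ⟨0, J.zero_mem, 1, by simp⟩
  have hne : q ⊔ J ≠ ⊤ := by
    intro htop
    obtain ⟨x, hx, j'', hj'', h1⟩ := Submodule.mem_sup.1 ((Ideal.eq_top_iff_one _).1 htop)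
    refine hqT hx ⟨-j'', J.neg_mem hj'', 0, ?_⟩
    rw [pow_zero, mul_one, ← h1]; ring
  obtain ⟨m, hm, hle⟩ := Ideal.exists_le_maximal _ hne
  have hmJ : (⟨m, hm.isPrime⟩ : PrimeSpectrum A) ∈ zeroLocus (J : Set A) := by
    rw [mem_zeroLocus]
    exact fun x hx => hle (Ideal.mem_sup_right hx)
  have hqm : (⟨q, hq⟩ : PrimeSpectrum A) ⤳ ⟨m, hm.isPrime⟩ := by
    rw [← le_iff_specializes]
    exact fun x hx => hle (Ideal.mem_sup_left hx)
  have := hZ hqm hmJ
  rw [mem_zeroLocus] at this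
  exact hjq (this hj)

lemma exists_pow_mem_pureI (J : Ideal A)
    (hZ : StableUnderGeneralization (zeroLocus (J : Set A))) {j : A} (hj : j ∈ J) :
    ∃ N : ℕ, j ^ N ∈ pureI (zeroLocus (J : Set A)) := by
  obtain ⟨j', hj', N, h⟩ := exists_mul_pow_eq_zero J hZ hj
  refine ⟨N, fun p hp => ⟨1 + j', fun h1 => ?_, h⟩⟩
  apply p.asIdeal.one_notMem
  have := p.asIdeal.sub_mem h1 (hp hj')
  simpa using this

lemma zeroLocus_pureI (J : Ideal A)
    (hZ : StableUnderGeneralization (zeroLocus (J : Set A))) :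
    zeroLocus (pureI (zeroLocus (J : Set A)) : Set A) = zeroLocus (J : Set A) := by
  refine Set.Subset.antisymm ?_ (subset_zeroLocus_pureI _)
  intro q hq
  rw [mem_zeroLocus] at hq ⊢
  intro j hj
  obtain ⟨N, hN⟩ := exists_pow_mem_pureI J hZ hj
  exact q.isPrime.mem_of_pow_mem N (hq hN)

/-- if `α a = 0` then `(α + j)^N a = j^N a`. -/
lemma add_pow_mul_eq {α j a : A} (h : α * a = 0) (N : ℕ) : (α + j) ^ N * a = j ^ N * a := by
  obtain ⟨c, hc⟩ := sub_dvd_pow_sub_pow (α + j) j N
  have : (α + j) ^ N = j ^ N + α * c := by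
    have h2 : α + j - j = α := by ring
    rw [h2] at hc
    rw [← hc]; ring
  rw [this, add_mul]
  have : α * c * a = c * (α * a) := by ring
  rw [this, h, mul_zero, add_zero]

lemma pure_of_stable (J : Ideal A)
    (hZ : StableUnderGeneralization (zeroLocus (J : Set A))) :
    ∀ a ∈ pureI (zeroLocus (J : Set A)), ∃ b ∈ pureI (zeroLocus (J : Set A)), a * b = a := by
  intro a ha
  have h : (Ideal.span {a}).annihilator ⊔ J = ⊤ := by
    by_contra hne
    obtain ⟨m, hm, hle⟩ := Ideal.exists_le_maximal _ hne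
    have hmI : (⟨m, hm.isPrime⟩ : PrimeSpectrum A) ∈ zeroLocus (J : Set A) := by
      rw [mem_zeroLocus]
      exact fun x hx => hle (Ideal.mem_sup_right hx)
    obtain ⟨s, hs, hsa⟩ := ha _ hmI
    apply hs
    apply hle
    apply Ideal.mem_sup_left
    rw [Submodule.mem_annihilator_span_singleton]
    simpa using hsa
  obtain ⟨α, hα, j, hj, h1⟩ := Submodule.mem_sup.1 ((Ideal.eq_top_iff_one _).1 h)
  rw [Submodule.mem_annihilator_span_singleton, smul_eq_mul] at hα
  obtain ⟨N, hN⟩ := exists_pow_mem_pureI J hZ hj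
  refine ⟨j ^ N, hN, ?_⟩
  have := add_pow_mul_eq (j := j) hα N
  rw [h1, one_pow, one_mul] at this
  rw [mul_comm, ← this]


variable {B : Type*} [CommRing B] [Algebra A B]


lemma map_pureI_le (Z : Set (PrimeSpectrum A)) :
    (pureI Z).map (algebraMap A B) ≤ pureI (comap (algebraMap A B) ⁻¹' Z) := by
  rw [Ideal.map_le_iff_le_comap]
  intro a ha p' hp'
  obtain ⟨s, hs, hsa⟩ := ha _ hp'
  refine ⟨algebraMap A B s, hs, ?_⟩
  rw [← map_mul, hsa, map_zero]

lemma exists_pow_mul_mem_pureI (f : A) [IsLocalization.Away f B] (J : Ideal A)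
    (hZ : StableUnderGeneralization (zeroLocus (J : Set A))) (a : A)
    (ha : algebraMap A B a ∈ pureI (comap (algebraMap A B) ⁻¹' zeroLocus (J : Set A))) :
    ∃ M : ℕ, f ^ M * a ∈ pureI (zeroLocus (J : Set A)) := by
  have hrad : f ∈ ((Ideal.span {a}).annihilator ⊔ J).radical := by
    rw [Ideal.radical_eq_sInf, Ideal.mem_sInf]
    rintro p ⟨hle, hp⟩
    by_contra hfp
    have hmem : (⟨p, hp⟩ : PrimeSpectrum A) ∈ Set.range (comap (algebraMap A B)) := by
      rw [localization_away_comap_range B f]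
      exact hfp
    obtain ⟨p', hp'⟩ := hmem
    have hp'Z : p' ∈ comap (algebraMap A B) ⁻¹' zeroLocus (J : Set A) := by
      show comap (algebraMap A B) p' ∈ zeroLocus (J : Set A)
      rw [hp', mem_zeroLocus]
      exact fun x hx => hle (Ideal.mem_sup_right hx)
    obtain ⟨s', hs', hs'a⟩ := ha p' hp'Z
    obtain ⟨⟨s, t⟩, hst⟩ := IsLocalization.surj (Submonoid.powers f) s'
    have h0 : algebraMap A B (s * a) = 0 := by
      rw [map_mul, ← hst]
      calc s' * algebraMap A B t * algebraMap A B a = algebraMap A B t * (s' * algebraMap A B a) := by ring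
        _ = 0 := by rw [hs'a, mul_zero]
    obtain ⟨m, hm⟩ := (IsLocalization.map_eq_zero_iff (Submonoid.powers f) B (s * a)).1 h0
    have hms : (m : A) * s ∈ p := by
      apply hle
      apply Ideal.mem_sup_left
      rw [Submodule.mem_annihilator_span_singleton, smul_eq_mul, mul_assoc]
      exact hm
    have hunit : ∀ t : Submonoid.powers f, algebraMap A B t ∉ p'.asIdeal := fun t ht =>
      p'.isPrime.ne_top (Ideal.eq_top_of_isUnit_mem _ ht (IsLocalization.map_units B t))
    have hcomap : ∀ x : A, x ∈ p ↔ algebraMap A B x ∈ p'.asIdeal := by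
      intro x
      have : (comap (algebraMap A B) p').asIdeal = p := by rw [hp']
      rw [← this]
      rfl
    rcases hp.mem_or_mem hms with h | h
    · exact hunit m ((hcomap _).1 h)
    · have := (hcomap _).1 h
      rw [← hst] at this
      rcases p'.isPrime.mem_or_mem this with h' | h'
      · exact hs' h'
      · exact hunit t h'
  obtain ⟨m, hm⟩ := hrad
  obtain ⟨α, hα, j, hj, h1⟩ := Submodule.mem_sup.1 hm
  rw [Submodule.mem_annihilator_span_singleton, smul_eq_mul] at hα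
  obtain ⟨N, hN⟩ := exists_pow_mem_pureI J hZ hj
  refine ⟨m * N, ?_⟩
  rw [pow_mul, ← h1, add_pow_mul_eq hα N]
  exact Ideal.mul_mem_right _ _ hN

theorem map_pureI_away (f : A) [IsLocalization.Away f B] (J : Ideal A)
    (hZ : StableUnderGeneralization (zeroLocus (J : Set A))) :
    (pureI (zeroLocus (J : Set A))).map (algebraMap A B) =
      pureI (comap (algebraMap A B) ⁻¹' zeroLocus (J : Set A)) := by
  refine le_antisymm (map_pureI_le _) ?_
  intro b hb
  obtain ⟨⟨a, t⟩, hat⟩ := IsLocalization.surj (Submonoid.powers f) b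
  have ha : algebraMap A B a ∈ pureI (comap (algebraMap A B) ⁻¹' zeroLocus (J : Set A)) := by
    rw [← hat]
    exact Ideal.mul_mem_right _ _ hb
  obtain ⟨M, hM⟩ := exists_pow_mul_mem_pureI f J hZ a ha
  have hu : IsUnit (algebraMap A B (f ^ M * t)) := by
    rw [map_mul]
    refine IsUnit.mul ?_ (IsLocalization.map_units B t)
    rw [map_pow]
    exact (IsLocalization.map_units B (⟨f, Submonoid.mem_powers f⟩ : Submonoid.powers f)).pow M
  obtain ⟨u, hu⟩ := hu
  have h2 : b = ↑u⁻¹ * algebraMap A B (f ^ M * a) := by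
    rw [Units.eq_inv_mul_iff_mul_eq, hu, map_mul, map_mul, ← hat]
    ring
  rw [h2]
  exact Ideal.mul_mem_left _ _ (Ideal.mem_map_of_mem _ hM)


end Groth.Agent.Lib27.PureIdeal
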