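import Groth.Agent.Lib27.Alg.FunCan2
import Groth.Agent.Lib27.Alg.FunKappa
import Groth.Agent.Lib27.Alg.Amitsur1
import Groth.Agent.Lib27.Alg.PureDesc2
set_option autoImplicit false
set_option maxHeartbeats 4000000
set_option synthInstance.maxHeartbeats 400000
universe u
open CategoryTheory CategoryTheory.Limits Opposite TensorProduct ChangeOfRings

namespace Groth.Agent.Lib27.FunDesc

open Groth.Agent.Lib27.ModDesc Groth.Agent.Lib27.PureDesc2 Groth.Agent.Lib27.Amitsur1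

theorem op_ofHom_comp {A₁ A₂ A₃ : Type u} [CommRing A₁] [CommRing A₂] [CommRing A₃]
    (g : A₁ →+* A₂) (h : A₂ →+* A₃) (k : A₁ →+* A₃) (e : h.comp g = k) :
    (CommRingCat.ofHom h).op ≫ (CommRingCat.ofHom g).op = (CommRingCat.ofHom k).op := by
  subst e
  rfl

variable (R B : Type u) [CommRing R] [CommRing B] [Algebra R B]

/-- `a ⊗ b ↦ a ⊗ (b ⊗ 1)` -/
noncomputable def p12 : B ⊗[R] B →+* B ⊗[R] (B ⊗[R] B) :=
  (Algebra.TensorProduct.map (AlgHom.id R B)
    (Algebra.TensorProduct.includeLeft : B →ₐ[R] B ⊗[R] B)).toRingHom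

/-- `a ⊗ b ↦ a ⊗ (1 ⊗ b)` -/
noncomputable def p13 : B ⊗[R] B →+* B ⊗[R] (B ⊗[R] B) :=
  (Algebra.TensorProduct.map (AlgHom.id R B)
    (Algebra.TensorProduct.includeRight : B →ₐ[R] B ⊗[R] B)).toRingHom

@[simp] theorem p12_tmul (a b : B) : p12 R B (a ⊗ₜ[R] b) = a ⊗ₜ[R] (b ⊗ₜ[R] (1 : B)) := by
  simp [p12]

@[simp] theorem p13_tmul (a b : B) : p13 R B (a ⊗ₜ[R] b) = a ⊗ₜ[R] ((1 : B) ⊗ₜ[R] b) := by
  simp [p13]

theorem i1_comp_alg : (i1 R B).comp (algebraMap R B) = algebraMap R (B ⊗[R] B) := by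
  ext r
  rfl

theorem i2_comp_alg : (i2 R B).comp (algebraMap R B) = algebraMap R (B ⊗[R] B) := by
  rw [← i1_comp_eq, i1_comp_alg]

theorem k1_comp_alg : (k1 (R := R) (S := B)).comp (algebraMap R B) =
    algebraMap R (B ⊗[R] (B ⊗[R] B)) := by
  ext r
  rfl

theorem k2_comp_alg : (k2 (R := R) (S := B)).comp (algebraMap R B) =
    algebraMap R (B ⊗[R] (B ⊗[R] B)) := by
  rw [← k1_comp_eq, k1_comp_alg]

theorem k3_comp_alg : (k3 (R := R) (S := B)).comp (algebraMap R B) =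
    algebraMap R (B ⊗[R] (B ⊗[R] B)) := by
  rw [← k1_comp_eq', k1_comp_alg]

theorem p12_comp_i1 : (p12 R B).comp (i1 R B) = k1 := by
  ext a
  simp [Algebra.TensorProduct.one_def]

theorem p12_comp_i2 : (p12 R B).comp (i2 R B) = k2 := by
  ext a
  simp

theorem p13_comp_i1 : (p13 R B).comp (i1 R B) = k1 := by
  ext a
  simp [Algebra.TensorProduct.one_def]

theorem p13_comp_i2 : (p13 R B).comp (i2 R B) = k3 := by
  ext a
  simp

/-- the standard cover data of `R → B` -/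
noncomputable def stdCov : Cov (S := op (CommRingCat.of R)) (X := fun _ => op (CommRingCat.of B))
    (fun _ : PUnit.{u + 1} => (CommRingCat.ofHom (algebraMap R B)).op) where
  Y₀ := op (CommRingCat.of (B ⊗[R] B))
  q₀ := (CommRingCat.ofHom (algebraMap R (B ⊗[R] B))).op
  i₁ := (CommRingCat.ofHom (i1 R B)).op
  i₂ := (CommRingCat.ofHom (i2 R B)).op
  hi₁ := op_ofHom_comp _ _ _ (i1_comp_alg R B)
  hi₂ := op_ofHom_comp _ _ _ (i2_comp_alg R B)
  Z₀ := op (CommRingCat.of (B ⊗[R] (B ⊗[R] B)))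
  r₀ := (CommRingCat.ofHom (algebraMap R (B ⊗[R] (B ⊗[R] B)))).op
  j₁ := (CommRingCat.ofHom (k1 (R := R) (S := B))).op
  j₂ := (CommRingCat.ofHom (k2 (R := R) (S := B))).op
  j₃ := (CommRingCat.ofHom (k3 (R := R) (S := B))).op
  hj₁ := op_ofHom_comp _ _ _ (k1_comp_alg R B)
  hj₂ := op_ofHom_comp _ _ _ (k2_comp_alg R B)
  hj₃ := op_ofHom_comp _ _ _ (k3_comp_alg R B)
  p₁₂ := (CommRingCat.ofHom (p12 R B)).op
  p₁₃ := (CommRingCat.ofHom (p13 R B)).op
  p₂₃ := (CommRingCat.ofHom (kr (R := R) (S := B))).op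
  h121 := op_ofHom_comp _ _ _ (p12_comp_i1 R B)
  h122 := op_ofHom_comp _ _ _ (p12_comp_i2 R B)
  h131 := op_ofHom_comp _ _ _ (p13_comp_i1 R B)
  h133 := op_ofHom_comp _ _ _ (p13_comp_i2 R B)
  h232 := op_ofHom_comp _ _ _ rfl
  h233 := op_ofHom_comp _ _ _ rfl
  univ := by
    intro Y f₁ f₂ h
    induction Y using Opposite.rec with
    | op T =>
      have h' : f₁.unop.hom.comp (algebraMap R B) = f₂.unop.hom.comp (algebraMap R B) := by
        have := congrArg (fun k => k.unop.hom) h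
        exact this
      refine ⟨(CommRingCat.ofHom (liftT (R := R) f₁.unop.hom f₂.unop.hom h')).op, ?_, ?_⟩
      · apply Quiver.Hom.unop_inj
        ext x
        exact congr($(liftT_comp_i1 (R := R) f₁.unop.hom f₂.unop.hom h') x)
      · apply Quiver.Hom.unop_inj
        ext x
        exact congr($(liftT_comp_i2 (R := R) f₁.unop.hom f₂.unop.hom h') x)

end Groth.Agent.Lib27.FunDesc
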