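import Groth.Agent.Lib27.Alg.StdCov
set_option autoImplicit false
set_option maxHeartbeats 4000000
set_option synthInstance.maxHeartbeats 400000
universe u
open CategoryTheory CategoryTheory.Limits Opposite TensorProduct ChangeOfRings

namespace Groth.Agent.Lib27.FunDesc

open Groth.Agent.Lib27.ModDesc Groth.Agent.Lib27.PureDesc2 Groth.Agent.Lib27.Amitsur1

variable (R B : Type u) [CommRing R] [CommRing B] [Algebra R B] (N : ModuleCat.{u} R)

/-- bridge in degree one -/
noncomputable def xi2 : (ModuleCat.extendScalars (algebraMap R (B ⊗[R] B))).obj N →+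
    B ⊗[R] (B ⊗[R] N) :=
  (TensorProduct.assoc R B B N).toLinearMap.toAddMonoidHom.comp (toT (S := B ⊗[R] B) N)

/-- bridge in degree two -/
noncomputable def xi3 : (ModuleCat.extendScalars (algebraMap R (B ⊗[R] (B ⊗[R] B)))).obj N →+
    B ⊗[R] (B ⊗[R] (B ⊗[R] N)) :=
  ((TensorProduct.assoc R B B N).toLinearMap.lTensor B).toAddMonoidHom.comp
    ((TensorProduct.assoc R B (B ⊗[R] B) N).toLinearMap.toAddMonoidHom.comp
      (toT (S := B ⊗[R] (B ⊗[R] B)) N))

theorem xi2_etmul (a b : B) (n : N) :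
    xi2 R B N (etmul (algebraMap R (B ⊗[R] B)) N (a ⊗ₜ[R] b) n) = a ⊗ₜ[R] (b ⊗ₜ[R] n) := rfl

theorem xi3_etmul (a b c : B) (n : N) :
    xi3 R B N (etmul (algebraMap R (B ⊗[R] (B ⊗[R] B))) N (a ⊗ₜ[R] (b ⊗ₜ[R] c)) n) =
      a ⊗ₜ[R] (b ⊗ₜ[R] (c ⊗ₜ[R] n)) := rfl

theorem xi2_injective : Function.Injective (xi2 R B N) :=
  (TensorProduct.assoc R B B N).injective.comp (toT_injective N)

end Groth.Agent.Lib27.FunDesc

namespace Groth.Agent.Lib27.FunDesc

open Groth.Agent.Lib27.ModDesc Groth.Agent.Lib27.PureDesc2 Groth.Agent.Lib27.Amitsur1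

variable (R B : Type u) [CommRing R] [CommRing B] [Algebra R B] (N : ModuleCat.{u} R)

theorem am0_etmul (s : B) (n : N) :
    am0 (𝟭 CommRingCat.{u}) (stdCov R B) N (etmul (algebraMap R B) N s n) =
      etmul (algebraMap R (B ⊗[R] B)) N (s ⊗ₜ[R] (1 : B)) n -
        etmul (algebraMap R (B ⊗[R] B)) N ((1 : B) ⊗ₜ[R] s) n := by
  have e1 := bc_etmul (𝟭 CommRingCat.{u}) (Xu := op (CommRingCat.of R)) N _ (stdCov R B).i₁
    (stdCov R B).q₀ (stdCov R B).hi₁ s n
  have e2 := bc_etmul (𝟭 CommRingCat.{u}) (Xu := op (CommRingCat.of R)) N _ (stdCov R B).i₂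
    (stdCov R B).q₀ (stdCov R B).hi₂ s n
  exact congrArg₂ (fun a b => a - b) e1 e2

theorem am1_etmul (w : B ⊗[R] B) (n : N) :
    am1 (𝟭 CommRingCat.{u}) (stdCov R B) N (etmul (algebraMap R (B ⊗[R] B)) N w n) =
      etmul (algebraMap R (B ⊗[R] (B ⊗[R] B))) N (p12 R B w) n -
        etmul (algebraMap R (B ⊗[R] (B ⊗[R] B))) N (p13 R B w) n +
        etmul (algebraMap R (B ⊗[R] (B ⊗[R] B))) N ((1 : B) ⊗ₜ[R] w) n := by
  have e1 := bc_etmul (𝟭 CommRingCat.{u}) (Xu := op (CommRingCat.of R)) N (stdCov R B).q₀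
    (stdCov R B).p₁₂ (stdCov R B).r₀ (stdCov R B).hq12 w n
  have e2 := bc_etmul (𝟭 CommRingCat.{u}) (Xu := op (CommRingCat.of R)) N (stdCov R B).q₀
    (stdCov R B).p₁₃ (stdCov R B).r₀ (stdCov R B).hq13 w n
  have e3 := bc_etmul (𝟭 CommRingCat.{u}) (Xu := op (CommRingCat.of R)) N (stdCov R B).q₀
    (stdCov R B).p₂₃ (stdCov R B).r₀ (stdCov R B).hq23 w n
  exact congrArg₂ (fun a b => a + b) (congrArg₂ (fun a b => a - b) e1 e2) e3

/-- `am0` with plain types -/
noncomputable def am0' : (ModuleCat.extendScalars (algebraMap R B)).obj N →+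
    (ModuleCat.extendScalars (algebraMap R (B ⊗[R] B))).obj N :=
  am0 (𝟭 CommRingCat.{u}) (stdCov R B) N

/-- `am1` with plain types -/
noncomputable def am1' : (ModuleCat.extendScalars (algebraMap R (B ⊗[R] B))).obj N →+
    (ModuleCat.extendScalars (algebraMap R (B ⊗[R] (B ⊗[R] B)))).obj N :=
  am1 (𝟭 CommRingCat.{u}) (stdCov R B) N

theorem am0'_etmul (s : B) (n : N) :
    am0' R B N (etmul (algebraMap R B) N s n) =
      etmul (algebraMap R (B ⊗[R] B)) N (s ⊗ₜ[R] (1 : B)) n -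
        etmul (algebraMap R (B ⊗[R] B)) N ((1 : B) ⊗ₜ[R] s) n := am0_etmul R B N s n

theorem am1'_etmul (w : B ⊗[R] B) (n : N) :
    am1' R B N (etmul (algebraMap R (B ⊗[R] B)) N w n) =
      etmul (algebraMap R (B ⊗[R] (B ⊗[R] B))) N (p12 R B w) n -
        etmul (algebraMap R (B ⊗[R] (B ⊗[R] B))) N (p13 R B w) n +
        etmul (algebraMap R (B ⊗[R] (B ⊗[R] B))) N ((1 : B) ⊗ₜ[R] w) n := am1_etmul R B N w n

theorem xi2_am0 (x : (ModuleCat.extendScalars (algebraMap R B)).obj N) :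
    xi2 R B N (am0' R B N x) = d0N R B N (toT (S := B) N x) := by
  induction x using etmul_induction with
  | h0 => rw [map_zero, map_zero, map_zero, map_zero]
  | h1 s n =>
    rw [am0'_etmul, map_sub, xi2_etmul, xi2_etmul, toT_etmul, d0N_tmul]
  | h2 x y hx hy => rw [map_add, map_add, hx, hy, map_add, map_add]

theorem xi3_am1 (z : (ModuleCat.extendScalars (algebraMap R (B ⊗[R] B))).obj N) :
    xi3 R B N (am1' R B N z) = d1N R B N (xi2 R B N z) := by
  induction z using etmul_induction with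
  | h0 => rw [map_zero, map_zero, map_zero, map_zero]
  | h1 w n =>
    induction w using TensorProduct.induction_on with
    | zero => rw [etmul_zero_left, map_zero, map_zero, map_zero, map_zero]
    | tmul a b =>
      rw [am1'_etmul, map_add, map_sub, p12_tmul, p13_tmul, xi3_etmul, xi3_etmul, xi3_etmul,
        xi2_etmul, d1N_tmul]
    | add w w' hw hw' =>
      rw [etmul_add_left, map_add, map_add, hw, hw', map_add, map_add]
  | h2 x y hx hy => rw [map_add, map_add, hx, hy, map_add, map_add]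

theorem amExact_std' [Module.FaithfullyFlat R B]
    (z : (ModuleCat.extendScalars (algebraMap R (B ⊗[R] B))).obj N) (hz : am1' R B N z = 0) :
    ∃ x : (ModuleCat.extendScalars (algebraMap R B)).obj N, am0' R B N x = z := by
  have h1 : d1N R B N (xi2 R B N z) = 0 := by
    rw [← xi3_am1, hz, map_zero]
  obtain ⟨y, hy⟩ := (exact_d0N_d1N R B N (xi2 R B N z)).mp h1
  refine ⟨ofT (S := B) N y, ?_⟩
  apply xi2_injective R B N
  rw [xi2_am0, toT_ofT, hy]

theorem amExact_std [Module.FaithfullyFlat R B] :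
    AmExact (𝟭 CommRingCat.{u}) (stdCov R B) N :=
  fun z hz => amExact_std' R B N z hz

end Groth.Agent.Lib27.FunDesc
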