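import Groth.Agent.Lib27.Alg.StdCov2
set_option autoImplicit false
set_option maxHeartbeats 4000000
set_option synthInstance.maxHeartbeats 400000
universe u
open CategoryTheory CategoryTheory.Limits Opposite TensorProduct ChangeOfRings

namespace Groth.Agent.Lib27.FunDesc

open Groth.Agent.Lib27.ModDesc

variable (R B : Type u) [CommRing R] [CommRing B] [Algebra R B]

theorem exists_module_std [Module.FaithfullyFlat R B]
    (Db : (PFof (𝟭 CommRingCat.{u})).DescentData (S := op (CommRingCat.of R))
      (X := fun _ => op (CommRingCat.of B))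
      (fun _ : PUnit.{u + 1} => (CommRingCat.ofHom (algebraMap R B)).op)) :
    ∃ N : ModuleCat.{u} R, Nonempty (((PFof (𝟭 CommRingCat.{u})).toDescentData
      (S := op (CommRingCat.of R)) (X := fun _ => op (CommRingCat.of B))
      (fun _ : PUnit.{u + 1} => (CommRingCat.ofHom (algebraMap R B)).op)).obj N ≅ Db) :=
  ModDesc.main R B Db

theorem H1van_std [Module.FaithfullyFlat R B]
    (Db : (PFof (𝟭 CommRingCat.{u})).DescentData (S := op (CommRingCat.of R))
      (X := fun _ => op (CommRingCat.of B))
      (fun _ : PUnit.{u + 1} => (CommRingCat.ofHom (algebraMap R B)).op)) :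
    H1van (𝟭 CommRingCat.{u}) Db (stdCov R B) := by
  obtain ⟨N, ⟨e⟩⟩ := exists_module_std R B Db
  obtain ⟨κ, hκ⟩ := exists_kappa_of_iso (𝟭 CommRingCat.{u}) Db N e
  exact H1van_of_can (𝟭 CommRingCat.{u}) Db (stdCov R B) N κ hκ (amExact_std R B N)

end Groth.Agent.Lib27.FunDesc
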