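import Mathlib
import Groth.Prelude.Def_W4c3truncdispsmoothDesc
import Groth.Agent.Lib27.Alg.FunDesc2
set_option autoImplicit false
set_option maxHeartbeats 4000000
set_option synthInstance.maxHeartbeats 400000
universe u
open CategoryTheory CategoryTheory.Limits Opposite TensorProduct ChangeOfRings

namespace Groth.Agent.Lib27.WittDesc

open Groth.Agent.Lib27.ModDesc Groth.Agent.Lib27.FunDesc W4c3truncdispsmooth

variable (p : ℕ) [Fact p.Prime] (n : ℕ)

theorem wittModPF_eq : wittModPF.{u} p n = PFof (wittTrunc.{u} p n) := rfl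

section Exact

variable (R R' : Type u) [CommRing R] [CommRing R'] [Algebra R R']

theorem truncMap_injective (hinj : Function.Injective (algebraMap R R')) :
    Function.Injective (WittGrp.truncMap p n (algebraMap R R')) := by
  intro x y hxy
  ext i
  apply hinj
  rw [← WittGrp.coeff_truncMap, ← WittGrp.coeff_truncMap, hxy]

theorem truncMap_exact [Module.FaithfullyFlat R R'] (b : TruncatedWittVector p n R')
    (hb : WittGrp.truncMap p n (i1 R R') b = WittGrp.truncMap p n (i2 R R') b) :
    ∃ a : TruncatedWittVector p n R, WittGrp.truncMap p n (algebraMap R R') a = b := by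
  have heff : Algebra.IsEffective R R' := Algebra.IsEffective.of_faithfullyFlat R R'
  have h1 : ∀ i : Fin n, ∃ r : R, algebraMap R R' r = b.coeff i := by
    intro i
    have h2 := congrArg (fun z => z.coeff i) hb
    simp only [WittGrp.coeff_truncMap, i1_apply, i2_apply] at h2
    have h3 : Algebra.TensorProduct.includeLeftSubRight R R' (b.coeff i) = 0 := by
      rw [Algebra.TensorProduct.includeLeftSubRight_apply, h2, sub_self]
    obtain ⟨r, hr⟩ := (heff (b.coeff i)).mp h3
    exact ⟨r, hr⟩
  choose r hr using h1
  refine ⟨TruncatedWittVector.mk p r, ?_⟩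
  ext i
  rw [WittGrp.coeff_truncMap, TruncatedWittVector.coeff_mk, hr]

end Exact

theorem main' (R R' : Type u) [CommRing R] [CommRing R'] [Algebra R R'] [Module.FaithfullyFlat R R']
    (M N : ModuleCat.{u} ((wittTrunc.{u} p n).obj (unop (op (CommRingCat.of R)))))
    [Module.Flat ((wittTrunc.{u} p n).obj (unop (op (CommRingCat.of R)))) N] :
    Function.Bijective (fun φ : M ⟶ N =>
      ((PFof (wittTrunc.{u} p n)).toDescentData
        (fun _ : PUnit.{u + 1} => (CommRingCat.ofHom (algebraMap R R')).op)).map φ) := by
  have hinj : Function.Injective (WittGrp.truncMap p n (algebraMap R R')) :=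
    truncMap_injective p n R R' (FaithfulSMul.algebraMap_injective R R')
  have hex := truncMap_exact p n R R'
  exact FunDesc.map_bijective (wittTrunc.{u} p n) (S := op (CommRingCat.of R))
    (X := fun _ => op (CommRingCat.of R'))
    (fun _ => (CommRingCat.ofHom (algebraMap R R')).op)
    (Y₀ := op (CommRingCat.of (R' ⊗[R] R')))
    (CommRingCat.ofHom ((i1 R R').comp (algebraMap R R'))).op
    (CommRingCat.ofHom (i1 R R')).op (CommRingCat.ofHom (i2 R R')).op rfl
    (by
      show (CommRingCat.ofHom (i2 R R')).op ≫ (CommRingCat.ofHom (algebraMap R R')).op = _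
      rw [← op_comp, ← CommRingCat.ofHom_comp, i1_comp_eq])
    hinj hex (M := M) (N := N)

theorem main3 (R R' : Type u) [CommRing R] [CommRing R'] [Algebra R R'] [Module.FaithfullyFlat R R']
    (M N : ModuleCat.{u} (TruncatedWittVector p n R))
    [hN : Module.Flat (TruncatedWittVector p n R) N] :
    Function.Bijective (fun φ : M ⟶ N =>
      ((PFof (wittTrunc.{u} p n)).toDescentData
        (fun _ : PUnit.{u + 1} => (CommRingCat.ofHom (algebraMap R R')).op)).map φ) :=
  @main' p _ n R R' _ _ _ _ M N hN

theorem X0 (R R' : Type u) [CommRing R] [CommRing R'] [Algebra R R'] :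
    ((W4c3truncdispsmooth.wittModPF.{u} p n).toDescentData
        (fun _ : PUnit.{u + 1} => (CommRingCat.ofHom (algebraMap R R')).op)) =
    ((PFof (wittTrunc.{u} p n)).toDescentData
        (fun _ : PUnit.{u + 1} => (CommRingCat.ofHom (algebraMap R R')).op)) := rfl

theorem key (R R' : Type u) [CommRing R] [CommRing R'] [Algebra R R'] [Module.FaithfullyFlat R R']
    (M N : ModuleCat.{u} (TruncatedWittVector p n R))
    [hN : Module.Flat (TruncatedWittVector p n R) N] :
    Function.Bijective (fun φ : M ⟶ N =>
      (show (W4c3truncdispsmooth.wittModPF.{u} p n).obj ⟨op (op (CommRingCat.of R))⟩ ⥤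
          (W4c3truncdispsmooth.wittModPF.{u} p n).DescentData
            (fun _ : PUnit.{u + 1} => (CommRingCat.ofHom (algebraMap R R')).op) from
        ((PFof (wittTrunc.{u} p n)).toDescentData
        (fun _ : PUnit.{u + 1} => (CommRingCat.ofHom (algebraMap R R')).op))).map φ) :=
  main3 p n R R' M N

theorem main (R R' : Type u) [CommRing R] [CommRing R'] [Algebra R R'] [Module.FaithfullyFlat R R']
    (M N : ModuleCat.{u} (TruncatedWittVector p n R))
    [hN : Module.Flat (TruncatedWittVector p n R) N] :
    Function.Bijective (fun φ : M ⟶ N =>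
      ((W4c3truncdispsmooth.wittModPF.{u} p n).toDescentData
        (fun _ : PUnit.{u + 1} => (CommRingCat.ofHom (algebraMap R R')).op)).map φ) := by
  rw [X0 p n R R']
  exact key p n R R' M N

end Groth.Agent.Lib27.WittDesc
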