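import Mathlib
import Groth.Prelude.Def_WittGrp
set_option autoImplicit false
universe u
open WittVector

namespace Groth.Agent.Lib27.WittFil

variable (p : ℕ) [hp : Fact p.Prime] {T : Type u} [CommRing T]

theorem ghost_eq_sum (k : ℕ) (x : WittVector p T) :
    WittVector.ghostComponent k x =
      ∑ i ∈ Finset.range (k + 1), (p : T) ^ i * x.coeff i ^ p ^ (k - i) := by
  rw [WittVector.ghostComponent_apply, aeval_wittPolynomial]

/-- big V-filtration -/
def bigI (k : ℕ) (x : WittVector p T) : Prop := ∀ i < k, x.coeff i = 0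

variable {p}

theorem bigI_iff (k : ℕ) (x : WittVector p T) :
    bigI p k x ↔ ∃ X : WittVector p T, x = (⇑verschiebung)^[k] X := by
  constructor
  · intro h
    exact ⟨_, WittVector.eq_iterate_verschiebung h⟩
  · rintro ⟨X, rfl⟩ i hi
    exact WittVector.iterate_verschiebung_coeff_eq_zero X hi

theorem iterV_coeff (k : ℕ) (X : WittVector p T) : ((⇑verschiebung)^[k] X).coeff k = X.coeff 0 := by
  have := WittVector.iterate_verschiebung_coeff X k 0
  rwa [zero_add] at this

theorem iterV_add (k : ℕ) (X Y : WittVector p T) :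
    (⇑verschiebung)^[k] (X + Y) = (⇑verschiebung)^[k] X + (⇑verschiebung)^[k] Y := by
  induction k generalizing X Y with
  | zero => rfl
  | succ k ih => rw [Function.iterate_succ_apply, map_add, ih, Function.iterate_succ_apply,
      Function.iterate_succ_apply]

theorem coeff_add_of_bigI (k : ℕ) (x y : WittVector p T) (hx : bigI p k x) (hy : bigI p k y) :
    (x + y).coeff k = x.coeff k + y.coeff k := by
  obtain ⟨X, rfl⟩ := (bigI_iff k x).mp hx
  obtain ⟨Y, rfl⟩ := (bigI_iff k y).mp hy
  rw [← iterV_add, iterV_coeff, iterV_coeff, iterV_coeff, WittVector.add_coeff_zero]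

theorem iterF_coeff_zero (k : ℕ) (a : WittVector p T) :
    ((⇑(WittVector.frobenius (p := p) (R := T)))^[k] a).coeff 0 = WittVector.ghostComponent k a := by
  induction k generalizing a with
  | zero =>
    rw [Function.iterate_zero, id, ghost_eq_sum]
    simp
  | succ k ih =>
    rw [Function.iterate_succ_apply, ih, WittVector.ghostComponent_frobenius]

theorem coeff_mul_of_bigI (k : ℕ) (a x : WittVector p T) (hx : bigI p k x) :
    (a * x).coeff k = WittVector.ghostComponent k a * x.coeff k := by
  obtain ⟨X, rfl⟩ := (bigI_iff k x).mp hx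
  rw [mul_comm, WittVector.iterate_verschiebung_mul_left, iterV_coeff, iterV_coeff,
    WittVector.mul_coeff_zero, iterF_coeff_zero, mul_comm]

theorem ghost_of_bigI (k : ℕ) (x : WittVector p T) (hx : bigI p k x) :
    WittVector.ghostComponent k x = (p : T) ^ k * x.coeff k := by
  rw [ghost_eq_sum, Finset.sum_range_succ, Finset.sum_eq_zero, zero_add, Nat.sub_self, pow_zero,
    pow_one]
  intro i hi
  rw [Finset.mem_range] at hi
  rw [hx i hi, zero_pow (pow_ne_zero _ hp.out.ne_zero), mul_zero]

theorem ghost_eq_zero_of_bigI (k j : ℕ) (hj : j < k) (x : WittVector p T) (hx : bigI p k x) :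
    WittVector.ghostComponent j x = 0 := by
  rw [ghost_eq_sum]
  apply Finset.sum_eq_zero
  intro i hi
  rw [Finset.mem_range] at hi
  rw [hx i (by omega), zero_pow (pow_ne_zero _ hp.out.ne_zero), mul_zero]

end Groth.Agent.Lib27.WittFil
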