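import Mathlib
import Groth.Prelude.Def_WittGrp
import Groth.Agent.Lib27.Alg.WittFil0
set_option autoImplicit false
universe u
open WittVector

namespace Groth.Agent.Lib27.WittFil

variable {p : ℕ} [hp : Fact p.Prime] (n : ℕ) {T : Type u} [CommRing T]

theorem ker_trunc_le (k : ℕ) (hk : k < n) :
    RingHom.ker (WittVector.truncate (p := p) (R := T) n) ≤
      RingHom.ker (WittVector.ghostComponent (p := p) (R := T) k) := by
  intro x hx
  rw [WittVector.mem_ker_truncate] at hx
  exact ghost_eq_zero_of_bigI n k hk x hx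

/-- the ghost map on truncated Witt vectors -/
noncomputable def gh (k : ℕ) (hk : k < n) : TruncatedWittVector p n T →+* T :=
  RingHom.liftOfSurjective (WittVector.truncate n) (WittVector.truncate_surjective p n T)
    ⟨WittVector.ghostComponent k, ker_trunc_le n k hk⟩

theorem gh_truncate (k : ℕ) (hk : k < n) (x : WittVector p T) :
    gh n k hk (WittVector.truncate n x) = WittVector.ghostComponent k x :=
  RingHom.liftOfSurjective_comp_apply _ _ _ x

theorem truncate_out (y : TruncatedWittVector p n T) : WittVector.truncate n y.out = y :=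
  TruncatedWittVector.truncateFun_out y

theorem out_coeff_ge (y : TruncatedWittVector p n T) (i : ℕ) (hi : n ≤ i) : y.out.coeff i = 0 := by
  rw [TruncatedWittVector.out]
  dsimp only
  rw [dif_neg (by omega)]

/-- the V-filtration -/
noncomputable def vI (k : ℕ) : Ideal (TruncatedWittVector p n T) :=
  RingHom.ker (TruncatedWittVector.truncate (p := p) (R := T) (min_le_right k n))

theorem mem_vI (k : ℕ) (y : TruncatedWittVector p n T) :
    y ∈ vI n k ↔ ∀ i : Fin n, (i : ℕ) < k → y.coeff i = 0 := by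
  rw [vI, RingHom.mem_ker]
  constructor
  · intro h i hi
    have h1 := congrArg (fun z => z.coeff ⟨i, lt_min hi i.2⟩) h
    simp only [TruncatedWittVector.coeff_truncate, TruncatedWittVector.coeff_zero] at h1
    exact h1
  · intro h
    ext j
    rw [TruncatedWittVector.coeff_truncate, TruncatedWittVector.coeff_zero]
    exact h _ (lt_of_lt_of_le j.2 (min_le_left k n))

theorem bigI_out (k : ℕ) (y : TruncatedWittVector p n T) (hy : y ∈ vI n k) : bigI p k y.out := by
  intro i hi
  by_cases h : i < n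
  · have := TruncatedWittVector.coeff_out y ⟨i, h⟩
    rw [this]
    exact (mem_vI n k y).mp hy ⟨i, h⟩ hi
  · exact out_coeff_ge n y i (by omega)

theorem vI_anti (k : ℕ) : vI (p := p) (T := T) n (k + 1) ≤ vI n k := by
  intro y hy
  rw [mem_vI] at hy ⊢
  intro i hi
  exact hy i (by omega)

theorem vI_zero : vI (p := p) (T := T) n 0 = ⊤ := by
  rw [eq_top_iff]
  intro y _
  rw [mem_vI]
  intro i hi
  omega

theorem vI_bot (k : ℕ) (hk : n ≤ k) : vI (p := p) (T := T) n k = ⊥ := by
  rw [eq_bot_iff]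
  intro y hy
  rw [mem_vI] at hy
  rw [Ideal.mem_bot]
  ext i
  rw [TruncatedWittVector.coeff_zero]
  exact hy i (lt_of_lt_of_le i.2 hk)

theorem coeff_add_vI (k : ℕ) (hk : k < n) (y y' : TruncatedWittVector p n T) (hy : y ∈ vI n k)
    (hy' : y' ∈ vI n k) : (y + y').coeff ⟨k, hk⟩ = y.coeff ⟨k, hk⟩ + y'.coeff ⟨k, hk⟩ := by
  have h1 := coeff_add_of_bigI k _ _ (bigI_out n k y hy) (bigI_out n k y' hy')
  have h2 : y + y' = WittVector.truncate n (y.out + y'.out) := by
    rw [map_add, truncate_out, truncate_out]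
  rw [h2, WittVector.coeff_truncate]
  exact h1.trans (by rw [← TruncatedWittVector.coeff_out y ⟨k, hk⟩,
    ← TruncatedWittVector.coeff_out y' ⟨k, hk⟩])

theorem coeff_mul_vI (k : ℕ) (hk : k < n) (a y : TruncatedWittVector p n T) (hy : y ∈ vI n k) :
    (a * y).coeff ⟨k, hk⟩ = gh n k hk a * y.coeff ⟨k, hk⟩ := by
  have h1 := coeff_mul_of_bigI k a.out _ (bigI_out n k y hy)
  have h2 : a * y = WittVector.truncate n (a.out * y.out) := by
    rw [map_mul, truncate_out, truncate_out]
  rw [h2, WittVector.coeff_truncate]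
  refine h1.trans ?_
  rw [← gh_truncate n k hk, truncate_out, ← TruncatedWittVector.coeff_out y ⟨k, hk⟩]

theorem gh_vI (k : ℕ) (hk : k < n) (y : TruncatedWittVector p n T) (hy : y ∈ vI n k) :
    gh n k hk y = (p : T) ^ k * y.coeff ⟨k, hk⟩ := by
  have h1 := ghost_of_bigI k _ (bigI_out n k y hy)
  rw [← gh_truncate n k hk, truncate_out] at h1
  rw [h1, ← TruncatedWittVector.coeff_out y ⟨k, hk⟩]

theorem mem_vI_succ (k : ℕ) (hk : k < n) (y : TruncatedWittVector p n T) :
    y ∈ vI n (k + 1) ↔ y ∈ vI n k ∧ y.coeff ⟨k, hk⟩ = 0 := by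
  rw [mem_vI, mem_vI]
  constructor
  · intro h
    exact ⟨fun i hi => h i (by omega), h ⟨k, hk⟩ (by simp)⟩
  · rintro ⟨h1, h2⟩ i hi
    by_cases h : (i : ℕ) < k
    · exact h1 i h
    · have : i = ⟨k, hk⟩ := Fin.ext (by simp; omega)
      rw [this]
      exact h2

theorem gh_zero (hn : 0 < n) (y : TruncatedWittVector p n T) : gh n 0 hn y = y.coeff ⟨0, hn⟩ := by
  have := gh_vI n 0 hn y (by rw [vI_zero]; trivial)
  rw [this, pow_zero, one_mul]

section Nat

variable {T' : Type u} [CommRing T'] (h : T →+* T')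

theorem gh_truncMap (k : ℕ) (hk : k < n) (y : TruncatedWittVector p n T) :
    gh n k hk (WittGrp.truncMap p n h y) = h (gh n k hk y) := by
  conv_lhs => rw [← truncate_out n y]
  rw [WittGrp.truncMap_truncate, gh_truncate, ghost_eq_sum]
  conv_rhs => rw [← truncate_out n y, gh_truncate, ghost_eq_sum]
  rw [map_sum]
  apply Finset.sum_congr rfl
  intro i _
  rw [map_mul, map_pow, map_pow, WittVector.map_coeff, map_natCast]

theorem truncMap_mem_vI (k : ℕ) (y : TruncatedWittVector p n T) (hy : y ∈ vI n k) :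
    WittGrp.truncMap p n h y ∈ vI n k := by
  rw [mem_vI] at hy ⊢
  intro i hi
  rw [WittGrp.coeff_truncMap, hy i hi, map_zero]

end Nat

theorem exists_coeff (k : ℕ) (hk : k < n) (c : T) :
    ∃ y : TruncatedWittVector p n T, y ∈ vI n k ∧ y.coeff ⟨k, hk⟩ = c := by
  refine ⟨TruncatedWittVector.mk p (fun i => if i = ⟨k, hk⟩ then c else 0), ?_, ?_⟩
  · rw [mem_vI]
    intro i hi
    rw [TruncatedWittVector.coeff_mk, if_neg]
    intro h
    rw [h] at hi
    simp at hi
  · rw [TruncatedWittVector.coeff_mk, if_pos rfl]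

theorem pow_mem_vI_succ (N : ℕ) (hN : (p : T) ^ N = 0) (k : ℕ) (hk1 : 1 ≤ k) (hk : k < n)
    (y : TruncatedWittVector p n T) (hy : y ∈ vI n k) : y ^ (N + 1) ∈ vI n (k + 1) := by
  rw [mem_vI_succ n k hk]
  refine ⟨Ideal.pow_mem_of_mem _ hy _ (by omega), ?_⟩
  rw [pow_succ, coeff_mul_vI n k hk _ _ hy, map_pow, gh_vI n k hk y hy, mul_pow, ← pow_mul,
    mul_comm k N, pow_mul, hN, zero_pow (by omega), zero_mul, zero_mul]

theorem isNilpotent_of_mem_vI_one (N : ℕ) (hN : (p : T) ^ N = 0)
    (y : TruncatedWittVector p n T) (hy : y ∈ vI n 1) : IsNilpotent y := by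
  have key : ∀ j : ℕ, ∃ e : ℕ, y ^ e ∈ vI n (1 + j) := by
    intro j
    induction j with
    | zero => exact ⟨1, by rw [pow_one]; exact hy⟩
    | succ j ih =>
      obtain ⟨e, he⟩ := ih
      by_cases hj : 1 + j < n
      · refine ⟨e * (N + 1), ?_⟩
        rw [pow_mul]
        exact pow_mem_vI_succ n N hN (1 + j) (by omega) hj _ he
      · refine ⟨e, ?_⟩
        rw [vI_bot n (1 + j) (by omega)] at he
        rw [Ideal.mem_bot] at he
        rw [he]
        exact Ideal.zero_mem _
  obtain ⟨e, he⟩ := key n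
  rw [vI_bot n (1 + n) (by omega), Ideal.mem_bot] at he
  exact ⟨e, he⟩

end Groth.Agent.Lib27.WittFil
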