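import Mathlib
import Groth.Prelude.Def_W4c3truncdispsmoothDesc
import Groth.Agent.Lib27.Alg.WittFil1
import Groth.Agent.Lib27.Alg.FunLift3
set_option autoImplicit false
universe u
open CategoryTheory CategoryTheory.Limits Opposite TensorProduct ChangeOfRings

namespace Groth.Agent.Lib27.WittFil

open W4c3truncdispsmooth Groth.Agent.Lib27.FunDesc Groth.Agent.Lib27.ModDesc

variable (p : ℕ) [hp : Fact p.Prime] (n : ℕ)

/-- the ghost maps as natural transformations -/
noncomputable def ghostNT (k : ℕ) (hk : k < n) : wittTrunc.{u} p n ⟶ 𝟭 CommRingCat.{u} where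
  app T := CommRingCat.ofHom (gh (p := p) n k hk)
  naturality T T' h := by
    ext y
    exact gh_truncMap n h.hom k hk y

theorem ghostNT_app (k : ℕ) (hk : k < n) (T : CommRingCat.{u}) (y : TruncatedWittVector p n T) :
    tauR (ghostNT.{u} p n k hk) T y = gh n k hk y := rfl

/-- the V-filtration as natural family of ideals -/
noncomputable def vFil (k : ℕ) : IdFam (wittTrunc.{u} p n) where
  I T := vI (p := p) (T := T) n k
  nat h x hx := truncMap_mem_vI n h.hom k x hx

/-- the coefficient function -/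
noncomputable def cf (k : ℕ) (hk : k < n) (T : CommRingCat.{u}) (y : (wittTrunc.{u} p n).obj T) : T :=
  TruncatedWittVector.coeff (p := p) (n := n) (R := T) ⟨k, hk⟩ y

theorem cf_add (k : ℕ) (hk : k < n) (T : CommRingCat.{u}) (y y' : (wittTrunc.{u} p n).obj T)
    (hy : y ∈ (vFil.{u} p n k).I T) (hy' : y' ∈ (vFil.{u} p n k).I T) :
    cf p n k hk T (y + y') = cf p n k hk T y + cf p n k hk T y' :=
  coeff_add_vI n k hk _ _ hy hy'

theorem cf_mul (k : ℕ) (hk : k < n) (T : CommRingCat.{u}) (a y : (wittTrunc.{u} p n).obj T)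
    (hy : y ∈ (vFil.{u} p n k).I T) :
    cf p n k hk T (a * y) = (show (T : Type u) from tauR (ghostNT.{u} p n k hk) T a) * cf p n k hk T y :=
  coeff_mul_vI n k hk _ _ hy

theorem mem_vFil_succ (k : ℕ) (hk : k < n) (T : CommRingCat.{u}) (y : (wittTrunc.{u} p n).obj T) :
    y ∈ (vFil.{u} p n (k + 1)).I T ↔ y ∈ (vFil.{u} p n k).I T ∧ cf p n k hk T y = 0 :=
  mem_vI_succ n k hk _

theorem exists_cf (k : ℕ) (hk : k < n) (T : CommRingCat.{u}) (c : T) :
    ∃ y : (wittTrunc.{u} p n).obj T, y ∈ (vFil.{u} p n k).I T ∧ cf p n k hk T y = c :=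
  exists_coeff (p := p) n k hk c

theorem cf_map (k : ℕ) (hk : k < n) {T T' : CommRingCat.{u}} (h : T ⟶ T')
    (y : (wittTrunc.{u} p n).obj T) :
    cf p n k hk T' (((wittTrunc.{u} p n).map h).hom y) = h.hom (cf p n k hk T y) :=
  WittGrp.coeff_truncMap p n h.hom _ _

/-- the symbol maps -/
noncomputable def symb (k : ℕ) (hk : k < n) :
    Symb (ghostNT.{u} p n k hk) (vFil.{u} p n k) (vFil.{u} p n (k + 1)) where
  le T := vI_anti n k
  σ T :=
    { toFun := fun y => resTo (tauR (ghostNT.{u} p n k hk) T) (ModuleCat.of T T) (cf p n k hk T y.1)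
      map_add' := fun y y' => by
        show resTo (tauR (ghostNT.{u} p n k hk) T) (ModuleCat.of T T) (cf p n k hk T (y.1 + y'.1)) = _
        rw [cf_add p n k hk T _ _ y.2 y'.2, map_add]
      map_smul' := fun a y => by
        show resTo (tauR (ghostNT.{u} p n k hk) T) (ModuleCat.of T T) (cf p n k hk T (a * y.1)) = _
        rw [cf_mul p n k hk T _ _ y.2]
        rfl }
  nat h y := cf_map p n k hk h y.1
  exact T := by
    intro y
    constructor
    · intro hy
      have hy' : cf p n k hk T y.1 = 0 := hy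
      exact ⟨⟨y.1, (mem_vFil_succ p n k hk T _).mpr ⟨y.2, hy'⟩⟩, rfl⟩
    · rintro ⟨z, rfl⟩
      exact ((mem_vFil_succ p n k hk T _).mp z.2).2
  surj T := by
    intro c
    obtain ⟨y, hy, hc⟩ := exists_cf p n k hk T (resOf _ _ c)
    exact ⟨⟨y, hy⟩, hc⟩

theorem sigV_symb (k : ℕ) (hk : k < n) (T : CommRingCat.{u}) (y : (vFil.{u} p n k).I T) :
    sigV (ghostNT.{u} p n k hk) (symb.{u} p n k hk) T y = cf p n k hk T y.1 := rfl

theorem cf_zero (hn : 0 < n) (T : CommRingCat.{u}) (y : (wittTrunc.{u} p n).obj T) :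
    cf p n 0 hn T y = tauR (ghostNT.{u} p n 0 hn) T y :=
  (gh_zero n hn _).symm

theorem vFil_zero (T : CommRingCat.{u}) : (vFil.{u} p n 0).I T = ⊤ := vI_zero n

theorem vFil_bot (T : CommRingCat.{u}) : (vFil.{u} p n n).I T = ⊥ := vI_bot n n le_rfl

theorem isNilpotent_of_mem_vFil_one (T : CommRingCat.{u}) (hT : IsNilpotent (p : T))
    (y : (wittTrunc.{u} p n).obj T) (hy : y ∈ (vFil.{u} p n 1).I T) : IsNilpotent y := by
  obtain ⟨N, hN⟩ := hT
  exact isNilpotent_of_mem_vI_one n N hN _ hy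

theorem ker_ghost_zero (hn : 0 < n) (T : CommRingCat.{u}) :
    RingHom.ker (tauR (ghostNT.{u} p n 0 hn) T) = (vFil.{u} p n 1).I T := by
  ext y
  rw [RingHom.mem_ker, mem_vFil_succ p n 0 hn T, ← cf_zero]
  constructor
  · intro h
    exact ⟨by rw [vFil_zero]; trivial, h⟩
  · intro h
    exact h.2

theorem ghost_zero_surjective (hn : 0 < n) (T : CommRingCat.{u}) :
    Function.Surjective (tauR (ghostNT.{u} p n 0 hn) T) := by
  intro c
  obtain ⟨y, _, hc⟩ := exists_cf p n 0 hn T c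
  exact ⟨y, by rw [← cf_zero, hc]⟩

end Groth.Agent.Lib27.WittFil
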