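import Groth.Agent.Lib27.Alg.FunTower3
import Groth.Agent.Lib27.Alg.WittFil2
import Groth.Agent.Lib27.Alg.StdCov3
import Groth.Agent.Lib27.Alg.FunKappa
import Groth.Agent.Lib27.Alg.ProjDesc
import Groth.Agent.Lib27.Alg.ProjLift
import Groth.Agent.Lib27.Alg.WittDesc
set_option autoImplicit false
set_option maxHeartbeats 4000000
set_option synthInstance.maxHeartbeats 400000
universe u
open CategoryTheory CategoryTheory.Limits Opposite TensorProduct ChangeOfRings

namespace Groth.Agent.Lib27.WittEff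

open Groth.Agent.Lib27.ModDesc Groth.Agent.Lib27.FunDesc Groth.Agent.Lib27.WittFil
  W4c3truncdispsmooth

variable (p : ℕ) [hp : Fact p.Prime] (n : ℕ)

/-- the Witt tower -/
noncomputable def wTower : Tower (wittTrunc.{u} p n) (𝟭 CommRingCat.{u}) n where
  τ k hk := ghostNT p n k hk
  J k := vFil p n k
  sg k hk := symb p n k hk
  bot T := vFil_bot p n T

theorem hsig0 (hn : 0 < n) (T : CommRingCat.{u}) (y : ((wTower.{u} p n).J 0).I T) :
    sigV ((wTower.{u} p n).τ 0 hn) ((wTower.{u} p n).sg 0 hn) T y =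
      tauR ((wTower.{u} p n).τ 0 hn) T y.1 :=
  cf_zero p n hn T y.1

theorem ker_le_jacobson (hn : 0 < n) (T : CommRingCat.{u}) (hT : IsNilpotent (p : T)) :
    RingHom.ker (tauR ((wTower.{u} p n).τ 0 hn) T) ≤ Ideal.jacobson ⊥ := by
  intro y hy
  have h1 : RingHom.ker (tauR (ghostNT.{u} p n 0 hn) T) = (vFil.{u} p n 1).I T :=
    ker_ghost_zero p n hn T
  have h2 : y ∈ (vFil.{u} p n 1).I T := h1 ▸ hy
  have h3 := isNilpotent_of_mem_vFil_one p n T hT y h2
  exact Ideal.radical_le_jacobson ((mem_nilradical (R := (wittTrunc.{u} p n).obj T)).mpr h3)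

theorem ker_nil (hn : 0 < n) (T : CommRingCat.{u}) (hT : IsNilpotent (p : T))
    (y : (wittTrunc.{u} p n).obj T) (hy : y ∈ RingHom.ker (tauR ((wTower.{u} p n).τ 0 hn) T)) :
    IsNilpotent y := by
  have h1 : RingHom.ker (tauR (ghostNT.{u} p n 0 hn) T) = (vFil.{u} p n 1).I T :=
    ker_ghost_zero p n hn T
  have h2 : y ∈ (vFil.{u} p n 1).I T := h1 ▸ hy
  exact isNilpotent_of_mem_vFil_one p n T hT y h2

section Pos

variable (R R' : Type u) [CommRing R] [CommRing R'] [Algebra R R'] [Module.FaithfullyFlat R R']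

theorem finite_projective_descent (N₀ : ModuleCat.{u} R)
    (h1 : Module.Finite R' ((ModuleCat.extendScalars (algebraMap R R')).obj N₀))
    (h2 : Module.Projective R' ((ModuleCat.extendScalars (algebraMap R R')).obj N₀)) :
    Module.Finite R N₀ ∧ Module.Projective R N₀ := by
  haveI : Module.Finite R' (R' ⊗[R] N₀) := Module.Finite.equiv (ExtBridge.toTL (S := R') N₀)
  haveI : Module.Projective R' (R' ⊗[R] N₀) :=
    Module.Projective.of_equiv (ExtBridge.toTL (S := R') N₀)
  exact ProjDesc.finite_projective_of_faithfullyFlat (R := R) (S := R') N₀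

theorem main_pos (hn : 0 < n) (hpR : IsNilpotent (p : R))
    (D : (PFof (wittTrunc.{u} p n)).DescentData (S := op (CommRingCat.of R))
      (X := fun _ => op (CommRingCat.of R'))
      (fun _ : PUnit.{u + 1} => (CommRingCat.ofHom (algebraMap R R')).op))
    [hD1 : Module.Finite ((wittTrunc.{u} p n).obj (CommRingCat.of R')) (dObj (wittTrunc.{u} p n) D)]
    [hD2 : Module.Projective ((wittTrunc.{u} p n).obj (CommRingCat.of R'))
      (dObj (wittTrunc.{u} p n) D)] :
    ∃ M : ModuleCat.{u} ((wittTrunc.{u} p n).obj (CommRingCat.of R)),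
      Module.Finite ((wittTrunc.{u} p n).obj (CommRingCat.of R)) M ∧
      Module.Projective ((wittTrunc.{u} p n).obj (CommRingCat.of R)) M ∧
      Nonempty (((PFof (wittTrunc.{u} p n)).toDescentData (S := op (CommRingCat.of R))
        (X := fun _ => op (CommRingCat.of R'))
        (fun _ : PUnit.{u + 1} => (CommRingCat.ofHom (algebraMap R R')).op)).obj M ≅ D) := by
  have hpR' : IsNilpotent (p : R') := by
    have := hpR.map (algebraMap R R')
    rwa [map_natCast] at this
  -- the base case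
  obtain ⟨N₀, ⟨e₀⟩⟩ := exists_module_std R R' (pushD ((wTower.{u} p n).τ 0 hn) D)
  obtain ⟨κ₀, hκ₀⟩ := exists_kappa_of_iso (𝟭 CommRingCat.{u})
    (pushD ((wTower.{u} p n).τ 0 hn) D) N₀ e₀
  have hM0f : Module.Finite R' (dObj (𝟭 CommRingCat.{u}) (pushD ((wTower.{u} p n).τ 0 hn) D)) :=
    ExtBridge.ext_finite (tauR ((wTower.{u} p n).τ 0 hn) (CommRingCat.of R'))
      (dObj (wittTrunc.{u} p n) D)
  have hM0p : Module.Projective R'
      (dObj (𝟭 CommRingCat.{u}) (pushD ((wTower.{u} p n).τ 0 hn) D)) :=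
    ExtBridge.ext_projective (tauR ((wTower.{u} p n).τ 0 hn) (CommRingCat.of R'))
      (dObj (wittTrunc.{u} p n) D)
  have hN1 : Module.Finite R' ((ModuleCat.extendScalars (algebraMap R R')).obj N₀) :=
    @ExtBridge.finite_of_iso _ _ _ _ κ₀.symm hM0f
  have hN2 : Module.Projective R' ((ModuleCat.extendScalars (algebraMap R R')).obj N₀) :=
    @ExtBridge.projective_of_iso _ _ _ _ κ₀.symm hM0p
  obtain ⟨hN₀f, hN₀p⟩ := finite_projective_descent R R' N₀ hN1 hN2
  -- the lift
  haveI i1 : Module.Finite ((𝟭 CommRingCat.{u}).obj (CommRingCat.of R)) N₀ := hN₀f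
  haveI i2 : Module.Projective ((𝟭 CommRingCat.{u}).obj (CommRingCat.of R)) N₀ := hN₀p
  obtain ⟨P, hP1, hP2, ⟨ε⟩⟩ := ProjLift.exists_lift
    (tauR ((wTower.{u} p n).τ 0 hn) (CommRingCat.of R))
    (ghost_zero_surjective p n hn (CommRingCat.of R))
    (ker_nil p n hn (CommRingCat.of R) hpR) N₀
  haveI hflatD : Module.Flat ((wittTrunc.{u} p n).obj (CommRingCat.of R'))
    (dObj (wittTrunc.{u} p n) D) := inferInstance
  refine ⟨P, hP1, hP2, ?_⟩
  exact exists_iso_of_tower (wTower.{u} p n) D (stdCov R R') hn P N₀ ε κ₀ hκ₀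
    (hsig0 p n hn)
    (fun k hk => H1van_std R R' (pushD ((wTower.{u} p n).τ k hk) D))
    (ExtBridge.ext_flat _ _)
    (ghost_zero_surjective p n hn (CommRingCat.of R'))
    (ker_le_jacobson p n hn (CommRingCat.of R') hpR')

end Pos

end Groth.Agent.Lib27.WittEff
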