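import Groth.Agent.Lib27.Alg.WittEff
set_option autoImplicit false
set_option maxHeartbeats 4000000
set_option synthInstance.maxHeartbeats 400000
universe u
open CategoryTheory CategoryTheory.Limits Opposite TensorProduct ChangeOfRings

namespace Groth.Agent.Lib27.WittEff

open Groth.Agent.Lib27.ModDesc Groth.Agent.Lib27.FunDesc Groth.Agent.Lib27.WittFil
  W4c3truncdispsmooth

theorem iso_of_subsingleton {A : Type u} [CommRing A] [Subsingleton A] (M N : ModuleCat.{u} A) :
    Nonempty (M ≅ N) := by
  haveI : Subsingleton M := Module.subsingleton A M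
  haveI : Subsingleton N := Module.subsingleton A N
  exact ⟨(LinearEquiv.ofSubsingleton M N).toModuleIso⟩

theorem hom_eq_of_subsingleton {A : Type u} [CommRing A] [Subsingleton A] {M N : ModuleCat.{u} A}
    (a b : M ⟶ N) : a = b := by
  haveI : Subsingleton N := Module.subsingleton A N
  exact ModuleCat.hom_ext (LinearMap.ext fun x => Subsingleton.elim _ _)

theorem exists_iso_of_trivial (W : CommRingCat.{u} ⥤ CommRingCat.{u})
    (hW : ∀ T : CommRingCat.{u}, Subsingleton (W.obj T))
    {S : CommRingCat.{u}ᵒᵖ} {X : PUnit.{u + 1} → CommRingCat.{u}ᵒᵖ} {f : ∀ i, X i ⟶ S}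
    (D : (PFof W).DescentData f) (P : ModuleCat.{u} (W.obj S.unop)) :
    Nonempty (((PFof W).toDescentData f).obj P ≅ D) := by
  haveI := hW (X PUnit.unit).unop
  obtain ⟨e⟩ := iso_of_subsingleton ((ModuleCat.extendScalars (wf W f)).obj P) (dObj W D)
  refine exists_iso_of W D P e ?_
  intro Y q f₁ f₂ hf₁ hf₂
  haveI := hW Y.unop
  exact hom_eq_of_subsingleton _ _

variable (p : ℕ) [hp : Fact p.Prime]

theorem main_zero (R R' : Type u) [CommRing R] [CommRing R'] [Algebra R R']
    (D : (PFof (wittTrunc.{u} p 0)).DescentData (S := op (CommRingCat.of R))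
      (X := fun _ => op (CommRingCat.of R'))
      (fun _ : PUnit.{u + 1} => (CommRingCat.ofHom (algebraMap R R')).op)) :
    ∃ M : ModuleCat.{u} ((wittTrunc.{u} p 0).obj (CommRingCat.of R)),
      Module.Finite ((wittTrunc.{u} p 0).obj (CommRingCat.of R)) M ∧
      Module.Projective ((wittTrunc.{u} p 0).obj (CommRingCat.of R)) M ∧
      Nonempty (((PFof (wittTrunc.{u} p 0)).toDescentData (S := op (CommRingCat.of R))
        (X := fun _ => op (CommRingCat.of R'))
        (fun _ : PUnit.{u + 1} => (CommRingCat.ofHom (algebraMap R R')).op)).obj M ≅ D) := by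
  have hW : ∀ T : CommRingCat.{u}, Subsingleton ((wittTrunc.{u} p 0).obj T) := by
    intro T
    exact inferInstanceAs (Subsingleton (Fin 0 → T))
  haveI := hW (CommRingCat.of R)
  refine ⟨ModuleCat.of _ PUnit.{u + 1}, inferInstance, Module.Projective.of_free, ?_⟩
  exact exists_iso_of_trivial (wittTrunc.{u} p 0) hW D _

theorem main' (n : ℕ) (R R' : Type u) [CommRing R] [CommRing R'] [Algebra R R']
    [Module.FaithfullyFlat R R'] (hpR : IsNilpotent (p : R))
    (D : (PFof (wittTrunc.{u} p n)).DescentData (S := op (CommRingCat.of R))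
      (X := fun _ => op (CommRingCat.of R'))
      (fun _ : PUnit.{u + 1} => (CommRingCat.ofHom (algebraMap R R')).op))
    [hD1 : Module.Finite ((wittTrunc.{u} p n).obj (CommRingCat.of R')) (dObj (wittTrunc.{u} p n) D)]
    [hD2 : Module.Projective ((wittTrunc.{u} p n).obj (CommRingCat.of R'))
      (dObj (wittTrunc.{u} p n) D)] :
    ∃ M : ModuleCat.{u} ((wittTrunc.{u} p n).obj (CommRingCat.of R)),
      Module.Finite ((wittTrunc.{u} p n).obj (CommRingCat.of R)) M ∧
      Module.Projective ((wittTrunc.{u} p n).obj (CommRingCat.of R)) M ∧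
      Nonempty (((PFof (wittTrunc.{u} p n)).toDescentData (S := op (CommRingCat.of R))
        (X := fun _ => op (CommRingCat.of R'))
        (fun _ : PUnit.{u + 1} => (CommRingCat.ofHom (algebraMap R R')).op)).obj M ≅ D) := by
  rcases Nat.eq_zero_or_pos n with rfl | hn
  · exact main_zero p R R' D
  · exact main_pos p n R R' hn hpR D

theorem main (n : ℕ) (R R' : Type u) [CommRing R] [CommRing R'] [Algebra R R']
    [Module.FaithfullyFlat R R'] (hpR : IsNilpotent (p : R))
    (D : (W4c3truncdispsmooth.wittModPF.{u} p n).DescentData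
      (fun _ : PUnit.{u + 1} => (CommRingCat.ofHom (algebraMap R R')).op))
    [hD1 : Module.Finite (TruncatedWittVector p n R') (W4c3truncdispsmooth.descObj D)]
    [hD2 : Module.Projective (TruncatedWittVector p n R') (W4c3truncdispsmooth.descObj D)] :
    ∃ M : ModuleCat.{u} (TruncatedWittVector p n R),
      Module.Finite (TruncatedWittVector p n R) M ∧ Module.Projective (TruncatedWittVector p n R) M ∧
        Nonempty (((W4c3truncdispsmooth.wittModPF.{u} p n).toDescentData
          (fun _ : PUnit.{u + 1} => (CommRingCat.ofHom (algebraMap R R')).op)).obj M ≅ D) :=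
  @main' p _ n R R' _ _ _ _ hpR D hD1 hD2

end Groth.Agent.Lib27.WittEff
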